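import Mathlib
import Cfsg.Prelude.Def_Local
import Cfsg.Agent.H271.QuadTwo
import Cfsg.Agent.Lib.Cores
import Cfsg.Agent.Lib.GenFitting
import Cfsg.Agent.Lib.BenderMaximal
import Cfsg.Agent.Lib.FrattiniPGroup
import Cfsg.Agent.Lib.PGroupCoprimeAction
import Cfsg.Agent.SignalizersComponents.CompOrbit
import Cfsg.Agent.SmallSimple.S1000.TwoOnThree
import Cfsg.Agent.S0017
import Cfsg.Agent.S0029

/-!
# Automorphisms of order three with fixed points of odd order on solvable groups of order prime to three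

`core_case` : `O(G) = 1`: `g⁻¹ φ(g) ∈ O₂(G)`.
-/

set_option autoImplicit false

namespace Cfsg.Agent.H271.FpfThree

open Cfsg Cfsg.Agent.H271.QuadTwo

section ring

variable {R : Type*} [Ring R] [Finite R]

/-- From a finite set of units closed under conjugation to the normaliser. -/
theorem zpowers_le_normalizer {X : Type*} [Group X] [Finite X] {s : X} {K : Subgroup X} (hsK : ∀ k ∈ K, s⁻¹ * k * s ∈ K) :
    Subgroup.zpowers s ≤ Subgroup.normalizer (K : Set X) := by
  have hmap : K.map (MulAut.conj s⁻¹).toMonoidHom = K := by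
    apply Subgroup.eq_of_le_of_card_ge
    · rintro _ ⟨x, hx, rfl⟩
      simpa [MulAut.conj_apply] using hsK x hx
    · exact (Nat.card_congr ((K.equivMapOfInjective _ (MulAut.conj s⁻¹).injective).toEquiv)).le
  have hsN : s⁻¹ ∈ Subgroup.normalizer (K : Set X) := by
    rw [Subgroup.mem_normalizer_iff]
    intro x
    constructor
    · intro hx
      simpa using hsK x hx
    · intro hx
      rw [inv_inv] at hx
      rw [← hmap] at hx
      obtain ⟨y, hy, hyx⟩ := hx
      have : y = x := (MulAut.conj s⁻¹).injective (by simpa [MulAut.conj_apply] using hyx)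
      rwa [← this]
  rw [Subgroup.zpowers_le]
  have := (Subgroup.normalizer (K : Set X)).inv_mem hsN
  rwa [inv_inv] at this

theorem conj_mem_of_normalizer {X : Type*} [Group X] {s : X} {K : Subgroup X}
    (h : Subgroup.zpowers s ≤ Subgroup.normalizer (K : Set X)) {k : X} (hk : k ∈ K) : s⁻¹ * k * s ∈ K := by
  have h1 : s⁻¹ ∈ Subgroup.normalizer (K : Set X) :=
    Subgroup.inv_mem _ (h (Subgroup.mem_zpowers s))
  have h2 := (Subgroup.mem_normalizer_iff.mp h1 k).mp hk
  simpa using h2

/-- `O₂(H) = 1`: `s` centralises `H`. -/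
theorem comm_of_core (h2 : ∀ r : R, r + r = 0) {s : Rˣ} (hs : Quad s) (H : Subgroup Rˣ) (hsol : Group.IsSolvable H)
    (h3 : ¬ 3 ∣ Nat.card H) (hcore : pCore 2 H = ⊥) (hsH : ∀ k ∈ H, s⁻¹ * k * s ∈ H) :
    ∀ k ∈ H, s⁻¹ * k * s = k := by
  have hF : ((fittingSubgroup H).map H.subtype : Subgroup Rˣ) ≤ H := Subgroup.map_subtype_le _
  have hHN := zpowers_le_normalizer hsH
  have hFN : Subgroup.zpowers s ≤ Subgroup.normalizer (((fittingSubgroup H).map H.subtype : Subgroup Rˣ) : Set Rˣ) :=
    hHN.trans (SignalizersComponents.CompOrbit.normalizer_le_normalizer_map_of_characteristic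
      Lib.Cores.fittingSubgroup_characteristic)
  have hK3H : ∀ k ∈ H, k ^ 3 = 1 → k = 1 := by
    intro k hk h
    by_contra hne
    have ho : orderOf k = 3 := orderOf_eq_prime h hne
    apply h3
    have := orderOf_dvd_natCard (⟨k, hk⟩ : H)
    rwa [Subgroup.orderOf_mk, ho] at this
  have hK2 : ∀ k ∈ ((fittingSubgroup H).map H.subtype : Subgroup Rˣ), k ^ 2 = 1 → k = 1 := by
    rintro _ ⟨f, hf, rfl⟩ h
    have h4 : f ∈ pCore 2 H := by
      have hp : Fact (Nat.Prime 2) := ⟨Nat.prime_two⟩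
      apply Lib.GenFitting.mem_pCore_of_mem_fitting hf (k := 1)
      rw [pow_one]
      exact Subtype.ext h
    rw [hcore, Subgroup.mem_bot] at h4
    rw [h4]; rfl
  have hFsol : Group.IsSolvable ((fittingSubgroup H).map H.subtype : Subgroup Rˣ) :=
    Group.isSolvable_of_isSolvable_injective (f := Subgroup.inclusion hF) (Subgroup.inclusion_injective hF)
  have h1 := comm_of_solvable h2 hs (Nat.card ((fittingSubgroup H).map H.subtype : Subgroup Rˣ))
    ((fittingSubgroup H).map H.subtype) le_rfl hFsol hK2 (fun k hk => hK3H k (hF hk))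
    (fun k hk => conj_mem_of_normalizer hFN hk)
  have hAF : Subgroup.zpowers s ≤ Subgroup.centralizer (((fittingSubgroup H).map H.subtype : Subgroup Rˣ) : Set Rˣ) := by
    rw [Subgroup.zpowers_le, Subgroup.mem_centralizer_iff]
    intro x hx
    have h5 := h1 x hx
    calc x * s = s * (s⁻¹ * x * s) := by group
      _ = s * x := by rw [h5]
  have hHF : H ≤ Subgroup.normalizer (((fittingSubgroup H).map H.subtype : Subgroup Rˣ) : Set Rˣ) :=
    Subgroup.le_normalizer.trans (SignalizersComponents.CompOrbit.normalizer_le_normalizer_map_of_characteristic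
      Lib.Cores.fittingSubgroup_characteristic)
  have h4 : (⁅⁅H, Subgroup.zpowers s⁆, ((fittingSubgroup H).map H.subtype : Subgroup Rˣ)⁆ : Subgroup Rˣ) = ⊥ := by
    apply Subgroup.commutator_commutator_eq_bot_of_rotate
    · have : (⁅Subgroup.zpowers s, ((fittingSubgroup H).map H.subtype : Subgroup Rˣ)⁆ : Subgroup Rˣ) = ⊥ :=
        Subgroup.commutator_eq_bot_iff_le_centralizer.mpr hAF
      rw [this, Subgroup.commutator_bot_left]
    · have h5 : (⁅((fittingSubgroup H).map H.subtype : Subgroup Rˣ), H⁆ : Subgroup Rˣ) ≤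
          ((fittingSubgroup H).map H.subtype : Subgroup Rˣ) := Lib.CoprimeCommutator.commutator_le_left hHF
      rw [Subgroup.commutator_comm, eq_bot_iff]
      refine (Subgroup.commutator_mono le_rfl h5).trans ?_
      rw [Subgroup.commutator_eq_bot_iff_le_centralizer.mpr hAF]
  have h5 : (⁅H, Subgroup.zpowers s⁆ : Subgroup Rˣ) ≤ ((fittingSubgroup H).map H.subtype : Subgroup Rˣ) := by
    have h6 : (⁅H, Subgroup.zpowers s⁆ : Subgroup Rˣ) ≤
        H ⊓ Subgroup.centralizer (((fittingSubgroup H).map H.subtype : Subgroup Rˣ) : Set Rˣ) :=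
      le_inf (Lib.CoprimeCommutator.commutator_le_left hHN) (Subgroup.commutator_eq_bot_iff_le_centralizer.mp h4)
    exact h6.trans (Lib.BenderMaximal.inf_centralizer_fitting_le hsol)
  have hcop : (Nat.card (Subgroup.zpowers s)).Coprime (Nat.card H) := by
    have hcardA : Nat.card (Subgroup.zpowers s) ∣ 3 := by
      rw [Nat.card_zpowers]; exact orderOf_dvd_of_pow_eq_one hs.cube
    rcases (Nat.dvd_prime Nat.prime_three).mp hcardA with h | h
    · rw [h]; exact Nat.coprime_one_left _
    · rw [h, Nat.Prime.coprime_iff_not_dvd Nat.prime_three]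
      exact h3
  have h6 := Lib.CoprimeCommutator.le_centralizer_of_commutator_le _ H _ hHN hcop h5 hAF
  intro k hk
  have h7 := Subgroup.mem_centralizer_iff.mp (h6 (Subgroup.mem_zpowers s)) k hk
  rw [mul_assoc, h7]; group

end ring

section action

variable {V : Type*} [CommGroup V]

/-- Automorphisms of `V` as endomorphisms of `Additive V`. -/
def endHom (V : Type*) [CommGroup V] : MulAut V →* AddMonoid.End (Additive V) where
  toFun φ := MonoidHom.toAdditive φ.toMonoidHom
  map_one' := rfl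
  map_mul' _ _ := rfl

theorem endHom_apply (φ : MulAut V) (v : V) : endHom V φ (Additive.ofMul v) = Additive.ofMul (φ v) := rfl

def unitHom (V : Type*) [CommGroup V] : MulAut V →* (AddMonoid.End (Additive V))ˣ := (endHom V).toHomUnits

theorem unitHom_val (φ : MulAut V) : ((unitHom V φ : (AddMonoid.End (Additive V))ˣ) : AddMonoid.End (Additive V)) = endHom V φ := rfl

theorem unitHom_injective : Function.Injective (unitHom V) := by
  intro a b h
  have h1 : endHom V a = endHom V b := by rw [← unitHom_val, ← unitHom_val, h]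
  ext v
  have := congrArg (fun f : AddMonoid.End (Additive V) => f (Additive.ofMul v)) h1
  exact this

theorem quad_of_fixed (hV : ∀ v : V, v * v = 1) {σ : MulAut V} (h3 : σ ^ 3 = 1) (hfix : ∀ v, σ v = v → v = 1) :
    Quad (unitHom V σ) := by
  show endHom V σ * endHom V σ + endHom V σ + 1 = 0
  apply AddMonoidHom.ext
  intro v
  show Additive.ofMul (σ (σ v.toMul) * σ v.toMul * v.toMul) = Additive.ofMul 1
  congr 1
  apply hfix
  have e : σ (σ (σ v.toMul)) = v.toMul := by
    have : (σ ^ 3) v.toMul = v.toMul := by rw [h3]; rfl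
    exact this
  rw [map_mul, map_mul, e]
  rw [mul_assoc, mul_comm]

/-- The representation form. -/
theorem comm_of_rep [Finite V] (hV : ∀ v : V, v * v = 1) {G : Type*} [Group G] [Finite G] [Group.IsSolvable G]
    (h3 : ¬ 3 ∣ Nat.card G) (ρ : G →* MulAut V) (σ : MulAut V) (hσ : σ ^ 3 = 1) (hfix : ∀ v, σ v = v → v = 1)
    (hcore : pCore 2 ρ.range = ⊥) (hnorm : ∀ g : G, σ⁻¹ * ρ g * σ ∈ ρ.range) (g : G) : σ⁻¹ * ρ g * σ = ρ g := by
  have hfin : Finite (AddMonoid.End (Additive V)) := DFunLike.finite (Additive V →+ Additive V)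
  have h2 : ∀ r : AddMonoid.End (Additive V), r + r = 0 := by
    intro r
    apply AddMonoidHom.ext
    intro v
    show Additive.ofMul ((r v).toMul * (r v).toMul) = Additive.ofMul 1
    rw [hV]
  apply unitHom_injective
  have hcard : Nat.card (ρ.range.map (unitHom V)) ∣ Nat.card G := by
    rw [← MonoidHom.range_comp]
    exact Subgroup.card_range_dvd _
  have hsol : Group.IsSolvable (ρ.range.map (unitHom V)) := by
    rw [← MonoidHom.range_comp]
    exact Group.isSolvable_of_surjective (MonoidHom.rangeRestrict_surjective _)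
  have := comm_of_core h2 (quad_of_fixed hV hσ hfix) (ρ.range.map (unitHom V)) hsol
    (fun h => h3 (h.trans hcard)) ?_ ?_ (unitHom V (ρ g)) ⟨ρ g, ⟨g, rfl⟩, rfl⟩
  · rw [map_mul, map_mul, map_inv, this]
  · have e := Lib.Cores.map_equiv_pCore (ρ.range.equivMapOfInjective (unitHom V) unitHom_injective) 2
    rw [← e, hcore, Subgroup.map_bot]
  · rintro _ ⟨_, ⟨g, rfl⟩, rfl⟩
    refine ⟨σ⁻¹ * ρ g * σ, hnorm g, ?_⟩
    rw [map_mul, map_mul, map_inv]

end action

section main

/-- Restriction of automorphisms to a characteristic subgroup. -/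
def restr {G : Type*} [Group G] (Q : Subgroup G) (hQ : Q.Characteristic) : MulAut G →* MulAut Q where
  toFun φ := (MulEquiv.subgroupMap φ Q).trans (MulEquiv.subgroupCongr (Subgroup.characteristic_iff_map_eq.1 hQ φ))
  map_one' := rfl
  map_mul' _ _ := rfl

theorem restr_apply {G : Type*} [Group G] (Q : Subgroup G) (hQ : Q.Characteristic) (φ : MulAut G) (q : Q) :
    ((restr Q hQ φ q : Q) : G) = φ (q : G) := rfl

theorem isPGroup_zpowers {X : Type*} [Group X] {s : X} (hs : s ^ 3 = 1) : IsPGroup 3 (Subgroup.zpowers s) := by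
  rintro ⟨a, ⟨m, rfl⟩⟩
  refine ⟨1, Subtype.ext ?_⟩
  show (s ^ m) ^ (3 ^ 1) = 1
  rw [pow_one, ← zpow_natCast, ← zpow_mul, mul_comm, zpow_mul, zpow_natCast, hs, one_zpow]

/-- Fixed points in cosets. -/
theorem exists_fixed {G : Type*} [Group G] [Finite G] (h3 : ¬ 3 ∣ Nat.card G) (φ : MulAut G) (hφ : φ ^ 3 = 1)
    (N : Subgroup G) (hN : ∀ n ∈ N, φ n ∈ N) (h : G) (hh : h⁻¹ * φ h ∈ N) : ∃ c : G, h⁻¹ * c ∈ N ∧ φ c = c := by
  have hp : Fact (Nat.Prime 3) := ⟨Nat.prime_three⟩
  obtain ⟨c, hc1, hc2⟩ := Lib.PGroupCoprimeAction.exists_fixed_mem_coset (p := 3) (A := Subgroup.zpowers φ)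
    (isPGroup_zpowers hφ) h3 N h (by
      have key : ∀ x : G, h⁻¹ * x ∈ N → h⁻¹ * φ x ∈ N := by
        intro x hx
        have : h⁻¹ * φ x = (h⁻¹ * φ h) * φ (h⁻¹ * x) := by rw [map_mul, map_inv]; group
        rw [this]
        exact N.mul_mem hh (hN _ hx)
      have key2 : ∀ n : ℕ, ∀ x : G, h⁻¹ * x ∈ N → h⁻¹ * (φ ^ n) x ∈ N := by
        intro n
        induction n with
        | zero => intro x hx; simpa using hx
        | succ n ih =>
          intro x hx
          have : (φ ^ (n + 1)) x = φ ((φ ^ n) x) := by rw [pow_succ']; rfl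
          rw [this]
          exact key _ (ih x hx)
      rintro ⟨a, ha⟩ x hx
      have hfin : IsOfFinOrder φ := isOfFinOrder_iff_pow_eq_one.mpr ⟨3, by norm_num, hφ⟩
      obtain ⟨n, hn⟩ := (hfin.mem_powers_iff_mem_zpowers).mpr ha
      subst hn
      exact key2 n x hx)
  exact ⟨c, hc1, hc2 ⟨φ, Subgroup.mem_zpowers φ⟩⟩

/-- `O(G) = 1`. -/
theorem core_case {G : Type*} [Group G] [Finite G] [Group.IsSolvable G] (h3 : ¬ 3 ∣ Nat.card G) (φ : MulAut G)
    (hφ : φ ^ 3 = 1) (hodd : ∀ g : G, φ g = g → ¬ (2 ∣ orderOf g)) (hcore : pPrimeCore 2 G = ⊥) (g : G) :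
    g⁻¹ * φ g ∈ pCore 2 G := by
  have hp2 : Fact (Nat.Prime 2) := ⟨Nat.prime_two⟩
  obtain ⟨Q, hQ⟩ : ∃ Q, Q = pCore 2 G := ⟨_, rfl⟩
  have hQchar : Q.Characteristic := by rw [hQ]; exact Lib.Cores.pCore_characteristic 2
  have hQn : Q.Normal := inferInstance
  have hQp : IsPGroup 2 Q := by rw [hQ]; exact Lib.Cores.pCore_isPGroup 2
  -- `C_G(Q) ≤ Q`
  have hCQ : Subgroup.centralizer (Q : Set G) ≤ Q := by
    rw [hQ]; exact Cfsg.Agent.S0017.result 2 hcore
  have hodd1 : ∀ g ∈ Q, ¬ 2 ∣ orderOf g → g = 1 := by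
    intro g hg h
    obtain ⟨k, hk⟩ := (IsPGroup.iff_orderOf.mp hQp) ⟨g, hg⟩
    rw [Subgroup.orderOf_mk] at hk
    cases k with
    | zero => rw [pow_zero] at hk; exact orderOf_eq_one_iff.mp hk
    | succ k => exact absurd (hk ▸ dvd_pow_self 2 (Nat.succ_ne_zero k)) h
  letI instV : CommGroup (Q ⧸ frattini Q) :=
    { (inferInstance : Group (Q ⧸ frattini Q)) with
      mul_comm := by
        intro a b
        induction a using QuotientGroup.induction_on with
        | H a =>
          induction b using QuotientGroup.induction_on with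
          | H b =>
            rw [← QuotientGroup.mk_mul, ← QuotientGroup.mk_mul, QuotientGroup.eq]
            have h := Lib.FrattiniPGroup.commutator_mem_frattini hQp b⁻¹ a⁻¹
            convert h using 1
            rw [commutatorElement_def]; group }
  have hV : ∀ v : Q ⧸ frattini Q, v * v = 1 := by
    intro a
    induction a using QuotientGroup.induction_on with
    | H a =>
      rw [← QuotientGroup.mk_mul, QuotientGroup.eq_one_iff, ← pow_two]
      exact Lib.FrattiniPGroup.pow_mem_frattini hQp a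
  let T : MulAut G →* MulAut (Q ⧸ frattini Q) :=
    (SmallSimple.S1000.TwoOnThree.quotAut (frattini Q)).comp (restr Q hQchar)
  have hT : ∀ (α : MulAut G) (q : Q), T α ((q : Q) : Q ⧸ frattini Q) = ((restr Q hQchar α q : Q) : Q ⧸ frattini Q) :=
    fun α q => rfl
  let ρ : G →* MulAut (Q ⧸ frattini Q) := T.comp MulAut.conj
  have hker : ∀ x : G, ρ x = 1 → ∀ q ∈ Q, x * q * x⁻¹ * q⁻¹ ∈ (frattini Q).map Q.subtype := by
    intro x hx q hq
    have h1 : T (MulAut.conj x) (((⟨q, hq⟩ : Q) : Q ⧸ frattini Q)) = (((⟨q, hq⟩ : Q) : Q ⧸ frattini Q)) := by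
      show ρ x (((⟨q, hq⟩ : Q) : Q ⧸ frattini Q)) = _
      rw [hx]; rfl
    rw [hT] at h1
    have h2 := (QuotientGroup.eq.mp h1.symm)
    have h3 : (restr Q hQchar (MulAut.conj x) ⟨q, hq⟩) * (⟨q, hq⟩ : Q)⁻¹ ∈ frattini Q := by
      have hn : (frattini Q).Normal := inferInstance
      exact hn.mem_comm h2
    refine ⟨_, h3, ?_⟩
    show (restr Q hQchar (MulAut.conj x) ⟨q, hq⟩ : G) * q⁻¹ = _
    rw [restr_apply, MulAut.conj_apply]
  have hkodd : ∀ x : G, ρ x = 1 → ¬ 2 ∣ orderOf x → x = 1 := by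
    intro x hx ho
    apply hodd1 x _ ho
    apply hCQ
    have hfr : IsPGroup 2 (frattini Q) := hQp.to_subgroup _
    obtain ⟨k, hk⟩ := hfr.exists_card_eq
    have := Cfsg.Agent.S0029.result (Subgroup.zpowers x) Q (by
      rw [Subgroup.normalizer_eq_top]; exact le_top) (by
      rw [Nat.card_zpowers, hk]
      apply Nat.Coprime.pow_right
      exact ((Nat.Prime.coprime_iff_not_dvd Nat.prime_two).mpr ho).symm) (by
      intro a ha q hq
      apply hker a _ q hq
      obtain ⟨m, rfl⟩ := ha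
      show ρ (x ^ m) = 1
      rw [map_zpow, hx, one_zpow])
    exact this (Subgroup.mem_zpowers x)
  have hkerp : IsPGroup 2 ρ.ker := by
    rintro ⟨x, hx⟩
    have ho : orderOf x ≠ 0 := (orderOf_pos x).ne'
    refine ⟨(orderOf x).factorization 2, Subtype.ext ?_⟩
    show x ^ (2 ^ (orderOf x).factorization 2) = 1
    apply hkodd
    · rw [map_pow, MonoidHom.mem_ker.mp hx, one_pow]
    · rw [orderOf_pow' x (pow_ne_zero _ two_ne_zero), Nat.gcd_eq_right (Nat.ordProj_dvd _ _)]
      exact Nat.not_dvd_ordCompl Nat.prime_two ho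
  have hkerQ : ρ.ker ≤ Q := (Lib.Cores.le_pCore inferInstance hkerp).trans hQ.ge
  have hQker : Q ≤ ρ.ker := by
    intro x hx
    rw [MonoidHom.mem_ker]
    ext v
    induction v using QuotientGroup.induction_on with
    | H q =>
      show T (MulAut.conj x) (q : Q ⧸ frattini Q) = (q : Q ⧸ frattini Q)
      have e : restr Q hQchar (MulAut.conj x) q = (⟨x, hx⟩ : Q) * q * (⟨x, hx⟩ : Q)⁻¹ := by
        apply Subtype.ext; rfl
      rw [hT, e, QuotientGroup.mk_mul, QuotientGroup.mk_mul, QuotientGroup.mk_inv, mul_comm ((⟨x, hx⟩ : Q) : Q ⧸ frattini Q),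
        mul_inv_cancel_right]
  have hcore2 : pCore 2 ρ.range = ⊥ := by
    have hTn : ((pCore 2 ρ.range).comap ρ.rangeRestrict).Normal := inferInstance
    have hTp : IsPGroup 2 ((pCore 2 ρ.range).comap ρ.rangeRestrict) := by
      apply (Lib.Cores.pCore_isPGroup 2).comap_of_ker_isPGroup
      rw [MonoidHom.ker_rangeRestrict]; exact hkerp
    have h1 : (pCore 2 ρ.range).comap ρ.rangeRestrict ≤ Q := (Lib.Cores.le_pCore hTn hTp).trans hQ.ge
    rw [eq_bot_iff]
    rintro y hy
    obtain ⟨x, rfl⟩ := ρ.rangeRestrict_surjective y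
    have h2 : x ∈ Q := h1 hy
    rw [Subgroup.mem_bot]
    apply Subtype.ext
    exact hQker h2
  have hσ3 : (T φ) ^ 3 = 1 := by rw [← map_pow, hφ, map_one]
  have hΦφ : ∀ n ∈ (frattini Q).map Q.subtype, φ n ∈ (frattini Q).map Q.subtype := by
    rintro _ ⟨q, hq, rfl⟩
    have hc : (frattini Q).Characteristic := inferInstance
    refine ⟨restr Q hQchar φ q, ?_, rfl⟩
    have := Subgroup.characteristic_iff_map_eq.1 hc (restr Q hQchar φ)
    rw [SetLike.mem_coe, ← this]
    exact ⟨q, hq, rfl⟩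
  have hfix : ∀ v, T φ v = v → v = 1 := by
    intro v
    induction v using QuotientGroup.induction_on with
    | H q =>
      intro h
      rw [hT] at h
      have h1 := QuotientGroup.eq.mp h.symm
      obtain ⟨c, hc1, hc2⟩ := exists_fixed h3 φ hφ ((frattini Q).map Q.subtype) hΦφ (q : G) ⟨_, h1, rfl⟩
      obtain ⟨d, hd, hdc⟩ := hc1
      have hcQ : c ∈ Q := by
        have : c = q * d := by
          have e : (d : G) = (q : G)⁻¹ * c := hdc
          rw [e]; group
        rw [this]
        exact Q.mul_mem q.2 d.2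
      have hc : c = 1 := hodd1 c hcQ (hodd c hc2)
      rw [hc, mul_one] at hdc
      rw [QuotientGroup.eq_one_iff]
      have : q = d⁻¹ := by
        apply Subtype.ext
        have e : (d : G) = (q : G)⁻¹ := hdc
        rw [InvMemClass.coe_inv, e, inv_inv]
      rw [this]
      exact (frattini Q).inv_mem hd
  have hconj : ∀ x : G, (T φ)⁻¹ * ρ x * T φ = ρ (φ⁻¹ x) := by
    intro x
    have e : φ⁻¹ * MulAut.conj x * φ = MulAut.conj (φ⁻¹ x) := by
      ext y
      show φ⁻¹ (x * φ y * x⁻¹) = φ⁻¹ x * y * (φ⁻¹ x)⁻¹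
      rw [map_mul, map_mul, map_inv]
      congr 2
      exact φ.symm_apply_apply y
    show (T φ)⁻¹ * T (MulAut.conj x) * T φ = T (MulAut.conj (φ⁻¹ x))
    rw [← e, map_mul, map_mul, map_inv]
  have hfinV : Finite (Q ⧸ frattini Q) := inferInstance
  have main := comm_of_rep hV h3 ρ (T φ) hσ3 hfix hcore2 (fun x => by rw [hconj]; exact ⟨_, rfl⟩)
  have h5 := main (φ g)
  rw [hconj] at h5
  have e : φ⁻¹ (φ g) = g := φ.symm_apply_apply g
  rw [e] at h5
  rw [← hQ]
  apply hkerQ
  rw [MonoidHom.mem_ker, map_mul, map_inv, ← h5, inv_mul_cancel]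

end main

end Cfsg.Agent.H271.FpfThree
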