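import Mathlib
import Cfsg.Agent.H271.FpfThree

/-!
# A fixed-point-free group of automorphisms of type `S₃`

* `odd_of_fix` : the fixed points of an element of order three have odd order;
* `main` : for `G` solvable the conclusion of S3040.
-/

set_option autoImplicit false

namespace Cfsg.Agent.H271.FpfSThree

open Cfsg Cfsg.Agent.H271.FpfThree

variable {G : Type*} [Group G] [Finite G]

/-- elements of `S₃` -/
theorem s3_exists : ∀ σ : Equiv.Perm (Fin 3), σ ^ 3 = 1 → σ ≠ 1 →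
    ∃ τ : Equiv.Perm (Fin 3), τ ^ 2 = 1 ∧ τ ≠ 1 ∧ τ * σ = σ⁻¹ * τ ∧
      (∀ x : Equiv.Perm (Fin 3), x = 1 ∨ x = σ ∨ x = σ * σ ∨ x = τ ∨ x = σ * τ ∨ x = σ * σ * τ) := by
  decide

/-- An automorphism of order dividing two without nontrivial fixed points: the order is odd. -/
theorem not_two_dvd {F : Type*} [Group F] [Finite F] (τ : MulAut F) (h2 : τ ^ 2 = 1) (hfix : ∀ f, τ f = f → f = 1) :
    ¬ 2 ∣ Nat.card F := by
  intro hd
  have hp : Fact (Nat.Prime 2) := ⟨Nat.prime_two⟩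
  have hA : IsPGroup 2 (Subgroup.zpowers τ) := by
    rintro ⟨a, ⟨m, rfl⟩⟩
    refine ⟨1, Subtype.ext ?_⟩
    show (τ ^ m) ^ (2 ^ 1) = 1
    rw [pow_one, ← zpow_natCast, ← zpow_mul, mul_comm, zpow_mul, zpow_natCast, h2, one_zpow]
  have h1 : (1 : F) ∈ MulAction.fixedPoints (Subgroup.zpowers τ) F := by
    intro a; exact smul_one a
  obtain ⟨b, hb, hne⟩ := hA.exists_fixed_point_of_prime_dvd_card_of_fixed_point F hd h1
  apply hne
  symm
  apply hfix
  exact hb ⟨τ, Subgroup.mem_zpowers τ⟩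

theorem odd_of_fix (Sig : Subgroup (MulAut G)) (hS3 : Nonempty (Sig ≃* Equiv.Perm (Fin 3)))
    (hfpf : ∀ g : G, (∀ σ ∈ Sig, σ g = g) → g = 1) (σ : MulAut G) (hσ : σ ∈ Sig) (ho : orderOf σ = 3) (F : Subgroup G)
    (hF : ∀ g, g ∈ F ↔ σ g = g) : ¬ 2 ∣ Nat.card F := by
  obtain ⟨e⟩ := hS3
  have hσ3 : σ ^ 3 = 1 := by rw [← ho]; exact pow_orderOf_eq_one σ
  have hσ1 : σ ≠ 1 := by rintro rfl; rw [orderOf_one] at ho; omega
  have h1 : (e ⟨σ, hσ⟩) ^ 3 = 1 := by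
    rw [← map_pow]
    have : (⟨σ, hσ⟩ : Sig) ^ 3 = 1 := Subtype.ext hσ3
    rw [this, map_one]
  have h2 : e ⟨σ, hσ⟩ ≠ 1 := by
    intro h
    apply hσ1
    have := e.map_eq_one_iff.mp h
    exact congrArg Subtype.val this
  obtain ⟨t, ht2, ht1, hts, hall⟩ := s3_exists _ h1 h2
  obtain ⟨τ, hτ⟩ := e.surjective t
  have hτ2 : τ ^ 2 = 1 := by
    apply e.injective; rw [map_pow, hτ, ht2, map_one]
  have hτσ : τ * ⟨σ, hσ⟩ = (⟨σ, hσ⟩ : Sig)⁻¹ * τ := by
    apply e.injective; rw [map_mul, map_mul, map_inv, hτ, hts]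
  have hτσ' : (τ : MulAut G) * σ = σ⁻¹ * τ := congrArg Subtype.val hτσ
  have hτ2' : (τ : MulAut G) ^ 2 = 1 := congrArg Subtype.val hτ2
  have hFτ : ∀ g, g ∈ F → (τ : MulAut G) g ∈ F := by
    intro g hg
    rw [hF] at hg ⊢
    have h3 : σ * (τ : MulAut G) * σ = τ := by
      rw [mul_assoc, hτσ', mul_inv_cancel_left]
    have h4 : (σ * (τ : MulAut G) * σ) g = (τ : MulAut G) g := by rw [h3]
    have h5 : (σ * (τ : MulAut G) * σ) g = σ ((τ : MulAut G) (σ g)) := rfl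
    rw [h5, hg] at h4
    exact h4
  have hττ : ∀ g, (τ : MulAut G) ((τ : MulAut G) g) = g := by
    intro g
    have : ((τ : MulAut G) ^ 2) g = g := by rw [hτ2']; rfl
    rw [pow_two] at this
    exact this
  let τF : MulAut F :=
    { toFun := fun f => ⟨(τ : MulAut G) f, hFτ _ f.2⟩
      invFun := fun f => ⟨(τ : MulAut G) f, hFτ _ f.2⟩
      left_inv := fun f => Subtype.ext (hττ f)
      right_inv := fun f => Subtype.ext (hττ f)
      map_mul' := fun a b => Subtype.ext (map_mul (τ : MulAut G) (a : G) (b : G)) }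
  apply not_two_dvd τF
  · ext f
    show (τ : MulAut G) ((τ : MulAut G) f) = f
    exact hττ f
  · intro f hf
    have hf' : (τ : MulAut G) (f : G) = f := congrArg Subtype.val hf
    have hfσ : σ (f : G) = f := (hF _).mp f.2
    apply Subtype.ext
    apply hfpf
    intro x hx
    have h6 := hall (e ⟨x, hx⟩)
    have h7 : (⟨x, hx⟩ : Sig) = 1 ∨ (⟨x, hx⟩ : Sig) = ⟨σ, hσ⟩ ∨ (⟨x, hx⟩ : Sig) = ⟨σ, hσ⟩ * ⟨σ, hσ⟩ ∨ (⟨x, hx⟩ : Sig) = τ ∨
        (⟨x, hx⟩ : Sig) = ⟨σ, hσ⟩ * τ ∨ (⟨x, hx⟩ : Sig) = ⟨σ, hσ⟩ * ⟨σ, hσ⟩ * τ := by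
      rw [← hτ] at h6
      simp only [← map_mul, ← map_one e, e.injective.eq_iff] at h6
      exact h6
    have h8 : x = 1 ∨ x = σ ∨ x = σ * σ ∨ x = τ ∨ x = σ * τ ∨ x = σ * σ * τ := by
      rcases h7 with h | h | h | h | h | h
      · exact Or.inl (congrArg Subtype.val h)
      · exact Or.inr (Or.inl (congrArg Subtype.val h))
      · exact Or.inr (Or.inr (Or.inl (congrArg Subtype.val h)))
      · exact Or.inr (Or.inr (Or.inr (Or.inl (congrArg Subtype.val h))))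
      · exact Or.inr (Or.inr (Or.inr (Or.inr (Or.inl (congrArg Subtype.val h)))))
      · exact Or.inr (Or.inr (Or.inr (Or.inr (Or.inr (congrArg Subtype.val h)))))
    rcases h8 with h | h | h | h | h | h
    · rw [h]; rfl
    · rw [h]; exact hfσ
    · rw [h]; show σ (σ (f : G)) = f; rw [hfσ, hfσ]
    · rw [h]; exact hf'
    · rw [h]; show σ ((τ : MulAut G) (f : G)) = f; rw [hf', hfσ]
    · rw [h]; show σ (σ ((τ : MulAut G) (f : G))) = f; rw [hf', hfσ, hfσ]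

/-- The structure for `G` solvable. -/
theorem main [Group.IsSolvable G] (h3 : ¬ 3 ∣ Nat.card G) (φ : MulAut G)
    (hφ : φ ^ 3 = 1) (hodd : ∀ g : G, φ g = g → ¬ (2 ∣ orderOf g)) :
    ¬ 2 ∣ (pPrimePCore 2 G).index ∧ pPrimePCore 2 G ⊔ Subgroup.closure {g : G | φ g = g} = ⊤ := by
  have hNn : (pPrimeCore 2 G).Normal := Lib.Cores.pPrimeCore_normal 2
  have hNc : (pPrimeCore 2 G).Characteristic := Lib.Cores.pPrimeCore_characteristic 2
  have hNφ : ∀ n ∈ pPrimeCore 2 G, φ n ∈ pPrimeCore 2 G := by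
    intro n hn
    have := Subgroup.characteristic_iff_map_eq.1 hNc φ
    rw [← this]
    exact ⟨n, hn, rfl⟩
  have hcardQ : Nat.card (G ⧸ pPrimeCore 2 G) ∣ Nat.card G := Subgroup.card_quotient_dvd_card _
  let φb : MulAut (G ⧸ pPrimeCore 2 G) := SmallSimple.S1000.TwoOnThree.quotAut (pPrimeCore 2 G) φ
  have hb : ∀ g : G, φb (g : G ⧸ pPrimeCore 2 G) = ((φ g : G) : G ⧸ pPrimeCore 2 G) := fun _ => rfl
  have hordb : ∀ g : G, orderOf ((g : G) : G ⧸ pPrimeCore 2 G) ∣ orderOf g := fun g =>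
    orderOf_map_dvd (QuotientGroup.mk' (pPrimeCore 2 G)) g
  have key : ∀ x : G ⧸ pPrimeCore 2 G, x⁻¹ * φb x ∈ pCore 2 (G ⧸ pPrimeCore 2 G) := by
    apply core_case (fun h => h3 (h.trans hcardQ)) φb
    · show (SmallSimple.S1000.TwoOnThree.quotAut (pPrimeCore 2 G) φ) ^ 3 = 1
      rw [← map_pow, hφ, map_one]
    · intro x hx
      induction x using QuotientGroup.induction_on with
      | H g =>
        rw [hb] at hx
        obtain ⟨c, hc1, hc2⟩ := exists_fixed h3 φ hφ _ hNφ g (QuotientGroup.eq.mp hx.symm)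
        rw [QuotientGroup.eq.mpr hc1]
        intro h
        exact hodd c hc2 (h.trans (hordb c))
    · exact Lib.Cores.pPrimeCore_quotient_pPrimeCore 2
  have hMdef : pPrimePCore 2 G = (pCore 2 (G ⧸ pPrimeCore 2 G)).comap (QuotientGroup.mk' (pPrimeCore 2 G)) := rfl
  have hMn : (pPrimePCore 2 G).Normal := by
    rw [hMdef]
    have : (pCore 2 (G ⧸ pPrimeCore 2 G)).Normal := Lib.Cores.pCore_normal 2
    infer_instance
  have hM : ∀ g : G, g⁻¹ * φ g ∈ pPrimePCore 2 G := by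
    intro g
    rw [hMdef, Subgroup.mem_comap, map_mul, map_inv]
    exact key (g : G ⧸ pPrimeCore 2 G)
  have hMφ : ∀ n ∈ pPrimePCore 2 G, φ n ∈ pPrimePCore 2 G := by
    intro n hn
    have : φ n = n * (n⁻¹ * φ n) := by group
    rw [this]
    exact Subgroup.mul_mem _ hn (hM n)
  have hfix : ∀ g : G, ∃ c, g⁻¹ * c ∈ pPrimePCore 2 G ∧ φ c = c := fun g =>
    exists_fixed h3 φ hφ _ hMφ g (hM g)
  constructor
  · intro h
    have hp : Fact (Nat.Prime 2) := ⟨Nat.prime_two⟩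
    have h' : 2 ∣ Nat.card (G ⧸ pPrimePCore 2 G) := h
    obtain ⟨x, hx⟩ := exists_prime_orderOf_dvd_card' 2 h'
    induction x using QuotientGroup.induction_on with
    | H g =>
      obtain ⟨c, hc1, hc2⟩ := hfix g
      rw [QuotientGroup.eq.mpr hc1] at hx
      apply hodd c hc2
      rw [← hx]
      exact orderOf_map_dvd (QuotientGroup.mk' (pPrimePCore 2 G)) c
  · rw [eq_top_iff]
    intro g _
    obtain ⟨c, hc1, hc2⟩ := hfix g
    have : g = c * (g⁻¹ * c)⁻¹ := by group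
    rw [this]
    apply Subgroup.mul_mem
    · exact Subgroup.mem_sup_right (Subgroup.subset_closure hc2)
    · exact Subgroup.mem_sup_left (Subgroup.inv_mem _ hc1)

end Cfsg.Agent.H271.FpfSThree
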