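import Mathlib
import Cfsg.Prelude.Def_Local
import Cfsg.Prelude.Def_IsolatedElements
import Cfsg.Agent.S0071
import Cfsg.Agent.S0120
import Cfsg.Agent.S0542
import Cfsg.Agent.S1261
import Cfsg.Agent.Lib.GenFitting
import Cfsg.Agent.SignalizersComponents.CompBasic

/-!
# Isolated elements of order `p`, `p`-nilpotence from the elements of order `p`

* `comm_of_mem`: an isolated element commutes with every `p`-group containing it;
* `exists_compl_of_omega`: if (p odd) every `p'`-element normalising a subgroup `R` of a Sylow `p`-subgroup centralises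
  the elements of order `p` of `R`, then there is a normal `p`-complement;
* `fstar_simple`: the structure of `F*(G)` for `p`-rank at most two.
-/

set_option autoImplicit false

namespace Cfsg.Agent.H271.Isolated

open Cfsg

variable {G : Type*} [Group G]

/-- An isolated element is central in every finite `p`-subgroup containing it. -/
theorem comm_of_mem [Finite G] {p : ℕ} [Fact p.Prime] {x : G} (hiso : IsIsolated x) {P : Subgroup G}
    (hP : IsPGroup p P) (hx : x ∈ P) {y : G} (hy : y ∈ P) : x * y = y * x := by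
  have hnil : Group.IsNilpotent P := hP.isNilpotent
  let x' : P := ⟨x, hx⟩
  let C : Subgroup P := Subgroup.centralizer {x'}
  have hC : C = ⊤ := by
    by_contra hne
    have hlt : C < ⊤ := lt_top_iff_ne_top.mpr hne
    have h1 := Group.normalizerCondition_of_isNilpotent (G := P) C hlt
    obtain ⟨g, hg, hgC⟩ := SetLike.exists_of_lt h1
    have hxC : x' ∈ C := Subgroup.mem_centralizer_singleton_iff.mpr rfl
    have h2 : g * x' * g⁻¹ ∈ C := (Subgroup.mem_normalizer_iff.mp hg x').mp hxC
    have h3 := Subgroup.mem_centralizer_singleton_iff.mp h2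
    have h4 : Commute x ((g : G) * x * (g : G)⁻¹) := by
      have := congrArg Subtype.val h3
      simpa [Commute, SemiconjBy] using this.symm
    have h5 := hiso g h4
    apply hgC
    apply Subgroup.mem_centralizer_singleton_iff.mpr
    apply Subtype.ext
    have h6 : (g : G) * x = x * g := by
      calc (g : G) * x = ((g : G) * x * (g : G)⁻¹) * g := by group
        _ = x * g := by rw [h5]
    simpa using h6
  have h1 : (⟨y, hy⟩ : P) ∈ C := by rw [hC]; trivial
  have h2 := Subgroup.mem_centralizer_singleton_iff.mp h1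
  have := congrArg Subtype.val h2
  simpa using this.symm

/-- `p`-nilpotence from the action of `p'`-elements on the elements of order `p`. -/
theorem exists_compl_of_omega {H : Type*} [Group H] [Finite H] {p : ℕ} [Fact p.Prime] (hp : p ≠ 2) (Q : Sylow p H)
    (h : ∀ R : Subgroup H, R ≤ (Q : Subgroup H) → ∀ g ∈ Subgroup.normalizer (R : Set H), Nat.Coprime (orderOf g) p →
      ∀ u ∈ R, u ^ p = 1 → g * u * g⁻¹ = u) :
    ∃ N : Subgroup H, N.Normal ∧ N.IsComplement' (Q : Subgroup H) := by
  rw [Cfsg.Agent.S0071.result]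
  intro R hR g hg hc
  let g' : Subgroup.normalizer (R : Set H) := ⟨g, hg⟩
  have hRp : IsPGroup p R := Q.2.to_le hR
  have h1 : R.normalizerMonoidHom g' = 1 := by
    apply Cfsg.Agent.S0120.result hp hRp
    · have h2 : orderOf (R.normalizerMonoidHom g') ∣ orderOf g' := orderOf_map_dvd _ _
      have h3 : orderOf g' = orderOf g := Subgroup.orderOf_mk g hg
      rw [h3] at h2
      exact Nat.Coprime.coprime_dvd_left h2 hc
    · intro u hu
      apply Subtype.ext
      have h2 : (u : H) ^ p = 1 := by
        have := congrArg Subtype.val hu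
        simpa using this
      exact h R hR g hg hc u u.2 h2
  have h2 : g' ∈ R.normalizerMonoidHom.ker := h1
  rw [Subgroup.normalizerMonoidHom_ker] at h2
  exact h2

/-- A perfect group with a normal `p`-complement has order prime to `p`. -/
theorem not_dvd_of_perfect_of_compl {H : Type*} [Group H] [Finite H] {p : ℕ} [Fact p.Prime] (Q : Sylow p H)
    (hperf : commutator H = ⊤) (h : ∃ N : Subgroup H, N.Normal ∧ N.IsComplement' (Q : Subgroup H)) :
    (Q : Subgroup H) = ⊥ := by
  obtain ⟨N, hN, hc⟩ := h
  have hcard : Nat.card (H ⧸ N) = Nat.card (Q : Subgroup H) := by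
    rw [← Subgroup.index, hc.symm.index_eq_card]
  have hp : IsPGroup p (H ⧸ N) := by
    obtain ⟨k, hk⟩ := Q.2.exists_card_eq
    exact IsPGroup.of_card (by rw [hcard, hk])
  have hnil : Group.IsNilpotent (H ⧸ N) := hp.isNilpotent
  have hsol : Group.IsSolvable (H ⧸ N) := inferInstance
  have hperf' : commutator (H ⧸ N) = ⊤ := by
    have h1 : (commutator H).map (QuotientGroup.mk' N) = commutator (H ⧸ N) := by
      rw [commutator_def, commutator_def, Subgroup.map_commutator,
        Subgroup.map_top_of_surjective _ (QuotientGroup.mk'_surjective N)]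
    rw [← h1, hperf, Subgroup.map_top_of_surjective _ (QuotientGroup.mk'_surjective N)]
  have htriv : Nat.card (H ⧸ N) = 1 := by
    by_contra hne
    have : Nontrivial (H ⧸ N) := by
      rw [← Finite.one_lt_card_iff_nontrivial]
      have : 0 < Nat.card (H ⧸ N) := Nat.card_pos
      omega
    have h1 := Group.IsSolvable.commutator_lt_top_of_nontrivial (G := H ⧸ N)
    exact absurd hperf' h1.ne
  rw [hcard] at htriv
  exact Subgroup.eq_bot_of_card_eq _ htriv

/-- Commuting elements of order dividing `p` generate an elementary abelian group. -/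
theorem closure_elem {p : ℕ} (S : Set G) (hc : ∀ a ∈ S, ∀ b ∈ S, a * b = b * a) (hp : ∀ a ∈ S, a ^ p = 1) :
    IsMulCommutative (Subgroup.closure S) ∧ ∀ a ∈ Subgroup.closure S, a ^ p = 1 := by
  have h1 : Subgroup.closure S ≤ Subgroup.centralizer S := by
    rw [Subgroup.closure_le]
    intro a ha
    rw [SetLike.mem_coe, Subgroup.mem_centralizer_iff]
    exact fun b hb => hc b hb a ha
  have h2 : Subgroup.closure S ≤ Subgroup.centralizer (Subgroup.closure S : Set G) := by
    rw [Subgroup.closure_le]
    intro a ha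
    rw [SetLike.mem_coe, Subgroup.mem_centralizer_iff]
    intro b hb
    exact (Subgroup.mem_centralizer_iff.mp (h1 hb) a ha).symm
  have h3 : ∀ a ∈ Subgroup.closure S, ∀ b ∈ Subgroup.closure S, a * b = b * a := fun a ha b hb =>
    (Subgroup.mem_centralizer_iff.mp (h2 ha) b hb).symm
  refine ⟨⟨⟨fun a b => Subtype.ext (h3 a a.2 b b.2)⟩⟩, fun a ha => ?_⟩
  induction ha using Subgroup.closure_induction with
  | mem a ha => exact hp a ha
  | one => exact one_pow p
  | mul a b ha hb iha ihb =>
    have : Commute a b := h3 a ha b hb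
    rw [this.mul_pow, iha, ihb, one_mul]
  | inv a _ iha => rw [inv_pow, iha, inv_one]

theorem card_mul_le [Finite G] {H K : Subgroup G} :
    Nat.card H * Nat.card K ≤ Nat.card ↥(H ⊔ K) * Nat.card ↥(H ⊓ K) := by
  have h1 := Subgroup.card_mul_index (H.subgroupOf (H ⊔ K))
  have h2 : (H.subgroupOf (H ⊔ K)).index = H.relIndex (H ⊔ K) := rfl
  have h3 : Nat.card (H.subgroupOf (H ⊔ K)) = Nat.card H :=
    Nat.card_congr (Subgroup.subgroupOfEquivOfLe le_sup_left).toEquiv
  have h4 : H.relIndex K ≤ H.relIndex (H ⊔ K) := by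
    apply Subgroup.relIndex_le_of_le_right le_sup_right
    rw [Subgroup.relIndex]; exact Subgroup.index_ne_zero_of_finite
  have h5 : Nat.card K = Nat.card ↥(H ⊓ K) * H.relIndex K := by
    have := Subgroup.card_mul_index (H.subgroupOf K)
    rw [← this]
    congr 1
    rw [inf_comm]
    exact Nat.card_congr (Subgroup.equivMapOfInjective _ _ K.subtype_injective |>.toEquiv.trans
      (Equiv.setCongr (by rw [Subgroup.subgroupOf_map_subtype, inf_comm])))
  rw [h3, h2] at h1
  calc Nat.card H * Nat.card K = Nat.card H * (Nat.card ↥(H ⊓ K) * H.relIndex K) := by rw [h5]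
    _ ≤ Nat.card H * (Nat.card ↥(H ⊓ K) * H.relIndex (H ⊔ K)) := by gcongr
    _ = Nat.card ↥(H ⊔ K) * Nat.card ↥(H ⊓ K) := by rw [← h1]; ring

theorem zpowers_inf_eq_bot [Finite G] {p : ℕ} [hp : Fact p.Prime] {u : G} (hu : u ^ p = 1) {E : Subgroup G}
    (h : u ∉ E) : E ⊓ Subgroup.zpowers u = ⊥ := by
  rw [eq_bot_iff]
  rintro v ⟨hvE, hvu⟩
  rw [Subgroup.mem_bot]
  by_contra hv
  obtain ⟨k, rfl⟩ := hvu
  apply h
  have hk : ¬ (p : ℤ) ∣ k := by
    rintro ⟨m, rfl⟩
    apply hv
    show u ^ ((p : ℤ) * m) = 1
    rw [zpow_mul, zpow_natCast, hu, one_zpow]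
  have hco : IsCoprime (p : ℤ) k := by
    rw [Int.isCoprime_iff_gcd_eq_one]
    have h1 := (Nat.Prime.coprime_iff_not_dvd hp.out (n := k.natAbs)).2
      (by rwa [← Int.natCast_dvd])
    simpa [Int.gcd] using h1
  obtain ⟨a, b, hab⟩ := hco
  have : u = (u ^ k) ^ b := by
    rw [← zpow_mul, mul_comm k b]
    conv_lhs => rw [← zpow_one u, ← hab, zpow_add, mul_comm a, zpow_mul, zpow_natCast, hu, one_zpow, one_mul]
  rw [this]
  exact E.zpow_mem hvE b

/-- The main step: in a group of `p`-rank at most two, no element of order `p` of the Sylow subgroup `T` containing the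
isolated element `x` centralises a perfect subgroup `L` of order divisible by `p`, `T ∩ L` Sylow in `L`, which is not
centralised by `x`. -/
theorem no_centralizing [Finite G] {p : ℕ} [hpp : Fact p.Prime] (hp : p ≠ 2) (hrank : PRankLE p 2 G) {x : G}
    (hx : orderOf x = p) (hiso : IsIsolated x) (T : Sylow p G) (hxT : x ∈ T) {L : Subgroup G}
    (hperf : commutator L = ⊤) (hpL : p ∣ Nat.card L) (Q : Sylow p L) (hQ : (Q : Subgroup L) = (T : Subgroup G).subgroupOf L)
    (hxL : x ∉ Subgroup.centralizer (L : Set G)) {y : G} (hyT : y ∈ T) (hy : orderOf y = p)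
    (hyL : y ∈ Subgroup.centralizer (L : Set G)) : False := by
  have hxp : x ^ p = 1 := by rw [← hx]; exact pow_orderOf_eq_one x
  have hyp : y ^ p = 1 := by rw [← hy]; exact pow_orderOf_eq_one y
  have hcx : ∀ z ∈ (T : Subgroup G), x * z = z * x := fun z hz => comm_of_mem hiso T.2 hxT hz
  have hcy : ∀ z ∈ L, y * z = z * y := fun z hz => (Subgroup.mem_centralizer_iff.mp hyL z hz).symm
  have hxy : Commute x y := hcx y hyT
  by_cases hI : ∀ u ∈ (T : Subgroup G) ⊓ L, u ^ p = 1 → ∃ a b : ℤ, u = x ^ a * y ^ b
  · have hcompl := exists_compl_of_omega hp Q (by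
      intro R hR g _ _ u hu hup
      have hRT : ∀ v ∈ R, (v : G) ∈ (T : Subgroup G) ⊓ L := by
        intro v hv
        have h1 := hR hv
        rw [hQ] at h1
        exact ⟨h1, v.2⟩
      by_cases hg : g * u * g⁻¹ ∈ R
      swap
      · exact absurd ((Subgroup.mem_normalizer_iff.mp ‹g ∈ Subgroup.normalizer (R : Set L)› u).mp hu) hg
      have hup' : (u : G) ^ p = 1 := by
        have := congrArg Subtype.val hup
        simpa using this
      obtain ⟨a, b, hab⟩ := hI u (hRT u hu) hup'
      have hgup : ((g * u * g⁻¹ : L) : G) ^ p = 1 := by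
        have h1 : (g * u * g⁻¹ : L) ^ p = g * u ^ p * g⁻¹ := by rw [conj_pow]
        have h2 := congrArg Subtype.val h1
        rw [hup] at h2
        simpa using h2
      obtain ⟨c, d, hcd⟩ := hI _ (hRT _ hg) hgup
      apply Subtype.ext
      have e1 : ((g * u * g⁻¹ : L) : G) = (g : G) * x ^ a * (g : G)⁻¹ * y ^ b := by
        have hyb : y ^ b * (g : G)⁻¹ = (g : G)⁻¹ * y ^ b := by
          have h1 : Commute y ((g : G)⁻¹) := hcy _ (inv_mem g.2)
          exact (h1.zpow_left b)
        calc ((g * u * g⁻¹ : L) : G) = (g : G) * (x ^ a * y ^ b) * (g : G)⁻¹ := by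
              rw [← hab]; rfl
          _ = (g : G) * x ^ a * (y ^ b * (g : G)⁻¹) := by group
          _ = (g : G) * x ^ a * (g : G)⁻¹ * y ^ b := by rw [hyb]; group
      have e2 : ((g : G) * x * (g : G)⁻¹) ^ a = x ^ c * y ^ (d - b) := by
        rw [conj_zpow]
        have h1 : (g : G) * x ^ a * (g : G)⁻¹ * y ^ b = x ^ c * y ^ d := by rw [← e1, hcd]
        calc (g : G) * x ^ a * (g : G)⁻¹ = ((g : G) * x ^ a * (g : G)⁻¹ * y ^ b) * (y ^ b)⁻¹ := by group
          _ = x ^ c * y ^ d * (y ^ b)⁻¹ := by rw [h1]
          _ = x ^ c * y ^ (d - b) := by rw [zpow_sub]; group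
      have e3 : Commute x (((g : G) * x * (g : G)⁻¹) ^ a) := by
        rw [e2]
        exact ((Commute.refl x).zpow_right c).mul_right (hxy.zpow_right _)
      have e4 : (g : G) * x ^ a * (g : G)⁻¹ = x ^ a := by
        by_cases hpa : (p : ℤ) ∣ a
        · obtain ⟨m, rfl⟩ := hpa
          rw [zpow_mul, zpow_natCast, hxp, one_zpow]; group
        · have hco : IsCoprime (p : ℤ) a := by
            rw [Int.isCoprime_iff_gcd_eq_one]
            have h1 := (Nat.Prime.coprime_iff_not_dvd hpp.out (n := a.natAbs)).2
              (by rwa [← Int.natCast_dvd])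
            simpa [Int.gcd] using h1
          obtain ⟨r, s, hrs⟩ := hco
          have hgx : ((g : G) * x * (g : G)⁻¹) ^ p = 1 := by rw [conj_pow, hxp]; group
          have h1 : (g : G) * x * (g : G)⁻¹ = (((g : G) * x * (g : G)⁻¹) ^ a) ^ s := by
            rw [← zpow_mul, mul_comm a s]
            conv_lhs => rw [← zpow_one ((g : G) * x * (g : G)⁻¹), ← hrs, zpow_add, mul_comm r, zpow_mul,
              zpow_natCast, hgx, one_zpow, one_mul]
          have h2 : Commute x ((g : G) * x * (g : G)⁻¹) := by
            rw [h1]; exact e3.zpow_right s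
          have h3 := hiso g h2
          rw [← conj_zpow, h3]
      rw [e1, e4, hab])
    have h1 := not_dvd_of_perfect_of_compl Q hperf hcompl
    have h2 : p ∣ Nat.card (Q : Subgroup L) := Q.dvd_card_of_dvd_card hpL
    rw [h1, Subgroup.card_bot] at h2
    exact hpp.out.one_lt.not_ge (Nat.le_of_dvd one_pos h2)
  · push Not at hI
    obtain ⟨u, hu, hup, hne⟩ := hI
    let E := Subgroup.zpowers x ⊔ Subgroup.zpowers y
    have hE : ∀ v ∈ E, ∃ a b : ℤ, v = x ^ a * y ^ b := by
      have h1 : E ≤ ({ carrier := {v | ∃ a b : ℤ, v = x ^ a * y ^ b}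
                       one_mem' := ⟨0, 0, by simp⟩
                       mul_mem' := by
                        rintro _ _ ⟨a, b, rfl⟩ ⟨c, d, rfl⟩
                        refine ⟨a + c, b + d, ?_⟩
                        have h2 : y ^ b * x ^ c = x ^ c * y ^ b := ((hxy.zpow_zpow c b).symm)
                        rw [zpow_add, zpow_add]
                        calc x ^ a * y ^ b * (x ^ c * y ^ d) = x ^ a * (y ^ b * x ^ c) * y ^ d := by group
                          _ = x ^ a * x ^ c * (y ^ b * y ^ d) := by rw [h2]; group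
                       inv_mem' := by
                        rintro _ ⟨a, b, rfl⟩
                        refine ⟨-a, -b, ?_⟩
                        have h2 : (x ^ a * y ^ b)⁻¹ = y ^ (-b) * x ^ (-a) := by
                          rw [mul_inv_rev, zpow_neg, zpow_neg]
                        rw [h2]
                        exact (hxy.zpow_zpow (-a) (-b)).symm } : Subgroup G) := by
        refine sup_le ?_ ?_
        · rw [Subgroup.zpowers_le]; exact ⟨1, 0, by simp⟩
        · rw [Subgroup.zpowers_le]; exact ⟨0, 1, by simp⟩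
      exact fun v hv => h1 hv
    have huE : u ∉ E := fun h => by
      obtain ⟨a, b, hab⟩ := hE u h
      exact hne a b hab
    have hxy0 : x ∉ Subgroup.zpowers y := by
      intro h
      apply hxL
      exact (Subgroup.zpowers_le.mpr hyL) h
    have h1 : Nat.card E * Nat.card (Subgroup.zpowers u) ≤ Nat.card ↥(E ⊔ Subgroup.zpowers u) := by
      have := card_mul_le (H := E) (K := Subgroup.zpowers u)
      rwa [zpowers_inf_eq_bot hup huE, Subgroup.card_bot, mul_one] at this
    have h2 : Nat.card (Subgroup.zpowers x) * Nat.card (Subgroup.zpowers y) ≤ Nat.card E := by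
      have := card_mul_le (H := Subgroup.zpowers x) (K := Subgroup.zpowers y)
      have h3 : Subgroup.zpowers x ⊓ Subgroup.zpowers y = ⊥ := by
        rw [inf_comm]; exact zpowers_inf_eq_bot hxp hxy0
      rwa [h3, Subgroup.card_bot, mul_one] at this
    have hu1 : u ≠ 1 := by
      intro h; exact hne 0 0 (by rw [h]; simp)
    have huo : orderOf u = p := orderOf_eq_prime hup hu1
    rw [Nat.card_zpowers, Nat.card_zpowers, hx, hy] at h2
    rw [Nat.card_zpowers, huo] at h1
    -- the elementary abelian group
    have hS := closure_elem (G := G) (p := p) ({x, y, u} : Set G) (by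
      have hxu : x * u = u * x := hcx u hu.1
      have hyu : y * u = u * y := hcy u hu.2
      have hxy' : x * y = y * x := hxy
      intro a ha b hb
      simp only [Set.mem_insert_iff, Set.mem_singleton_iff] at ha hb
      rcases ha with rfl | rfl | rfl <;> rcases hb with rfl | rfl | rfl <;>
        first | rfl | assumption | (symm; assumption)) (by
      intro a ha
      simp only [Set.mem_insert_iff, Set.mem_singleton_iff] at ha
      rcases ha with rfl | rfl | rfl <;> assumption)
    have h3 := hrank _ hS.1 hS.2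
    have h4 : E ⊔ Subgroup.zpowers u ≤ Subgroup.closure ({x, y, u} : Set G) := by
      refine sup_le (sup_le ?_ ?_) ?_ <;> rw [Subgroup.zpowers_le] <;> apply Subgroup.subset_closure <;> simp
    have h5 := Subgroup.card_le_of_le h4
    have h6 : p * p * p ≤ p ^ 2 := by
      calc p * p * p ≤ Nat.card E * p := by gcongr
        _ ≤ _ := h1
        _ ≤ _ := h5
        _ ≤ _ := h3
    have h7 := hpp.out.two_le
    nlinarith [Nat.mul_le_mul h7 (le_refl (p * p)), Nat.mul_pos hpp.out.pos hpp.out.pos]

end Cfsg.Agent.H271.Isolated
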