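import Mathlib
import Cfsg.Agent.H271.Isolated

/-!
# `F*(G)` for a non-central isolated element of order `p` in `p`-rank at most two

`exists_component`: `F*(G)` is a component `L` (a simple group) not centralised by `x`.
-/

set_option autoImplicit false

namespace Cfsg.Agent.H271.IsolatedFStar

open Cfsg Cfsg.Agent.H271.Isolated Cfsg.Agent.SignalizersComponents.Components
  Cfsg.Agent.SignalizersComponents.CompBasic Cfsg.Agent.Lib.GenFitting

variable {G : Type*} [Group G]

/-- nontrivial subnormal subgroups have order divisible by `p` if `O_{p'}(G) = 1`. -/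
theorem dvd_card [Finite G] {p : ℕ} [hpp : Fact p.Prime] (hcore : pPrimeCore p G = ⊥) {H : Subgroup G}
    (hH : H.IsSubnormal) (hne : H ≠ ⊥) : p ∣ Nat.card H := by
  by_contra h
  apply hne
  rw [← le_bot_iff, ← hcore]
  exact subnormal_coprime_le_pPrimeCore hH ((Nat.Prime.coprime_iff_not_dvd hpp.out).mpr h).symm

/-- A nontrivial subnormal subgroup contains an element of order `p` of `T`. -/
theorem exists_mem [Finite G] {p : ℕ} [hpp : Fact p.Prime] (hcore : pPrimeCore p G = ⊥) (T : Sylow p G) {H : Subgroup G}
    (hH : H.IsSubnormal) (hne : H ≠ ⊥) : ∃ y ∈ H, y ∈ T ∧ orderOf y = p := by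
  obtain ⟨Q, hQ⟩ := Cfsg.Agent.S0542.result p H hH T
  have h1 : p ∣ Nat.card (Q : Subgroup H) := Q.dvd_card_of_dvd_card (dvd_card hcore hH hne)
  obtain ⟨y, hy⟩ := exists_prime_orderOf_dvd_card' p h1
  have h2 : ((y : H) : H) ∈ (T : Subgroup G).subgroupOf H := by rw [← hQ]; exact y.2
  refine ⟨((y : H) : G), (y : H).2, h2, ?_⟩
  rw [Subgroup.orderOf_coe, Subgroup.orderOf_coe, hy]

/-- The component not centralised by `x`. -/
theorem exists_component [Finite G] {p : ℕ} [hpp : Fact p.Prime] (hcore : pPrimeCore p G = ⊥)
    {x : G} (hx : orderOf x = p) (hiso : IsIsolated x) (hnc : x ∉ Subgroup.center G) (T : Sylow p G) (hxT : x ∈ T) :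
    ∃ L : Subgroup G, IsComponent L ∧ x ∉ Subgroup.centralizer (L : Set G) := by
  by_contra hcon
  push Not at hcon
  apply hnc
  -- `x` centralises `F*(G)`
  have hT : ∀ z ∈ T, x * z = z * x := fun z hz => comm_of_mem hiso T.2 hxT hz
  have hF : x ∈ Subgroup.centralizer (fittingSubgroup G : Set G) := by
    have hnil : Group.IsNilpotent (fittingSubgroup G) := Cfsg.Agent.Lib.Cores.fittingSubgroup_isNilpotent
    have hFp : IsPGroup p (fittingSubgroup G) := by
      -- otherwise there is a nontrivial `q`-core
      rw [IsPGroup.iff_orderOf]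
      intro f
      by_contra hf
      push Not at hf
      have hd0 : orderOf f ≠ 0 := (orderOf_pos f).ne'
      have : ∃ q : ℕ, q.Prime ∧ q ∣ orderOf f ∧ q ≠ p := by
        by_contra h2
        push Not at h2
        exact hf _ (Nat.eq_prime_pow_of_unique_prime_dvd hd0 (fun {q} hq hqd => h2 q hq hqd))
      obtain ⟨q, hq, hqd, hqp⟩ := this
      have hqf : Fact q.Prime := ⟨hq⟩
      let e : G := (f : G) ^ (orderOf f / q)
      have he : orderOf e = q := by
        have h3 : orderOf (f : G) = orderOf f := Subgroup.orderOf_coe f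
        show orderOf ((f : G) ^ (orderOf f / q)) = q
        rw [← h3, orderOf_pow_orderOf_div (by rw [h3]; exact hd0) (by rw [h3]; exact hqd)]
      have heF : e ∈ fittingSubgroup G := (fittingSubgroup G).pow_mem f.2 _
      have h4 : e ∈ pCore q G := mem_pCore_of_mem_fitting heF (k := 1) (by rw [pow_one, ← he]; exact pow_orderOf_eq_one e)
      have h5 : pCore q G ≤ pPrimeCore p G := by
        apply le_sSup
        refine ⟨inferInstance, ?_⟩
        obtain ⟨k, hk⟩ := (Cfsg.Agent.Lib.Cores.pCore_isPGroup q (G := G)).exists_card_eq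
        rw [hk]
        exact Nat.Coprime.pow_left k ((Nat.coprime_primes hq hpp.out).mpr hqp)
      have h6 : e ∈ pPrimeCore p G := h5 h4
      rw [hcore, Subgroup.mem_bot] at h6
      rw [h6, orderOf_one] at he
      exact hq.one_lt.ne he
    have hFT : fittingSubgroup G ≤ (T : Subgroup G) := by
      have hn : (fittingSubgroup G).Normal := Cfsg.Agent.Lib.Cores.fittingSubgroup_normal
      exact hFp.le_sylow_of_normal T
    rw [Subgroup.mem_centralizer_iff]
    intro z hz
    exact (hT z (hFT hz)).symm
  have hE : x ∈ Subgroup.centralizer (layer G : Set G) := by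
    have h1 : layer G ≤ Subgroup.centralizer ({x} : Set G) := by
      rw [layer_le_iff]
      intro K hK k hk
      rw [Subgroup.mem_centralizer_singleton_iff]
      exact Subgroup.mem_centralizer_iff.mp (hcon K hK) k hk
    rw [Subgroup.mem_centralizer_iff]
    intro z hz
    exact Subgroup.mem_centralizer_singleton_iff.mp (h1 hz)
  have hFE : x ∈ Subgroup.centralizer (generalizedFittingSubgroup G : Set G) := by
    have h1 : generalizedFittingSubgroup G ≤ Subgroup.centralizer ({x} : Set G) := by
      refine sup_le ?_ ?_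
      · intro z hz
        rw [Subgroup.mem_centralizer_singleton_iff]
        exact Subgroup.mem_centralizer_iff.mp hE z hz
      · intro z hz
        rw [Subgroup.mem_centralizer_singleton_iff]
        exact Subgroup.mem_centralizer_iff.mp hF z hz
    rw [Subgroup.mem_centralizer_iff]
    intro z hz
    exact Subgroup.mem_centralizer_singleton_iff.mp (h1 hz)
  have hN : (Subgroup.centralizer (generalizedFittingSubgroup G : Set G)).Normal := by
    have : (generalizedFittingSubgroup G).Normal := genFitting_normal
    infer_instance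
  -- conjugates of `x` commute with `x`
  rw [Subgroup.mem_center_iff]
  intro g
  have h1 : g * x * g⁻¹ ∈ Subgroup.centralizer (generalizedFittingSubgroup G : Set G) := hN.conj_mem x hFE g
  have h2 : g * x * g⁻¹ ∈ generalizedFittingSubgroup G := centralizer_genFitting_le h1
  have h3 : Commute x (g * x * g⁻¹) := (Subgroup.mem_centralizer_iff.mp hFE _ h2).symm
  have h4 := hiso g h3
  calc g * x = (g * x * g⁻¹) * g := by group
    _ = x * g := by rw [h4]

/-- `F*(G)` is a simple component. -/
theorem fstar_eq [Finite G] {p : ℕ} [hpp : Fact p.Prime] (hp : p ≠ 2) (hcore : pPrimeCore p G = ⊥)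
    (hrank : PRankLE p 2 G) {x : G} (hx : orderOf x = p) (hiso : IsIsolated x) (T : Sylow p G)
    (hxT : x ∈ T) {L : Subgroup G} (hL : IsComponent L) (hxL : x ∉ Subgroup.centralizer (L : Set G)) :
    generalizedFittingSubgroup G = L ∧ generalizedFittingSubgroup G ⊓ Subgroup.centralizer (L : Set G) = ⊥ := by
  have hnF : (generalizedFittingSubgroup G).Normal := genFitting_normal
  have hFL : generalizedFittingSubgroup G ≤ Subgroup.normalizer (L : Set G) := by
    refine sup_le (layer_le_normalizer_component hL) ?_
    have h1 : fittingSubgroup G ≤ Subgroup.centralizer (L : Set G) := by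
      intro f hf
      rw [Subgroup.mem_centralizer_iff]
      intro l hl
      exact (Subgroup.mem_centralizer_iff.mp (layer_le_centralizer_fitting (component_le_layer hL hl)) f hf).symm
    exact h1.trans (Subgroup.centralizer_le_normalizer _)
  have hsub : (generalizedFittingSubgroup G ⊓ Subgroup.centralizer (L : Set G)).IsSubnormal := by
    refine Subgroup.IsSubnormal.step _ (generalizedFittingSubgroup G) inf_le_left hnF.isSubnormal ?_
    apply Subgroup.normal_subgroupOf_of_le_normalizer
    intro f hf
    rw [Subgroup.mem_normalizer_iff]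
    intro c
    have key : ∀ f ∈ generalizedFittingSubgroup G, ∀ c ∈ generalizedFittingSubgroup G ⊓ Subgroup.centralizer (L : Set G),
        f * c * f⁻¹ ∈ generalizedFittingSubgroup G ⊓ Subgroup.centralizer (L : Set G) := by
      intro f hf c hc
      refine ⟨Subgroup.mul_mem _ (Subgroup.mul_mem _ hf hc.1) (Subgroup.inv_mem _ hf), ?_⟩
      have h1 := hFL hf
      show f * c * f⁻¹ ∈ Subgroup.centralizer (L : Set G)
      rw [Subgroup.mem_centralizer_iff]
      intro l hl
      have h2 : f⁻¹ * l * f ∈ L := by
        have := (Subgroup.mem_normalizer_iff.mp (Subgroup.inv_mem _ h1) l).mp hl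
        simpa using this
      have h3 := Subgroup.mem_centralizer_iff.mp hc.2 _ h2
      calc l * (f * c * f⁻¹) = f * ((f⁻¹ * l * f) * c) * f⁻¹ := by group
        _ = f * (c * (f⁻¹ * l * f)) * f⁻¹ := by rw [h3]
        _ = f * c * f⁻¹ * l := by group
    constructor
    · exact key f hf c
    · intro h
      have := key f⁻¹ (Subgroup.inv_mem _ hf) _ h
      have h2 : f⁻¹ * (f * c * f⁻¹) * f⁻¹⁻¹ = c := by group
      rwa [h2] at this
  have hbot : generalizedFittingSubgroup G ⊓ Subgroup.centralizer (L : Set G) = ⊥ := by
    by_contra hne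
    obtain ⟨y, hyC, hyT, hy⟩ := exists_mem hcore T hsub hne
    obtain ⟨Q, hQ⟩ := Cfsg.Agent.S0542.result p L hL.1 T
    exact no_centralizing hp hrank hx hiso T hxT hL.2.1.commutator_eq_top (dvd_card hcore hL.1 (component_ne_bot hL)) Q hQ
      hxL hyT hy hyC.2
  refine ⟨?_, hbot⟩
  apply le_antisymm _ (component_le_genFitting hL)
  have h1 : ∀ H : Subgroup G, H ≤ generalizedFittingSubgroup G → H ≤ Subgroup.centralizer (L : Set G) → H ≤ L := by
    intro H h1 h2
    have : H ≤ ⊥ := by rw [← hbot]; exact le_inf h1 h2
    exact this.trans bot_le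
  refine sup_le ?_ ?_
  · rw [layer_le_iff]
    intro K hK
    by_cases h : K = L
    · rw [h]
    · exact h1 K (component_le_genFitting hK) (component_le_centralizer_of_ne hK hL h)
  · apply h1 _ fitting_le_genFitting
    intro f hf
    rw [Subgroup.mem_centralizer_iff]
    intro l hl
    exact (Subgroup.mem_centralizer_iff.mp (layer_le_centralizer_fitting (component_le_layer hL hl)) f hf).symm

theorem isSimple_of_center_eq_bot {L : Type*} [Group L] (hq : IsQuasisimple L) (hz : Subgroup.center L = ⊥) :
    IsSimpleGroup L := by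
  have h1 := hq.2
  have e : L ⧸ Subgroup.center L ≃* L := (QuotientGroup.quotientMulEquivOfEq hz).trans QuotientGroup.quotientBot
  exact e.symm.isSimpleGroup

end Cfsg.Agent.H271.IsolatedFStar
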