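import Mathlib
import Cfsg.Prelude.Def_CaseTheorems
import Cfsg.Prelude.Def_OddOrderLocal
import Cfsg.Agent.Lib.FrattiniPGroup
import Cfsg.Agent.S0014
import Cfsg.Agent.Transfer.PGroupChain
import Cfsg.Agent.S3888
import Cfsg.Agent.S2792

/-!
# `p`-groups of rank at most two, `p` odd: the transfer criterion of Wielandt and Yoshida

`tr` : `W` a maximal subgroup of `G`, `[u, z, z] ∈ Φ(W)` for all `u`, `z` in `G`.
`control` : a Sylow `p`-subgroup of rank at most two: `S ∩ G' = S ∩ N(S)'`.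
-/

set_option autoImplicit false

namespace Cfsg.Agent.H271.RankTwoTr

open Cfsg Subgroup

section basic

variable {G : Type*} [Group G] [Finite G] {p : ℕ} [hpp : Fact p.Prime]

/-- A nontrivial normal subgroup of a `p`-group properly contains its commutator with the group. -/
theorem commutator_lt (hG : IsPGroup p G) (N : Subgroup G) [N.Normal] (hN : N ≠ ⊥) : ⁅N, (⊤ : Subgroup G)⁆ < N := by
  have hnil : Group.IsNilpotent G := hG.isNilpotent
  exact Cfsg.Agent.Transfer.PGroupChain.commutator_top_lt N hN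

/-- A normal subgroup of order at most `p²` of a `p`-group. -/
theorem comm_comm_eq_bot (hG : IsPGroup p G) (N : Subgroup G) [N.Normal] (hN : Nat.card N ≤ p ^ 2) :
    ⁅⁅N, (⊤ : Subgroup G)⁆, (⊤ : Subgroup G)⁆ = ⊥ := by
  have key : ∀ (k : ℕ) (M : Subgroup G) [M.Normal], Nat.card M ≤ p ^ (k + 1) → Nat.card (⁅M, (⊤ : Subgroup G)⁆ : Subgroup G) ≤ p ^ k := by
    intro k M hM h
    by_cases hb : M = ⊥
    · subst hb
      rw [Subgroup.commutator_bot_left, Subgroup.card_bot]
      exact Nat.one_le_pow _ _ hpp.out.pos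
    have h1 := commutator_lt hG M hb
    obtain ⟨a, ha⟩ := IsPGroup.iff_card.1 (hG.to_subgroup M)
    obtain ⟨b, hb⟩ := IsPGroup.iff_card.1 (hG.to_subgroup (⁅M, (⊤ : Subgroup G)⁆ : Subgroup G))
    have h2 : Nat.card (⁅M, (⊤ : Subgroup G)⁆ : Subgroup G) < Nat.card M := by
      apply lt_of_le_of_ne (Subgroup.card_le_of_le h1.le)
      intro h
      exact h1.ne (Subgroup.eq_of_le_of_card_ge h1.le h.ge)
    rw [ha, hb] at h2
    rw [ha] at h
    rw [hb]
    have h3 := (Nat.pow_lt_pow_iff_right hpp.out.one_lt).mp h2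
    have h4 := (Nat.pow_le_pow_iff_right hpp.out.one_lt).mp h
    exact Nat.pow_le_pow_right hpp.out.pos (by omega)
  have h1 := key 1 N hN
  have h2 := key 0 (⁅N, (⊤ : Subgroup G)⁆) h1
  rw [pow_zero] at h2
  exact Subgroup.eq_bot_of_card_le _ h2

/-- the commutator `y⁻¹ z⁻¹ y z` -/
def cm (z y : G) : G := y⁻¹ * z⁻¹ * y * z

theorem cm_mem {N : Subgroup G} (hN : N.Normal) (z : G) {y : G} (hy : y ∈ N) : cm z y ∈ N := by
  have : cm z y = y⁻¹ * (z⁻¹ * y * z⁻¹⁻¹) := by rw [cm, inv_inv]; group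
  rw [this]
  exact N.mul_mem (N.inv_mem hy) (hN.conj_mem y hy z⁻¹)

theorem cm_mem_commutator {M : Subgroup G} (z : G) {y : G} (hy : y ∈ M) : cm z y ∈ ⁅M, (⊤ : Subgroup G)⁆ := by
  have := Subgroup.commutator_mem_commutator (M.inv_mem hy) (Subgroup.mem_top (z⁻¹ : G))
  rw [commutatorElement_def, inv_inv, inv_inv] at this
  exact this

/-- The main computation. -/
theorem core (hG : IsPGroup p G) (Φ W N C : Subgroup G) [hΦ : Φ.Normal] [hN : N.Normal] (hWW : ⁅W, W⁆ ≤ Φ)
    (hW : IsCoatom W) (hcard : Nat.card (N.map (QuotientGroup.mk' Φ)) ≤ p ^ 2)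
    (hC : ⁅C, (⊤ : Subgroup G)⁆ ≤ Φ) (hWNC : W ≤ N ⊔ C) (u z : G) : cm z (cm z u) ∈ Φ := by
  have hWn : W.Normal := Lib.FrattiniPGroup.normal_of_coatom hG hW
  by_cases hz : z ∈ W
  · have h1 : cm z u ∈ W := by
      have : cm z u = (u⁻¹ * z⁻¹ * u⁻¹⁻¹) * z := by rw [cm, inv_inv]
      rw [this]
      exact W.mul_mem (hWn.conj_mem _ (W.inv_mem hz) _) hz
    have h2 := Subgroup.commutator_mem_commutator (W.inv_mem h1) (W.inv_mem hz)
    rw [commutatorElement_def, inv_inv, inv_inv] at h2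
    exact hWW h2
  · have htop : W ⊔ Subgroup.zpowers z = ⊤ := by
      apply hW.2
      refine lt_of_le_of_ne le_sup_left ?_
      intro h
      apply hz
      rw [h]
      exact (le_sup_right : Subgroup.zpowers z ≤ W ⊔ Subgroup.zpowers z) (Subgroup.mem_zpowers z)
    have hu : u ∈ W ⊔ Subgroup.zpowers z := by rw [htop]; trivial
    obtain ⟨w, hw, y, hy, rfl⟩ := Subgroup.mem_sup_of_normal_left.mp hu
    obtain ⟨n, hn, c, hc, rfl⟩ := Subgroup.mem_sup_of_normal_left.mp (hWNC hw)
    obtain ⟨i, rfl⟩ := hy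
    -- pass to the quotient
    let π := QuotientGroup.mk' Φ
    have hπ : ∀ g, π g = 1 ↔ g ∈ Φ := fun g => QuotientGroup.eq_one_iff g
    have hcc : ∀ g : G, π c * π g = π g * π c := by
      intro g
      have h1 : π (c * g * c⁻¹ * g⁻¹) = 1 := by
        rw [hπ]
        apply hC
        have := Subgroup.commutator_mem_commutator hc (Subgroup.mem_top g)
        rwa [commutatorElement_def] at this
      rw [map_mul, map_mul, map_mul, map_inv, map_inv, mul_inv_eq_one, mul_inv_eq_iff_eq_mul] at h1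
      exact h1
    have hNn : (N.map π).Normal := Subgroup.Normal.map hN _ (QuotientGroup.mk'_surjective Φ)
    have hQp : IsPGroup p (G ⧸ Φ) := hG.to_quotient Φ
    have hbot := comm_comm_eq_bot hQp (N.map π) hcard
    show cm z (cm z ((n * c) * z ^ i)) ∈ Φ
    rw [← hπ]
    have e1 : π (cm z (n * c * z ^ i)) = (π z ^ i)⁻¹ * cm (π z) (π n) * π z ^ i := by
      have h1 : cm z (n * c * z ^ i) = (z ^ i)⁻¹ * (c⁻¹ * ((n⁻¹ * z⁻¹ * n) * c)) * z * z ^ i := by
        rw [cm]; group
      have h2 : π (c⁻¹ * ((n⁻¹ * z⁻¹ * n) * c)) = π (n⁻¹ * z⁻¹ * n) := by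
        rw [map_mul, map_mul π _ c, ← hcc, map_inv, inv_mul_cancel_left]
      rw [h1, map_mul, map_mul, map_mul, h2]
      simp only [map_mul, map_inv, map_zpow, cm]
      group
    have e2 : π (cm z (cm z (n * c * z ^ i))) = cm (π z) (π (cm z (n * c * z ^ i))) := by
      simp only [cm, map_mul, map_inv]
    rw [e2]
    have h3 : π (cm z (n * c * z ^ i)) ∈ (⁅N.map π, (⊤ : Subgroup (G ⧸ Φ))⁆ : Subgroup (G ⧸ Φ)) := by
      rw [e1]
      have h4 : (⁅N.map π, (⊤ : Subgroup (G ⧸ Φ))⁆ : Subgroup (G ⧸ Φ)).Normal := inferInstance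
      have h5 := h4.conj_mem (cm (π z) (π n)) (cm_mem_commutator (π z) ⟨n, hn, rfl⟩) (π z ^ i)⁻¹
      rwa [inv_inv] at h5
    have h6 := cm_mem_commutator (π z) h3
    rw [hbot, Subgroup.mem_bot] at h6
    exact h6

end basic

section tr

variable {G : Type*} [Group G] [Finite G] {p : ℕ} [hpp : Fact p.Prime]

/-- index of the Frattini subgroup of a group generated by two elements -/
theorem index_le_of_two {W : Type*} [Group W] [Finite W] (hW : IsPGroup p W) (a b : W)
    (h : Subgroup.closure ({a, b} : Set W) = ⊤) : (frattini W).index ≤ p ^ 2 := by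
  classical
  obtain ⟨n, hn⟩ := hW.index (frattini W)
  have h1 := (Cfsg.Agent.S0014.result p n hW hn).2 {a, b} (by simpa using h)
  rw [hn]
  apply Nat.pow_le_pow_right hpp.out.pos
  exact h1.trans Finset.card_le_two

theorem index_le_of_metacyclic {W : Type*} [Group W] [Finite W] (hW : IsPGroup p W) (h : IsMetacyclic W) :
    (frattini W).index ≤ p ^ 2 := by
  obtain ⟨N, hN, hc, hcq⟩ := h
  obtain ⟨g, hg⟩ := hc.exists_generator
  obtain ⟨q, hq⟩ := hcq.exists_generator
  obtain ⟨b, rfl⟩ := QuotientGroup.mk_surjective q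
  apply index_le_of_two hW (g : W) b
  rw [eq_top_iff]
  intro w _
  obtain ⟨i, hi⟩ := hq (w : W ⧸ N)
  have h1 : (b ^ i)⁻¹ * w ∈ N := by
    rw [← QuotientGroup.eq]
    exact hi
  obtain ⟨j, hj⟩ := hg ⟨_, h1⟩
  have h2 : (g : W) ^ j = (b ^ i)⁻¹ * w := congrArg Subtype.val hj
  have h3 : w = b ^ i * (g : W) ^ j := by rw [h2]; group
  rw [h3]
  exact Subgroup.mul_mem _ (Subgroup.zpow_mem _ (Subgroup.subset_closure (by simp)) _)
    (Subgroup.zpow_mem _ (Subgroup.subset_closure (by simp)) _)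

/-- index of the derived group of a group of maximal class -/
theorem index_le_of_maximal {W : Type*} [Group W] [Finite W] (n : ℕ) (hn : 2 ≤ n) (hW : Nat.card W = p ^ n)
    (h : (⊤ : Subgroup W).lowerCentralSeries (n - 2) ≠ ⊥) : (frattini W).index ≤ p ^ 2 := by
  have hWp : IsPGroup p W := IsPGroup.of_card hW
  have hnil : Group.IsNilpotent W := hWp.isNilpotent
  have key : ∀ k : ℕ, k ≤ n - 2 → p ^ (k + 1) ≤ Nat.card ((⊤ : Subgroup W).lowerCentralSeries (n - 2 - k)) := by
    intro k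
    induction k with
    | zero =>
      intro _
      obtain ⟨a, ha⟩ := IsPGroup.iff_card.1 (hWp.to_subgroup ((⊤ : Subgroup W).lowerCentralSeries (n - 2)))
      rw [Nat.sub_zero, ha]
      apply Nat.pow_le_pow_right hpp.out.pos
      rcases Nat.eq_zero_or_pos a with h0 | h0
      · exfalso; apply h
        rw [h0, pow_zero] at ha
        exact Subgroup.eq_bot_of_card_eq _ ha
      · omega
    | succ k ih =>
      intro hk
      have h1 := ih (by omega)
      have e : n - 2 - k = (n - 2 - (k + 1)) + 1 := by omega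
      rw [e] at h1
      have h2 : (⊤ : Subgroup W).lowerCentralSeries ((n - 2 - (k + 1)) + 1) <
          (⊤ : Subgroup W).lowerCentralSeries (n - 2 - (k + 1)) := by
        rw [Subgroup.lowerCentralSeries_succ]
        apply commutator_lt hWp
        intro hb
        apply h
        rw [eq_bot_iff, ← hb]
        exact Subgroup.lowerCentralSeries_antitone _ (by omega)
      obtain ⟨a, ha⟩ := IsPGroup.iff_card.1 (hWp.to_subgroup ((⊤ : Subgroup W).lowerCentralSeries ((n - 2 - (k + 1)) + 1)))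
      obtain ⟨b, hb⟩ := IsPGroup.iff_card.1 (hWp.to_subgroup ((⊤ : Subgroup W).lowerCentralSeries (n - 2 - (k + 1))))
      have h3 : Nat.card ((⊤ : Subgroup W).lowerCentralSeries ((n - 2 - (k + 1)) + 1)) <
          Nat.card ((⊤ : Subgroup W).lowerCentralSeries (n - 2 - (k + 1))) := by
        apply lt_of_le_of_ne (Subgroup.card_le_of_le h2.le)
        intro h
        exact h2.ne (Subgroup.eq_of_le_of_card_ge h2.le h.ge)
      rw [ha] at h1 h3
      rw [hb] at h3 ⊢
      have h4 := (Nat.pow_lt_pow_iff_right hpp.out.one_lt).mp h3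
      have h5 := (Nat.pow_le_pow_iff_right hpp.out.one_lt).mp h1
      exact Nat.pow_le_pow_right hpp.out.pos (by omega)
  have hfr : (⊤ : Subgroup W).lowerCentralSeries 1 ≤ frattini W := by
    rw [Subgroup.top_lowerCentralSeries_one]
    exact Lib.FrattiniPGroup.commutator_le_frattini hWp
  obtain ⟨b, hb⟩ := hWp.index (frattini W)
  rw [hb]
  apply Nat.pow_le_pow_right hpp.out.pos
  by_contra hcon
  push Not at hcon
  obtain ⟨a, ha⟩ := IsPGroup.iff_card.1 (hWp.to_subgroup (frattini W))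
  have h1 := (frattini W).card_mul_index
  rw [ha, hb, hW, ← pow_add] at h1
  have h2 := Nat.pow_right_injective hpp.out.two_le h1
  have h3 : p ^ (n - 2) ≤ p ^ a := by
    by_cases h' : 3 ≤ n
    · have h4 := key (n - 3) (by omega)
      have e1 : n - 2 - (n - 3) = 1 := by omega
      have e2 : n - 3 + 1 = n - 2 := by omega
      rw [e1, e2] at h4
      rw [← ha]
      exact h4.trans (Subgroup.card_le_of_le hfr)
    · have : n - 2 = 0 := by omega
      rw [this, pow_zero]
      exact Nat.one_le_pow _ _ hpp.out.pos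
  have h5 := (Nat.pow_le_pow_iff_right hpp.out.one_lt).mp h3
  omega

end tr

end Cfsg.Agent.H271.RankTwoTr
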