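import Mathlib
import Cfsg.Agent.H271.RankTwoTr
import Cfsg.Agent.Lib.CoprimeStab

/-!
# The groups `C(p, m)`

`W` of order `p ^ m` generated by `x`, `y`, `z`, `x^p = y^p = 1`, `z` central of order dividing `p ^ (m - 2)`,
`x⁻¹ y x = y z^(p^(m-3))`.
-/

set_option autoImplicit false

namespace Cfsg.Agent.H271.RankTwoC

open Cfsg Subgroup
open Cfsg.Agent.H271.RankTwoTr

/-- A group generated by a set of commuting elements. -/
theorem comm_of_closure {W : Type*} [Group W] (S : Set W) (h : Subgroup.closure S = ⊤)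
    (hc : ∀ a ∈ S, ∀ b ∈ S, a * b = b * a) (a b : W) : a * b = b * a := by
  have h1 := Subgroup.isMulCommutative_closure hc
  rw [h] at h1
  have := h1.is_comm.comm ⟨a, Subgroup.mem_top a⟩ ⟨b, Subgroup.mem_top b⟩
  exact congrArg Subtype.val this

variable {W : Type*} [Group W] [Finite W] {p : ℕ} [hpp : Fact p.Prime]

/-- elementary abelian groups generated by two elements -/
theorem card_le_of_elementary (hcomm : ∀ a b : W, a * b = b * a) (hpow : ∀ a : W, a ^ p = 1) (x y : W)
    (hgen : Subgroup.closure ({x, y} : Set W) = ⊤) : Nat.card W ≤ p ^ 2 := by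
  have hW : IsPGroup p W := fun g => ⟨1, by rw [pow_one]; exact hpow g⟩
  have hfr : frattini W = ⊥ := by
    rw [eq_bot_iff]
    apply Lib.FrattiniPGroup.frattini_le (p := p) ⊥
    · intro a b
      rw [Subgroup.mem_bot, commutatorElement_eq_one_iff_mul_comm]
      exact hcomm a b
    · intro a
      rw [Subgroup.mem_bot]; exact hpow a
  have := index_le_of_two hW x y hgen
  rwa [hfr, Subgroup.index_bot] at this

structure DataC (p m : ℕ) (W : Type*) [Group W] (x y z : W) : Prop where
  hm : 3 ≤ m
  hW : Nat.card W = p ^ m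
  hgen : Subgroup.closure ({x, y, z} : Set W) = ⊤
  hx : x ^ p = 1
  hy : y ^ p = 1
  hz : z ^ p ^ (m - 2) = 1
  hxz : x * z = z * x
  hyz : y * z = z * y
  hxy : x⁻¹ * y * x = y * z ^ p ^ (m - 3)

variable {m : ℕ} {x y z : W}

theorem DataC.z_center (h : DataC p m W x y z) : z ∈ center W := by
  rw [Subgroup.mem_center_iff]
  have : (⊤ : Subgroup W) ≤ Subgroup.centralizer {z} := by
    rw [← h.hgen, Subgroup.closure_le]
    rintro a (rfl | rfl | rfl)
    · rw [SetLike.mem_coe, Subgroup.mem_centralizer_singleton_iff]; exact h.hxz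
    · rw [SetLike.mem_coe, Subgroup.mem_centralizer_singleton_iff]; exact h.hyz
    · rw [SetLike.mem_coe, Subgroup.mem_centralizer_singleton_iff]
  intro g
  exact Subgroup.mem_centralizer_singleton_iff.mp (this (Subgroup.mem_top g))

/-- commutators modulo a normal subgroup containing `z^(p^(m-3))`. -/
theorem DataC.comm_mod (h : DataC p m W x y z) (N : Subgroup W) [N.Normal] (hN : z ^ p ^ (m - 3) ∈ N) (a b : W ⧸ N) :
    a * b = b * a := by
  have hc := h.z_center
  rw [Subgroup.mem_center_iff] at hc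
  apply comm_of_closure ((QuotientGroup.mk' N) '' {x, y, z})
  · rw [← MonoidHom.map_closure, h.hgen, Subgroup.map_top_of_surjective _ (QuotientGroup.mk'_surjective N)]
  · have h0 : (QuotientGroup.mk' N) (z ^ p ^ (m - 3)) = 1 := (QuotientGroup.eq_one_iff _).mpr hN
    have hxy : (QuotientGroup.mk' N) y * (QuotientGroup.mk' N) x = (QuotientGroup.mk' N) x * (QuotientGroup.mk' N) y := by
      have h1 := congrArg (QuotientGroup.mk' N) h.hxy
      rw [map_mul _ y, h0, mul_one, map_mul, map_mul, map_inv] at h1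
      calc (QuotientGroup.mk' N) y * (QuotientGroup.mk' N) x
          = (QuotientGroup.mk' N) x * (((QuotientGroup.mk' N) x)⁻¹ * (QuotientGroup.mk' N) y * (QuotientGroup.mk' N) x) := by group
        _ = _ := by rw [h1]
    have hzz : ∀ g : W, (QuotientGroup.mk' N) g * (QuotientGroup.mk' N) z = (QuotientGroup.mk' N) z * (QuotientGroup.mk' N) g := by
      intro g
      rw [← map_mul, ← map_mul, hc g]
    rintro _ ⟨a, (rfl | rfl | rfl), rfl⟩ _ ⟨b, (rfl | rfl | rfl), rfl⟩
    · rfl
    · exact hxy.symm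
    · exact hzz _
    · exact hxy
    · rfl
    · exact hzz _
    · exact (hzz _).symm
    · exact (hzz _).symm
    · rfl

theorem DataC.zpow_normal (h : DataC p m W x y z) : (zpowers z).Normal := by
  constructor
  rintro _ ⟨i, rfl⟩ g
  have hc := h.z_center
  rw [Subgroup.mem_center_iff] at hc
  refine ⟨i, ?_⟩
  have : Commute g (z ^ i) := ((show Commute g z from hc g)).zpow_right i
  show z ^ i = g * z ^ i * g⁻¹
  rw [this.eq, mul_inv_cancel_right]

theorem DataC.card_quot (h : DataC p m W x y z) : (zpowers z).index ≤ p ^ 2 := by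
  have hn := h.zpow_normal
  have hmem : z ^ p ^ (m - 3) ∈ zpowers z := Subgroup.pow_mem _ (Subgroup.mem_zpowers z) _
  have hcomm := h.comm_mod (zpowers z) hmem
  have hgen : Subgroup.closure ({(QuotientGroup.mk' (zpowers z)) x, (QuotientGroup.mk' (zpowers z)) y} : Set (W ⧸ zpowers z)) = ⊤ := by
    have h1 : Subgroup.closure ((QuotientGroup.mk' (zpowers z)) '' {x, y, z}) = ⊤ := by
      rw [← MonoidHom.map_closure, h.hgen, Subgroup.map_top_of_surjective _ (QuotientGroup.mk'_surjective _)]
    rw [eq_top_iff, ← h1, Subgroup.closure_le]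
    rintro _ ⟨a, (rfl | rfl | rfl), rfl⟩
    · exact Subgroup.subset_closure (by simp)
    · exact Subgroup.subset_closure (by simp)
    · have : (QuotientGroup.mk' (zpowers a)) a = 1 := (QuotientGroup.eq_one_iff _).mpr (Subgroup.mem_zpowers a)
      rw [this]; exact Subgroup.one_mem _
  apply card_le_of_elementary hcomm ?_ _ _ hgen
  intro a
  -- exponent p
  have h2 : (⊤ : Subgroup (W ⧸ zpowers z)) ≤ 
      { carrier := {a | a ^ p = 1}
        mul_mem' := fun {a b} ha hb => by
          show (a * b) ^ p = 1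
          rw [(show Commute a b from hcomm a b).mul_pow]
          rw [show a ^ p = 1 from ha, show b ^ p = 1 from hb, one_mul]
        one_mem' := one_pow p
        inv_mem' := fun {a} ha => by
          show a⁻¹ ^ p = 1
          rw [inv_pow, show a ^ p = 1 from ha, inv_one] } := by
    rw [← hgen, Subgroup.closure_le]
    rintro _ (rfl | rfl)
    · show _ ^ p = 1
      rw [← map_pow, h.hx, map_one]
    · show _ ^ p = 1
      rw [← map_pow, h.hy, map_one]
  exact h2 (Subgroup.mem_top a)

theorem DataC.order_z (h : DataC p m W x y z) : orderOf z = p ^ (m - 2) := by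
  have h1 := (zpowers z).card_mul_index
  rw [h.hW, Nat.card_zpowers] at h1
  have h2 := h.card_quot
  obtain ⟨k, hk, hk2⟩ := (Nat.dvd_prime_pow hpp.out).mp (orderOf_dvd_of_pow_eq_one h.hz)
  rw [hk2]
  congr 1
  by_contra hne
  have h3 : p ^ m ≤ p ^ k * p ^ 2 := by
    rw [← h1, hk2]
    exact Nat.mul_le_mul_left _ h2
  rw [← pow_add] at h3
  have h4 := (Nat.pow_le_pow_iff_right hpp.out.one_lt).mp h3
  have := h.hm
  omega

theorem DataC.w_ne_one (h : DataC p m W x y z) : z ^ p ^ (m - 3) ≠ 1 := by
  intro h1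
  have h2 := orderOf_dvd_of_pow_eq_one h1
  rw [h.order_z] at h2
  have h3 := (Nat.pow_dvd_pow_iff_le_right hpp.out.one_lt).mp h2
  have := h.hm
  omega

theorem DataC.w_pow (h : DataC p m W x y z) : (z ^ p ^ (m - 3)) ^ p = 1 := by
  rw [← pow_mul, ← pow_succ]
  have : m - 3 + 1 = m - 2 := by have := h.hm; omega
  rw [this, h.hz]

/-- the centre is generated by `z` -/
theorem DataC.center_eq (h : DataC p m W x y z) : center W = zpowers z := by
  have hWp : IsPGroup p W := IsPGroup.of_card h.hW
  apply le_antisymm _ (by rw [Subgroup.zpowers_le]; exact h.z_center)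
  by_contra hcon
  -- `W / Z(W)` has order at most `p`
  have hlt : zpowers z < center W := lt_of_le_not_ge (by rw [Subgroup.zpowers_le]; exact h.z_center) hcon
  obtain ⟨a, ha⟩ := hWp.index (center W)
  obtain ⟨b, hb⟩ := hWp.index (zpowers z)
  have h1 : (center W).index < (zpowers z).index := Subgroup.index_strictAnti hlt
  have h2 := h.card_quot
  rw [ha, hb] at h1
  rw [hb] at h2
  have h3 := (Nat.pow_lt_pow_iff_right hpp.out.one_lt).mp h1
  have h4 := (Nat.pow_le_pow_iff_right hpp.out.one_lt).mp h2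
  have hcyc : IsCyclic (W ⧸ center W) := by
    have h5 : Nat.card (W ⧸ center W) = p ^ a := ha
    have h6 : a = 0 ∨ a = 1 := by omega
    rcases h6 with h6 | h6
    · rw [h6, pow_zero] at h5
      have := (Nat.card_eq_one_iff_unique.mp h5).1
      exact isCyclic_of_subsingleton
    · rw [h6, pow_one] at h5
      exact isCyclic_of_prime_card h5
  have hcomm : ∀ a b : W, a * b = b * a := by
    intro a b
    exact commutative_of_cyclic_center_quotient (QuotientGroup.mk' (center W)) (by
      rw [QuotientGroup.ker_mk']) a b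
  apply h.w_ne_one
  have h7 := h.hxy
  rw [mul_assoc, hcomm y x, inv_mul_cancel_left] at h7
  exact (left_eq_mul.mp h7)

theorem DataC.commutator_mem (h : DataC p m W x y z) (a b : W) : a * b * a⁻¹ * b⁻¹ ∈ zpowers (z ^ p ^ (m - 3)) := by
  have hn : (zpowers (z ^ p ^ (m - 3))).Normal := by
    constructor
    rintro _ ⟨i, rfl⟩ g
    have hc := h.z_center
    rw [Subgroup.mem_center_iff] at hc
    refine ⟨i, ?_⟩
    have : Commute g ((z ^ p ^ (m - 3)) ^ i) := ((show Commute g z from hc g).pow_right _).zpow_right i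
    show (z ^ p ^ (m - 3)) ^ i = g * (z ^ p ^ (m - 3)) ^ i * g⁻¹
    rw [this.eq, mul_inv_cancel_right]
  have := h.comm_mod (zpowers (z ^ p ^ (m - 3))) (Subgroup.mem_zpowers _) (a : W ⧸ _) (b : W ⧸ _)
  rw [← QuotientGroup.eq_one_iff]
  rw [QuotientGroup.mk_mul, QuotientGroup.mk_mul, QuotientGroup.mk_mul, this]
  rw [QuotientGroup.mk_inv, QuotientGroup.mk_inv]; group

theorem DataC.commutator_center (h : DataC p m W x y z) (a b g : W) : Commute (a * b * a⁻¹ * b⁻¹) g := by
  have hc := h.z_center
  rw [Subgroup.mem_center_iff] at hc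
  obtain ⟨i, hi⟩ := h.commutator_mem a b
  rw [← hi]
  exact ((((show Commute g z from hc g).pow_right _).zpow_right i)).symm

/-- the elements of order dividing `p` form a subgroup -/
theorem DataC.mul_pow (h : DataC p m W x y z) (hp2 : p ≠ 2) (a b : W) (ha : a ^ p = 1) (hb : b ^ p = 1) : (a * b) ^ p = 1 := by
  rw [Lib.CoprimeStab.mul_pow_prime_of_class_two hpp.out hp2, ha, hb, one_mul]
  · rw [commutatorElement_def]; exact h.commutator_center _ _ _
  · rw [commutatorElement_def]; exact h.commutator_center _ _ _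
  · rw [ha]; exact Commute.one_left b

/-- the subgroup of the elements of order dividing `p` -/
def DataC.omega (h : DataC p m W x y z) (hp2 : p ≠ 2) : Subgroup W where
  carrier := {a | a ^ p = 1}
  mul_mem' := fun {a b} ha hb => h.mul_pow hp2 a b ha hb
  one_mem' := one_pow p
  inv_mem' := fun {a} ha => by
    show a⁻¹ ^ p = 1
    rw [inv_pow, show a ^ p = 1 from ha, inv_one]

theorem DataC.mem_omega (h : DataC p m W x y z) (hp2 : p ≠ 2) (a : W) : a ∈ h.omega hp2 ↔ a ^ p = 1 := Iff.rfl

theorem DataC.omega_char (h : DataC p m W x y z) (hp2 : p ≠ 2) : (h.omega hp2).Characteristic := by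
  rw [Subgroup.characteristic_iff_le_comap]
  intro φ a ha
  show (φ a) ^ p = 1
  rw [← map_pow, (h.mem_omega hp2 a).mp ha, map_one]

theorem DataC.omega_sup (h : DataC p m W x y z) (hp2 : p ≠ 2) : h.omega hp2 ⊔ zpowers z = ⊤ := by
  rw [eq_top_iff, ← h.hgen, Subgroup.closure_le]
  rintro a (rfl | rfl | rfl)
  · exact (le_sup_left : h.omega hp2 ≤ _) h.hx
  · exact (le_sup_left : h.omega hp2 ≤ _) h.hy
  · exact (le_sup_right : zpowers a ≤ _) (Subgroup.mem_zpowers a)

end Cfsg.Agent.H271.RankTwoC
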