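import Mathlib
import Cfsg.Agent.H271.RankTwoC

/-!
# `p`-groups of rank at most two, `p` odd: control of transfer

* `tr` : `W` a maximal subgroup of `G`, `[u, z, z] ∈ Φ(W)` for all `u`, `z` in `G`.
* `control` : a Sylow `p`-subgroup of rank at most two: `S ∩ G' = S ∩ N(S)'`.
-/

set_option autoImplicit false

namespace Cfsg.Agent.H271.RankTwoMain

open Cfsg Subgroup
open Cfsg.Agent.H271.RankTwoTr Cfsg.Agent.H271.RankTwoC

section

variable {G : Type*} [Group G] [Finite G] {p : ℕ} [hpp : Fact p.Prime]

theorem rank_subgroup (k : ℕ) (h : PRankLE p k G) (W : Subgroup G) : PRankLE p k W := by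
  intro A hA hp
  have h1 : IsMulCommutative (A.map W.subtype) := by
    constructor
    constructor
    rintro ⟨_, a, ha, rfl⟩ ⟨_, b, hb, rfl⟩
    apply Subtype.ext
    show (a : G) * b = b * a
    have := hA.is_comm.comm ⟨a, ha⟩ ⟨b, hb⟩
    exact congrArg (fun w : A => ((w : W) : G)) this
  have h2 := h (A.map W.subtype) h1 (by
    rintro _ ⟨a, ha, rfl⟩
    rw [← map_pow, hp a ha, map_one])
  rwa [Subgroup.card_map_of_injective W.subtype_injective] at h2

/-- the image in `G / Φ(W)` of a subgroup `H` of `W` -/
theorem card_image_le (W : Subgroup G) (Φ : Subgroup G) [Φ.Normal] (hΦ : Φ = (frattini W).map W.subtype) (H : Subgroup W)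
    (k : ℕ) (h : Nat.card (H.map (QuotientGroup.mk' (frattini W))) ≤ k) :
    Nat.card ((H.map W.subtype).map (QuotientGroup.mk' Φ)) ≤ k := by
  have hle : frattini W ≤ ((QuotientGroup.mk' Φ).comp W.subtype).ker := by
    intro w hw
    rw [MonoidHom.mem_ker, MonoidHom.comp_apply]
    apply (QuotientGroup.eq_one_iff _).mpr
    rw [hΦ]
    exact ⟨w, hw, rfl⟩
  have e : (H.map W.subtype).map (QuotientGroup.mk' Φ) =
      (H.map (QuotientGroup.mk' (frattini W))).map (QuotientGroup.lift (frattini W) ((QuotientGroup.mk' Φ).comp W.subtype) hle) := by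
    rw [Subgroup.map_map, Subgroup.map_map]
    congr 1
  rw [e]
  exact (Nat.le_of_dvd Nat.card_pos (Subgroup.card_map_dvd _ _)).trans h

theorem index_le_of_three {W : Type*} [Group W] [Finite W] (hW : IsPGroup p W) (a b c : W)
    (h : Subgroup.closure ({a, b, c} : Set W) = ⊤) : (frattini W).index ≤ p ^ 3 := by
  classical
  obtain ⟨n, hn⟩ := hW.index (frattini W)
  have h1 := (Cfsg.Agent.S0014.result p n hW hn).2 {a, b, c} (by simpa using h)
  rw [hn]
  apply Nat.pow_le_pow_right hpp.out.pos
  exact h1.trans Finset.card_le_three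

/-- **`[u, z, z] ∈ Φ(W)`.** -/
theorem tr (hp2 : p ≠ 2) (hG : IsPGroup p G) (hrk : PRankLE p 2 G) (W : Subgroup G) (hW : IsCoatom W) (u z : G) :
    cm z (cm z u) ∈ (frattini W).map W.subtype := by
  have hWn : W.Normal := Lib.FrattiniPGroup.normal_of_coatom hG hW
  have hWp : IsPGroup p W := hG.to_subgroup W
  obtain ⟨Φ, hΦ⟩ : ∃ Φ, Φ = (frattini W).map W.subtype := ⟨_, rfl⟩
  have hΦn : Φ.Normal := by rw [hΦ]; infer_instance
  have hWW : ⁅W, W⁆ ≤ Φ := by
    have h1 : (commutator W).map W.subtype = ⁅W, W⁆ := by
      rw [commutator_def, Subgroup.map_commutator, ← MonoidHom.range_eq_map, Subgroup.range_subtype]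
    rw [← h1, hΦ]
    exact Subgroup.map_mono (Lib.FrattiniPGroup.commutator_le_frattini hWp)
  rw [← hΦ]
  have easy : (frattini W).index ≤ p ^ 2 → cm z (cm z u) ∈ Φ := by
    intro h
    apply core hG Φ W W ⊥ hWW hW ?_ (by rw [Subgroup.commutator_bot_left]; exact bot_le) le_sup_left
    have h1 := card_image_le W Φ hΦ ⊤ (p ^ 2) (by
      rw [Subgroup.map_top_of_surjective _ (QuotientGroup.mk'_surjective _), Subgroup.card_top]
      exact h)
    rwa [← MonoidHom.range_eq_map, Subgroup.range_subtype] at h1
  obtain ⟨m, hm⟩ := IsPGroup.iff_card.1 hWp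
  rcases Cfsg.Agent.S3888.result hp2 m hm (rank_subgroup 2 hrk W) with h | ⟨hm3, x, y, w, h1, h2, h3, h4, h5, h6, h7⟩ |
    ⟨hm4, s, x, y, w, hs, h1, h2, h3, h4, h5, h6, h7⟩ | ⟨hp3, hm2, h⟩
  · exact easy (index_le_of_metacyclic hWp h)
  · have hD : DataC p m W x y w := ⟨hm3, hm, h1, h2, h3, h4, h5, h6, h7⟩
    rcases Nat.lt_or_ge m 4 with hm4 | hm4
    · -- order `p³`
      have hm3' : m = 3 := by omega
      subst hm3'
      apply easy
      apply index_le_of_two hWp x y
      rw [eq_top_iff, ← h1, Subgroup.closure_le]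
      have hx : x ∈ Subgroup.closure ({x, y} : Set W) := Subgroup.subset_closure (by simp)
      have hy : y ∈ Subgroup.closure ({x, y} : Set W) := Subgroup.subset_closure (by simp)
      rintro a (rfl | rfl | rfl)
      · exact hx
      · exact hy
      · have e : a = y⁻¹ * (x⁻¹ * y * x) := by rw [h7]; simp
        rw [e]
        exact Subgroup.mul_mem _ (Subgroup.inv_mem _ hy) (Subgroup.mul_mem _ (Subgroup.mul_mem _ (Subgroup.inv_mem _ hx) hy) hx)
    · have hNn : ((hD.omega hp2).map W.subtype).Normal := by
        have := hD.omega_char hp2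
        infer_instance
      have hzn := hD.zpow_normal
      apply core hG Φ W ((hD.omega hp2).map W.subtype) ((zpowers w).map W.subtype) hWW hW
      · apply card_image_le W Φ hΦ
        have hne : (hD.omega hp2) ⊔ frattini W ≠ ⊤ := by
          intro h
          have h8 : hD.omega hp2 = ⊤ := frattini_nongenerating h
          have h9 : w ∈ hD.omega hp2 := by rw [h8]; trivial
          rw [hD.mem_omega] at h9
          have h10 := orderOf_dvd_of_pow_eq_one h9
          rw [hD.order_z] at h10
          have h11 : p ^ (m - 2) ∣ p ^ 1 := by rwa [pow_one]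
          have := (Nat.pow_dvd_pow_iff_le_right hpp.out.one_lt).mp h11
          omega
        have hi := index_le_of_three hWp x y w h1
        -- a proper subgroup of a group of order at most `p³`
        have hQp : IsPGroup p (W ⧸ frattini W) := hWp.to_quotient _
        have hlt : (hD.omega hp2).map (QuotientGroup.mk' (frattini W)) < ⊤ := by
          rw [lt_top_iff_ne_top]
          intro h
          apply hne
          have h8 : ((hD.omega hp2).map (QuotientGroup.mk' (frattini W))).comap (QuotientGroup.mk' (frattini W)) = ⊤ := by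
            rw [h, Subgroup.comap_top]
          rwa [Subgroup.comap_map_eq, QuotientGroup.ker_mk'] at h8
        obtain ⟨a, ha⟩ := IsPGroup.iff_card.1 (hQp.to_subgroup ((hD.omega hp2).map (QuotientGroup.mk' (frattini W))))
        obtain ⟨b, hb⟩ := IsPGroup.iff_card.1 hQp
        have h8 : Nat.card ((hD.omega hp2).map (QuotientGroup.mk' (frattini W))) < Nat.card (W ⧸ frattini W) := by
          rw [← Subgroup.card_top (G := W ⧸ frattini W)]
          apply lt_of_le_of_ne (Subgroup.card_le_of_le hlt.le)
          intro h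
          exact hlt.ne (Subgroup.eq_of_le_of_card_ge hlt.le h.ge)
        rw [ha, hb] at h8
        have h9 : Nat.card (W ⧸ frattini W) ≤ p ^ 3 := hi
        rw [hb] at h9
        rw [ha]
        have h10 := (Nat.pow_lt_pow_iff_right hpp.out.one_lt).mp h8
        have h11 := (Nat.pow_le_pow_iff_right hpp.out.one_lt).mp h9
        exact Nat.pow_le_pow_right hpp.out.pos (by omega)
      · -- `[⟨w⟩, G] ≤ Φ`
        have hZc : (zpowers w).Characteristic := by
          rw [← hD.center_eq]; infer_instance
        have hZn : ((zpowers w).map W.subtype).Normal := inferInstance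
        have hZne : (zpowers w).map W.subtype ≠ ⊥ := by
          intro h
          have : (w : G) ∈ (zpowers w).map W.subtype := ⟨w, Subgroup.mem_zpowers w, rfl⟩
          rw [h, Subgroup.mem_bot] at this
          have hw1 : w = 1 := Subtype.ext this
          apply hD.w_ne_one
          rw [hw1, one_pow]
        have hlt := commutator_lt hG ((zpowers w).map W.subtype) hZne
        intro g hg
        obtain ⟨_, ⟨j, rfl⟩, hj⟩ := hlt.le hg
        -- `p ∣ j`
        have hpj : (p : ℤ) ∣ j := by
          by_contra hnd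
          apply hlt.ne
          apply le_antisymm hlt.le
          have hw : w ∈ zpowers (w ^ j) := by
            have hcop : IsCoprime j (orderOf w : ℤ) := by
              rw [hD.order_z]
              have h8 : IsCoprime j (p : ℤ) := by
                rw [isCoprime_comm]
                exact (Prime.coprime_iff_not_dvd (Nat.prime_iff_prime_int.mp hpp.out)).mpr hnd
              push_cast
              exact h8.pow_right
            obtain ⟨a, b, hab⟩ := hcop
            refine ⟨a, ?_⟩
            show (w ^ j) ^ a = w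
            rw [← zpow_mul]
            have h8 : j * a = 1 - b * (orderOf w : ℤ) := by linarith [mul_comm a j]
            rw [h8, zpow_sub, zpow_one, mul_comm b, zpow_mul, zpow_natCast, pow_orderOf_eq_one, one_zpow, inv_one, mul_one]
          rintro _ ⟨_, ⟨i, rfl⟩, rfl⟩
          obtain ⟨a, ha⟩ := hw
          have h8 : W.subtype (w ^ i) = g ^ (a * i) := by
            rw [← hj, ← map_zpow]
            congr 1
            have ha' : (w ^ j) ^ a = w := ha
            rw [zpow_mul]
            conv_lhs => rw [← ha']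
          show W.subtype (w ^ i) ∈ _
          rw [h8]
          exact Subgroup.zpow_mem _ hg _
        obtain ⟨i, rfl⟩ := hpj
        rw [← hj, hΦ]
        refine ⟨_, ?_, rfl⟩
        show w ^ ((p : ℤ) * i) ∈ frattini W
        rw [mul_comm, zpow_mul, zpow_natCast]
        exact Lib.FrattiniPGroup.pow_mem_frattini hWp _
      · rw [← Subgroup.map_sup, hD.omega_sup, ← MonoidHom.range_eq_map, Subgroup.range_subtype]
  · apply easy
    apply index_le_of_two hWp x w
    rw [eq_top_iff, ← h1, Subgroup.closure_le]
    have hx : x ∈ Subgroup.closure ({x, w} : Set W) := Subgroup.subset_closure (by simp)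
    have hw : w ∈ Subgroup.closure ({x, w} : Set W) := Subgroup.subset_closure (by simp)
    rintro a (rfl | rfl | rfl)
    · exact hx
    · have e : a = x⁻¹ * w * x * w⁻¹ := by rw [h7]; simp
      rw [e]
      exact Subgroup.mul_mem _ (Subgroup.mul_mem _ (Subgroup.mul_mem _ (Subgroup.inv_mem _ hx) hw) hx) (Subgroup.inv_mem _ hw)
    · exact hw
  · subst hp3
    exact easy (index_le_of_maximal m hm2 hm h)

/-- further commutators stay in `Φ(W)` -/
theorem tr_iterate (hp2 : p ≠ 2) (hG : IsPGroup p G) (hrk : PRankLE p 2 G) (W : Subgroup G) (hW : IsCoatom W) (u z : G) :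
    (cm z)^[p - 1] u ∈ (frattini W).map W.subtype := by
  have hWn : W.Normal := Lib.FrattiniPGroup.normal_of_coatom hG hW
  have hΦn : ((frattini W).map W.subtype).Normal := inferInstance
  have key : ∀ k : ℕ, (cm z)^[k + 2] u ∈ (frattini W).map W.subtype := by
    intro k
    induction k with
    | zero => exact tr hp2 hG hrk W hW u z
    | succ k ih =>
      have e : k + 1 + 2 = (k + 2) + 1 := by omega
      rw [e, Function.iterate_succ_apply']
      exact cm_mem hΦn z ih
  have h3 : 2 < p := lt_of_le_of_ne hpp.out.two_le (Ne.symm hp2)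
  have e : p - 1 = (p - 3) + 2 := by omega
  rw [e]
  exact key _

end

/-- **Rank at most two, `p` odd: the normaliser of a Sylow `p`-subgroup controls transfer.** -/
theorem control {G : Type*} [Group G] [Finite G] {p : ℕ} [hpp : Fact p.Prime] (hp2 : p ≠ 2) (S : Sylow p G)
    (hrk : PRankLE p 2 (S : Subgroup G)) :
    (S : Subgroup G) ⊓ commutator G = (S : Subgroup G) ⊓
      ⁅Subgroup.normalizer ((S : Subgroup G) : Set G), Subgroup.normalizer ((S : Subgroup G) : Set G)⁆ := by
  by_contra hne
  have hwc : Cfsg.IsWeaklyClosed (S : Subgroup G) (S : Subgroup G) := by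
    refine ⟨le_rfl, fun g hg => ?_⟩
    apply Subgroup.eq_of_le_of_card_ge hg
    rw [Subgroup.card_map_of_injective (MulAut.conj g).injective]
  obtain ⟨x, hx, z, hz, W₀, hW₀, h1, h2⟩ := Cfsg.Agent.S2792.result S (S : Subgroup G) hwc hne
  apply h2
  have h3 := tr_iterate hp2 S.isPGroup' hrk W₀ hW₀ ⟨x, hx⟩ ⟨z, hz⟩
  have h4 : ∀ k : ℕ, (((cm (⟨z, hz⟩ : (S : Subgroup G)))^[k] ⟨x, hx⟩ : (S : Subgroup G)) : G) =
      (fun y : G => y⁻¹ * z⁻¹ * y * z)^[k] x := by
    intro k
    induction k with
    | zero => rfl
    | succ k ih =>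
      rw [Function.iterate_succ_apply', Function.iterate_succ_apply', ← ih]
      rfl
  rw [← h4]
  exact ⟨_, h3, rfl⟩

end Cfsg.Agent.H271.RankTwoMain
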