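import Mathlib
import Cfsg.Agent.H271.RankTwoMain
import Cfsg.Agent.Lib.CoprimeAbelian
import Cfsg.Agent.S1447
import Cfsg.Agent.S1386
import Cfsg.Agent.S1459
import Cfsg.Agent.J2Type.ExtCube

/-!
# A `p`-group `P = [P, K]` of rank two with a central element of order `p` centralised by the `p'`-group `K`
-/

set_option autoImplicit false

namespace Cfsg.Agent.H271.RankTwoSit

open Cfsg Subgroup
open Cfsg.Agent.H271.RankTwoTr Cfsg.Agent.H271.RankTwoC Cfsg.Agent.H271.RankTwoMain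

/-- The situation. -/
structure Sit {N : Type*} [Group N] (p : ℕ) (P K : Subgroup N) (ξ : N) : Prop where
  hPn : P.Normal
  hPp : IsPGroup p P
  hcop : (Nat.card K).Coprime p
  hPK : ⁅P, K⁆ = P
  hξP : ξ ∈ P
  hξ : orderOf ξ = p
  hξc : ∀ g : N, g * ξ = ξ * g
  hrk : PRankLE p 2 P

variable {N : Type*} [Group N] [Finite N] {p : ℕ} [hpp : Fact p.Prime] {P K : Subgroup N} {ξ : N}

theorem Sit.coprime (h : Sit p P K ξ) : (Nat.card K).Coprime (Nat.card P) := by
  obtain ⟨n, hn⟩ := IsPGroup.iff_card.1 h.hPp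
  rw [hn]
  exact Nat.Coprime.pow_right n h.hcop

theorem Sit.ne_one (h : Sit p P K ξ) : ξ ≠ 1 := by
  rintro rfl
  have := h.hξ
  rw [orderOf_one] at this
  exact hpp.out.one_lt.ne this

theorem Sit.centralizer_le (h : Sit p P K ξ) : P ⊓ centralizer (K : Set N) ≤ ⁅P, P⁆ :=
  Cfsg.Agent.S1459.centralizer_le P K h.hPn h.coprime.symm h.hPK.symm

theorem Sit.mem_commutator (h : Sit p P K ξ) : ξ ∈ ⁅P, P⁆ := by
  apply h.centralizer_le
  refine Subgroup.mem_inf.mpr ⟨h.hξP, ?_⟩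
  rw [Subgroup.mem_centralizer_iff]
  intro k _
  exact h.hξc k

/-- fixed points on `P / P'` -/
theorem Sit.mem_of_fixed (h : Sit p P K ξ) {v : N} (hv : v ∈ P) (hf : ∀ k ∈ K, k * v * k⁻¹ * v⁻¹ ∈ ⁅P, P⁆) : v ∈ ⁅P, P⁆ := by
  have hPn := h.hPn
  have hDn : (⁅P, P⁆ : Subgroup N).Normal := inferInstance
  let π := QuotientGroup.mk' (⁅P, P⁆ : Subgroup N)
  have hker : ∀ g, π g = 1 ↔ g ∈ ⁅P, P⁆ := fun g => QuotientGroup.eq_one_iff g
  have hab : ∀ x ∈ P.map π, ∀ y ∈ P.map π, x * y = y * x := by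
    rintro _ ⟨a, ha, rfl⟩ _ ⟨b, hb, rfl⟩
    have h1 : π (a * b * a⁻¹ * b⁻¹) = 1 := by
      rw [hker]
      have := Subgroup.commutator_mem_commutator ha hb
      rwa [commutatorElement_def] at this
    rw [map_mul, map_mul, map_mul, map_inv, map_inv, mul_inv_eq_one, mul_inv_eq_iff_eq_mul] at h1
    exact h1
  have hnorm : K.map π ≤ normalizer ((P.map π : Subgroup (N ⧸ ⁅P, P⁆)) : Set (N ⧸ ⁅P, P⁆)) := by
    have : (P.map π).Normal := Subgroup.Normal.map hPn _ (QuotientGroup.mk'_surjective _)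
    rw [Subgroup.normalizer_eq_top]
    exact le_top
  have hcop : (Nat.card (K.map π)).Coprime (Nat.card (P.map π)) :=
    Nat.Coprime.coprime_dvd_left (Subgroup.card_map_dvd K π)
      (Nat.Coprime.coprime_dvd_right (Subgroup.card_map_dvd P π) h.coprime)
  have h1 := Lib.CoprimeAbelian.inf_commutator_eq_bot (K.map π) (P.map π) hab hnorm hcop
  rw [← Subgroup.map_commutator, h.hPK] at h1
  have h2 : π v ∈ (P.map π ⊓ centralizer ((K.map π : Subgroup (N ⧸ ⁅P, P⁆)) : Set (N ⧸ ⁅P, P⁆))) ⊓ P.map π := by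
    refine Subgroup.mem_inf.mpr ⟨Subgroup.mem_inf.mpr ⟨⟨v, hv, rfl⟩, ?_⟩, ⟨v, hv, rfl⟩⟩
    rw [Subgroup.mem_centralizer_iff]
    rintro _ ⟨k, hk, rfl⟩
    have h3 := (hker _).mpr (hf k hk)
    rw [map_mul, map_mul, map_mul, map_inv, map_inv, mul_inv_eq_one, mul_inv_eq_iff_eq_mul] at h3
    exact h3
  rw [h1, Subgroup.mem_bot, hker] at h2
  exact h2

/-- a cyclic centre is centralised by `K` -/
theorem Sit.center_fixed (h : Sit p P K ξ) (hp2 : p ≠ 2) (hc : IsCyclic (center P)) {z : P} (hz : z ∈ center P) {k : N}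
    (hk : k ∈ K) : Commute (z : N) k := by
  have hPn := h.hPn
  have hZn : ((center P).map P.subtype).Normal := inferInstance
  have hZp : IsPGroup p ((center P).map P.subtype) := h.hPp.to_le (Subgroup.map_subtype_le _)
  have h1 := Lib.CoprimeStab.le_centralizer_of_omega p hp2 K h.hcop ((center P).map P.subtype) hZp (by
    rw [Subgroup.normalizer_eq_top]; exact le_top) (by
    rintro _ ⟨x, hx, rfl⟩ hxp k hk
    by_cases hx1 : x = 1
    · rw [hx1]; exact Commute.one_left _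
    have hxo : orderOf (⟨x, hx⟩ : center P) = p := by
      rw [Subgroup.orderOf_mk]
      apply orderOf_eq_prime _ hx1
      exact Subtype.ext hxp
    have hξ' : (⟨ξ, h.hξP⟩ : P) ∈ center P := by
      rw [Subgroup.mem_center_iff]
      intro g
      exact Subtype.ext (h.hξc g)
    have hξo : orderOf (⟨⟨ξ, h.hξP⟩, hξ'⟩ : center P) = p := by
      rw [Subgroup.orderOf_mk, Subgroup.orderOf_mk]; exact h.hξ
    obtain ⟨i, hi⟩ := Cfsg.Agent.S1386.mem_zpowers_of_isCyclic hpp.out.pos _ _ hξo hxo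
    have e : (x : N) = ξ ^ i := by
      have := congrArg (fun w : center P => ((w : P) : N)) hi
      simpa using this.symm
    show Commute (x : N) k
    rw [e]
    exact ((show Commute k ξ from h.hξc k).zpow_right i).symm)
  have h2 := Subgroup.mem_centralizer_iff.mp (h1 hk) (z : N) ⟨z, hz, rfl⟩
  exact h2

/-- `P` is not commutative -/
theorem Sit.not_comm (h : Sit p P K ξ) : ⁅P, P⁆ ≠ ⊥ := by
  intro h1
  have := h.mem_commutator
  rw [h1, Subgroup.mem_bot] at this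
  exact h.ne_one this

/-- the metacyclic case -/
theorem Sit.not_metacyclic (h : Sit p P K ξ) (hp2 : p ≠ 2) (hm : IsMetacyclic P) : False := by
  have hPn := h.hPn
  obtain ⟨_, _, h1, _⟩ := Cfsg.Agent.S1447.result p hp2 P K h.hPp hm (by
    rw [Subgroup.normalizer_eq_top]; exact le_top) h.hcop
  apply h.ne_one
  rw [← Subgroup.mem_bot, ← h1, h.hPK]
  refine Subgroup.mem_inf.mpr ⟨h.hξP, Subgroup.mem_inf.mpr ⟨h.hξP, ?_⟩⟩
  rw [Subgroup.mem_centralizer_iff]
  intro k _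
  exact h.hξc k

/-- the groups `C(p, n)`, `n ≥ 4` -/
theorem Sit.caseC (h : Sit p P K ξ) (hp2 : p ≠ 2) (n : ℕ) (x y z : P) (hD : DataC p n P x y z) : n = 3 := by
  by_contra hne
  have hm := hD.hm
  have hcyc : IsCyclic (center P) := by
    rw [hD.center_eq]; infer_instance
  have hz := h.mem_of_fixed (v := (z : N)) z.2 (by
    intro k hk
    have := h.center_fixed hp2 hcyc hD.z_center hk
    rw [← this.eq, mul_inv_cancel_right, mul_inv_cancel]
    exact Subgroup.one_mem _)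
  -- `P' ≤ ⟨w⟩`
  have hle : (⁅P, P⁆ : Subgroup N) ≤ (zpowers (z ^ p ^ (n - 3))).map P.subtype := by
    rw [Subgroup.commutator_le]
    intro a ha b hb
    obtain ⟨i, hi⟩ := hD.commutator_mem ⟨a, ha⟩ ⟨b, hb⟩
    refine ⟨_, ⟨i, rfl⟩, ?_⟩
    have := congrArg Subtype.val hi
    rw [commutatorElement_def]
    exact this
  obtain ⟨w, hw, hwz⟩ := hle hz
  have hwz' : w = z := Subtype.ext hwz
  rw [hwz'] at hw
  obtain ⟨i, hi⟩ := hw
  have h1 : z ^ p = 1 := by
    have hi' : (z ^ p ^ (n - 3)) ^ i = z := hi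
    calc z ^ p = ((z ^ p ^ (n - 3)) ^ i) ^ p := by rw [hi']
      _ = ((z ^ p ^ (n - 3)) ^ p) ^ i := by
        rw [← zpow_natCast, ← zpow_mul, mul_comm, zpow_mul, zpow_natCast]
      _ = 1 := by rw [hD.w_pow, one_zpow]
  have h2 := orderOf_dvd_of_pow_eq_one h1
  rw [hD.order_z] at h2
  have h3 : p ^ (n - 2) ∣ p ^ 1 := by rwa [pow_one]
  have := (Nat.pow_dvd_pow_iff_le_right hpp.out.one_lt).mp h3
  omega

end Cfsg.Agent.H271.RankTwoSit
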