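import Mathlib
import Cfsg.Agent.H271.RankTwoSit

/-!
# The groups `G(p, n; s)`, `n ≥ 4`

`W` of order `p ^ n` generated by `x`, `y`, `z`, `x^p = y^p = 1`, `z^(p^(n-2)) = 1`, `yz = zy`,
`x⁻¹ y x = y z^(s p^(n-3))`, `x⁻¹ z x = yz`.
-/

set_option autoImplicit false

namespace Cfsg.Agent.H271.RankTwoG

open Cfsg Subgroup
open Cfsg.Agent.H271.RankTwoTr Cfsg.Agent.H271.RankTwoSit

structure DataG (p n s : ℕ) (W : Type*) [Group W] (x y z : W) : Prop where
  hn : 4 ≤ n
  hW : Nat.card W = p ^ n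
  hs : s = 1 ∨ ¬ IsSquare (s : ZMod p)
  hgen : Subgroup.closure ({x, y, z} : Set W) = ⊤
  hx : x ^ p = 1
  hy : y ^ p = 1
  hz : z ^ p ^ (n - 2) = 1
  hyz : y * z = z * y
  hxy : x⁻¹ * y * x = y * z ^ (s * p ^ (n - 3))
  hxz : x⁻¹ * z * x = y * z

variable {W : Type*} [Group W] [Finite W] {p : ℕ} [hpp : Fact p.Prime]
variable {n s : ℕ} {x y z : W}

theorem DataG.hs' (h : DataG p n s W x y z) : ¬ p ∣ s := by
  intro hd
  rcases h.hs with h1 | h1
  · rw [h1] at hd
    exact hpp.out.one_lt.ne' (Nat.dvd_one.mp hd)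
  · apply h1
    rw [(ZMod.natCast_eq_zero_iff s p).mpr hd]
    exact IsSquare.zero

theorem DataG.zp_center (h : DataG p n s W x y z) : z ^ p ∈ center W := by
  rw [Subgroup.mem_center_iff]
  have : (⊤ : Subgroup W) ≤ Subgroup.centralizer {z ^ p} := by
    rw [← h.hgen, Subgroup.closure_le]
    rintro a (rfl | rfl | rfl)
    · rw [SetLike.mem_coe, Subgroup.mem_centralizer_singleton_iff]
      have h1 : a⁻¹ * z ^ p * a = z ^ p := by
        have h2 : a⁻¹ * z ^ p * a = (a⁻¹ * z * a) ^ p := by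
          have := conj_pow (i := p) (a := a⁻¹) (b := z)
          rw [inv_inv] at this
          exact this.symm
        rw [h2, h.hxz, (show Commute y z from h.hyz).mul_pow, h.hy, one_mul]
      calc a * z ^ p = a * (a⁻¹ * z ^ p * a) := by rw [h1]
        _ = z ^ p * a := by group
    · rw [SetLike.mem_coe, Subgroup.mem_centralizer_singleton_iff]
      exact ((show Commute a z from h.hyz).pow_right p).eq
    · rw [SetLike.mem_coe, Subgroup.mem_centralizer_singleton_iff]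
      exact ((Commute.refl a).pow_right p).eq
  intro g
  exact Subgroup.mem_centralizer_singleton_iff.mp (this (Subgroup.mem_top g))

theorem DataG.w_center (h : DataG p n s W x y z) : z ^ p ^ (n - 3) ∈ center W := by
  have : n - 3 = (n - 4) + 1 := by have := h.hn; omega
  rw [this, pow_succ, mul_comm, pow_mul]
  exact Subgroup.pow_mem _ h.zp_center _

/-- The abelian subgroup `⟨y, z⟩` -/
def DataG.A (h : DataG p n s W x y z) : Subgroup W where
  carrier := {g | ∃ i j : ℤ, g = y ^ i * z ^ j}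
  one_mem' := ⟨0, 0, by simp⟩
  mul_mem' := by
    rintro _ _ ⟨i, j, rfl⟩ ⟨k, l, rfl⟩
    refine ⟨i + k, j + l, ?_⟩
    have := ((show Commute y z from h.hyz).zpow_zpow k j)
    rw [zpow_add, zpow_add, mul_assoc, ← mul_assoc (z ^ j), ← this.eq]
    group
  inv_mem' := by
    rintro _ ⟨i, j, rfl⟩
    refine ⟨-i, -j, ?_⟩
    have := ((show Commute y z from h.hyz).zpow_zpow (-i) (-j))
    rw [mul_inv_rev, ← zpow_neg, ← zpow_neg, this.eq]

theorem DataG.mem_A (h : DataG p n s W x y z) (g : W) : g ∈ h.A ↔ ∃ i j : ℤ, g = y ^ i * z ^ j := Iff.rfl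

theorem DataG.y_mem (h : DataG p n s W x y z) : y ∈ h.A := ⟨1, 0, by simp⟩
theorem DataG.z_mem (h : DataG p n s W x y z) : z ∈ h.A := ⟨0, 1, by simp⟩

theorem DataG.comm_A (h : DataG p n s W x y z) {a b : W} (ha : a ∈ h.A) (hb : b ∈ h.A) : Commute a b := by
  obtain ⟨i, j, rfl⟩ := ha
  obtain ⟨k, l, rfl⟩ := hb
  have hyz : Commute y z := h.hyz
  have h1 : Commute (y ^ i) (y ^ k) := ((Commute.refl y).zpow_zpow i k)
  have h2 : Commute (z ^ j) (z ^ l) := ((Commute.refl z).zpow_zpow j l)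
  have h3 : Commute (y ^ i) (z ^ l) := (hyz.zpow_zpow i l)
  have h4 : Commute (z ^ j) (y ^ k) := (hyz.symm.zpow_zpow j k)
  exact (h1.mul_right h3).mul_left (h4.mul_right h2)

theorem DataG.A_normal (h : DataG p n s W x y z) : h.A.Normal := by
  have key : ∀ a ∈ h.A, x⁻¹ * a * x ∈ h.A := by
    rintro _ ⟨i, j, rfl⟩
    have h1 : x⁻¹ * (y ^ i * z ^ j) * x = (x⁻¹ * y * x) ^ i * (x⁻¹ * z * x) ^ j := by
      have e1 := conj_zpow (i := i) (a := x⁻¹) (b := y)
      have e2 := conj_zpow (i := j) (a := x⁻¹) (b := z)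
      rw [inv_inv] at e1 e2
      rw [e1, e2]; group
    rw [h1, h.hxy, h.hxz]
    exact h.A.mul_mem (h.A.zpow_mem (h.A.mul_mem h.y_mem (h.A.pow_mem h.z_mem _)) _)
      (h.A.zpow_mem (h.A.mul_mem h.y_mem h.z_mem) _)
  rw [← Subgroup.normalizer_eq_top_iff, eq_top_iff, ← h.hgen, Subgroup.closure_le]
  rintro a (rfl | rfl | rfl)
  · have : a⁻¹ ∈ normalizer (h.A : Set W) := by
      apply Subgroup.mem_normalizer_fintype
      intro b hb
      rw [inv_inv]
      exact key b hb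
    have h2 := Subgroup.inv_mem _ this
    rwa [inv_inv] at h2
  · exact Subgroup.le_normalizer h.y_mem
  · exact Subgroup.le_normalizer h.z_mem

theorem DataG.exists_rep (h : DataG p n s W x y z) (g : W) : ∃ a ∈ h.A, ∃ k : ℕ, k < p ∧ g = x ^ k * a := by
  have hA := h.A_normal
  have h1 : zpowers x ⊔ h.A = ⊤ := by
    rw [eq_top_iff, ← h.hgen, Subgroup.closure_le]
    rintro a (rfl | rfl | rfl)
    · exact (le_sup_left : zpowers a ≤ _) (Subgroup.mem_zpowers a)
    · exact (le_sup_right : h.A ≤ _) h.y_mem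
    · exact (le_sup_right : h.A ≤ _) h.z_mem
  have h2 : g ∈ zpowers x ⊔ h.A := by rw [h1]; trivial
  obtain ⟨u, hu, a, ha, rfl⟩ := Subgroup.mem_sup_of_normal_right.mp h2
  obtain ⟨k, rfl⟩ := hu
  refine ⟨a, ha, (k % (p : ℤ)).toNat, ?_, ?_⟩
  · have := Int.emod_lt_of_pos k (by exact_mod_cast hpp.out.pos : (0 : ℤ) < p)
    have h3 := Int.emod_nonneg k (by exact_mod_cast hpp.out.ne_zero : (p : ℤ) ≠ 0)
    omega
  · have h3 := Int.emod_nonneg k (by exact_mod_cast hpp.out.ne_zero : (p : ℤ) ≠ 0)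
    have h4 : x ^ k = x ^ (k % (p : ℤ)).toNat := by
      rw [← zpow_natCast, Int.toNat_of_nonneg h3]
      conv_lhs => rw [← Int.emod_add_mul_ediv k p]
      rw [zpow_add, zpow_mul, zpow_natCast x p, h.hx, one_zpow, mul_one]
    show x ^ k * a = _
    rw [h4]

theorem DataG.card_le (h : DataG p n s W x y z) : p ^ n ≤ p * Nat.card h.A := by
  have : Function.Surjective (fun q : Fin p × h.A => x ^ (q.1 : ℕ) * (q.2 : W)) := by
    intro g
    obtain ⟨a, ha, k, hk, rfl⟩ := h.exists_rep g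
    exact ⟨(⟨k, hk⟩, ⟨a, ha⟩), rfl⟩
  have h1 := Nat.card_le_card_of_surjective _ this
  rw [Nat.card_prod, Nat.card_fin, h.hW] at h1
  exact h1

theorem DataG.card_A_le (h : DataG p n s W x y z) : Nat.card h.A ≤ orderOf y * orderOf z := by
  have : Function.Surjective (fun q : zpowers y × zpowers z => (⟨(q.1 : W) * (q.2 : W), by
      obtain ⟨⟨_, i, rfl⟩, ⟨_, j, rfl⟩⟩ := q
      exact ⟨i, j, rfl⟩⟩ : h.A)) := by
    rintro ⟨_, i, j, rfl⟩
    exact ⟨(⟨y ^ i, i, rfl⟩, ⟨z ^ j, j, rfl⟩), rfl⟩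
  have h1 := Nat.card_le_card_of_surjective _ this
  rw [Nat.card_prod, Nat.card_zpowers, Nat.card_zpowers] at h1
  exact h1

theorem DataG.order_z (h : DataG p n s W x y z) : orderOf z = p ^ (n - 2) := by
  obtain ⟨k, hk, hk2⟩ := (Nat.dvd_prime_pow hpp.out).mp (orderOf_dvd_of_pow_eq_one h.hz)
  have h1 := h.card_le.trans (Nat.mul_le_mul_left p h.card_A_le)
  have h2 : orderOf y ≤ p := orderOf_le_of_pow_eq_one hpp.out.pos h.hy
  have h3 : p ^ n ≤ p * (p * orderOf z) := h1.trans (Nat.mul_le_mul_left p (Nat.mul_le_mul_right _ h2))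
  rw [hk2] at h3 ⊢
  have h4 : p ^ n ≤ p ^ (k + 2) := by
    calc p ^ n ≤ p * (p * p ^ k) := h3
      _ = p ^ (k + 2) := by ring
  have h5 := (Nat.pow_le_pow_iff_right hpp.out.one_lt).mp h4
  congr 1; omega

theorem DataG.y_notMem (h : DataG p n s W x y z) : y ∉ zpowers z := by
  intro hy
  have hle : h.A ≤ zpowers z := by
    rintro _ ⟨i, j, rfl⟩
    exact Subgroup.mul_mem _ (Subgroup.zpow_mem _ hy _) (Subgroup.zpow_mem _ (Subgroup.mem_zpowers z) _)
  have h1 := Subgroup.card_le_of_le hle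
  rw [Nat.card_zpowers, h.order_z] at h1
  have h2 : p ^ n ≤ p ^ (n - 2 + 1) := by
    calc p ^ n ≤ p * Nat.card h.A := h.card_le
      _ ≤ p * p ^ (n - 2) := Nat.mul_le_mul_left p h1
      _ = p ^ (n - 2 + 1) := by rw [pow_succ, mul_comm]
  have h3 := (Nat.pow_le_pow_iff_right hpp.out.one_lt).mp h2
  have := h.hn
  omega

theorem DataG.dvd_of_mem (h : DataG p n s W x y z) {i : ℤ} (hi : y ^ i ∈ zpowers z) : (p : ℤ) ∣ i := by
  by_contra hnd
  apply h.y_notMem
  have hcop : IsCoprime i (p : ℤ) := by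
    have := (Nat.prime_iff_prime_int.mp hpp.out).coprime_iff_not_dvd.mpr hnd
    exact this.symm
  obtain ⟨a, b, hab⟩ := hcop
  have : y = (y ^ i) ^ a := by
    calc y = y ^ (1 : ℤ) := (zpow_one y).symm
      _ = y ^ (a * i + b * p) := by rw [hab]
      _ = (y ^ i) ^ a := by
        rw [zpow_add, mul_comm a i, zpow_mul, mul_comm b (p : ℤ), zpow_mul, zpow_natCast, h.hy, one_zpow, mul_one]
  rw [this]
  exact Subgroup.zpow_mem _ hi _

theorem DataG.indep (h : DataG p n s W x y z) {i j : ℤ} (hij : y ^ i * z ^ j = 1) :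
    (p : ℤ) ∣ i ∧ ((p ^ (n - 2) : ℕ) : ℤ) ∣ j := by
  have h1 : (p : ℤ) ∣ i := by
    apply h.dvd_of_mem
    rw [mul_eq_one_iff_eq_inv] at hij
    rw [hij]
    exact Subgroup.inv_mem _ (Subgroup.zpow_mem _ (Subgroup.mem_zpowers z) _)
  refine ⟨h1, ?_⟩
  obtain ⟨c, rfl⟩ := h1
  rw [zpow_mul, zpow_natCast, h.hy, one_zpow, one_mul] at hij
  rw [← h.order_z]
  exact orderOf_dvd_iff_zpow_eq_one.mpr hij

theorem DataG.w_order (h : DataG p n s W x y z) : orderOf (z ^ p ^ (n - 3)) = p := by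
  rw [orderOf_pow, h.order_z]
  have h1 : n - 2 = (n - 3) + 1 := by have := h.hn; omega
  rw [h1, pow_succ, Nat.gcd_eq_right (Dvd.intro _ rfl), Nat.mul_div_cancel_left _ (pow_pos hpp.out.pos _)]

/-- an element commuting with `y` lies in `A` -/
theorem DataG.mem_of_comm (h : DataG p n s W x y z) {g : W} (hg : Commute g y) : g ∈ h.A := by
  obtain ⟨a, ha, k, hk, rfl⟩ := h.exists_rep g
  have h1 : Commute (x ^ k) y := by
    have : x ^ k = (x ^ k * a) * a⁻¹ := by group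
    rw [this]
    exact Commute.mul_left hg ((h.comm_A ha h.y_mem).inv_left)
  by_cases hk0 : k = 0
  · rw [hk0, pow_zero, one_mul]; exact ha
  exfalso
  -- then `x` commutes with `y`
  have hcop : Nat.Coprime k p := ((Nat.Prime.coprime_iff_not_dvd hpp.out).mpr (Nat.not_dvd_of_pos_of_lt (Nat.pos_of_ne_zero hk0) hk)).symm
  obtain ⟨a', b', hab⟩ := Nat.isCoprime_iff_coprime.mpr hcop
  have h2 : Commute x y := by
    have : x = (x ^ k) ^ a' := by
      calc x = x ^ (1 : ℤ) := (zpow_one x).symm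
        _ = x ^ (a' * k + b' * p) := by rw [hab]
        _ = (x ^ k) ^ a' := by
          rw [zpow_add, mul_comm a' (k : ℤ), zpow_mul, mul_comm b' (p : ℤ), zpow_mul, zpow_natCast x p, h.hx, one_zpow, mul_one,
            zpow_natCast]
    rw [this]
    exact h1.zpow_left _
  have h3 := h.hxy
  rw [mul_assoc, ← h2.eq, inv_mul_cancel_left] at h3
  have h4 : z ^ (s * p ^ (n - 3)) = 1 := (left_eq_mul.mp h3)
  rw [mul_comm, pow_mul] at h4
  have h5 := orderOf_dvd_of_pow_eq_one h4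
  rw [h.w_order] at h5
  exact h.hs' h5

theorem DataG.center_eq (h : DataG p n s W x y z) : center W = zpowers (z ^ p) := by
  apply le_antisymm
  · intro g hg
    have hc := Subgroup.mem_center_iff.mp hg
    have hgA : g ∈ h.A := h.mem_of_comm (hc y).symm
    obtain ⟨i, j, rfl⟩ := hgA
    have e0 : x⁻¹ * (y ^ i * z ^ j) * x = y ^ i * z ^ j := by
      rw [mul_assoc, ← hc x, inv_mul_cancel_left]
    have h1 : x⁻¹ * (y ^ i * z ^ j) * x = (x⁻¹ * y * x) ^ i * (x⁻¹ * z * x) ^ j := by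
      have e1 := conj_zpow (i := i) (a := x⁻¹) (b := y)
      have e2 := conj_zpow (i := j) (a := x⁻¹) (b := z)
      rw [inv_inv] at e1 e2
      rw [e1, e2]; group
    rw [h1, h.hxy, h.hxz] at e0
    have hyz : Commute y z := h.hyz
    rw [(hyz.pow_right _).mul_zpow, hyz.mul_zpow] at e0
    set u := (z ^ (s * p ^ (n - 3))) ^ i with hu
    have huy : Commute u (y ^ j) := ((hyz.symm.pow_left _).zpow_zpow i j)
    have e2 : y ^ j * u = 1 := by
      have : y ^ i * (y ^ j * u) * z ^ j = y ^ i * z ^ j := by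
        rw [← huy.eq]; rw [← e0]; group
      have h5 := mul_right_cancel this
      exact (mul_eq_left.mp h5)
    have hu2 : u = z ^ (((s * p ^ (n - 3) : ℕ) : ℤ) * i) := by
      rw [hu, zpow_mul, zpow_natCast]
    rw [hu2] at e2
    obtain ⟨hj, hi⟩ := h.indep e2
    have hi' : (p : ℤ) ∣ i := by
      have hn := h.hn
      have e3 : n - 2 = (n - 3) + 1 := by omega
      rw [e3, pow_succ, Nat.cast_mul, Nat.cast_mul, mul_comm (s : ℤ), mul_assoc] at hi
      have h6 : ((p ^ (n - 3) : ℕ) : ℤ) ≠ 0 := by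
        exact_mod_cast (pow_pos hpp.out.pos _).ne'
      have h7 := (mul_dvd_mul_iff_left h6).mp hi
      rcases (Nat.prime_iff_prime_int.mp hpp.out).dvd_or_dvd h7 with h8 | h8
      · exact absurd (Int.natCast_dvd_natCast.mp h8) h.hs'
      · exact h8
    obtain ⟨c, rfl⟩ := hi'
    obtain ⟨d, rfl⟩ := hj
    rw [zpow_mul, zpow_natCast, h.hy, one_zpow, one_mul]
    refine ⟨d, ?_⟩
    show (z ^ p) ^ d = z ^ ((p : ℤ) * d)
    rw [zpow_mul, zpow_natCast]
  · rw [Subgroup.zpowers_le]; exact h.zp_center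

/-- the subgroup `⟨y, w⟩` -/
def DataG.D (h : DataG p n s W x y z) : Subgroup W where
  carrier := {g | ∃ i j : ℤ, g = y ^ i * (z ^ p ^ (n - 3)) ^ j}
  one_mem' := ⟨0, 0, by simp⟩
  mul_mem' := by
    rintro _ _ ⟨i, j, rfl⟩ ⟨k, l, rfl⟩
    refine ⟨i + k, j + l, ?_⟩
    have := (((show Commute y z from h.hyz).pow_right (p ^ (n - 3))).zpow_zpow k j)
    rw [zpow_add, zpow_add, mul_assoc, ← mul_assoc ((z ^ p ^ (n - 3)) ^ j), ← this.eq]
    group
  inv_mem' := by
    rintro _ ⟨i, j, rfl⟩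
    refine ⟨-i, -j, ?_⟩
    have := (((show Commute y z from h.hyz).pow_right (p ^ (n - 3))).zpow_zpow (-i) (-j))
    rw [mul_inv_rev, ← zpow_neg, ← zpow_neg, this.eq]

theorem DataG.y_mem_D (h : DataG p n s W x y z) : y ∈ h.D := ⟨1, 0, by simp⟩
theorem DataG.w_mem_D (h : DataG p n s W x y z) : z ^ p ^ (n - 3) ∈ h.D := ⟨0, 1, by simp⟩

theorem DataG.D_normal (h : DataG p n s W x y z) : h.D.Normal := by
  have hwc := Subgroup.mem_center_iff.mp h.w_center
  have key : ∀ a ∈ h.D, x⁻¹ * a * x ∈ h.D := by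
    rintro _ ⟨i, j, rfl⟩
    have h1 : x⁻¹ * (y ^ i * (z ^ p ^ (n - 3)) ^ j) * x = (x⁻¹ * y * x) ^ i * (x⁻¹ * (z ^ p ^ (n - 3)) * x) ^ j := by
      have e1 := conj_zpow (i := i) (a := x⁻¹) (b := y)
      have e2 := conj_zpow (i := j) (a := x⁻¹) (b := (z ^ p ^ (n - 3)))
      rw [inv_inv] at e1 e2
      rw [e1, e2]; group
    have h2 : x⁻¹ * (z ^ p ^ (n - 3)) * x = z ^ p ^ (n - 3) := by
      rw [mul_assoc, ← hwc x, inv_mul_cancel_left]
    rw [h1, h.hxy, h2, mul_comm s, pow_mul]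
    exact h.D.mul_mem (h.D.zpow_mem (h.D.mul_mem h.y_mem_D (h.D.pow_mem h.w_mem_D _)) _) (h.D.zpow_mem h.w_mem_D _)
  rw [← Subgroup.normalizer_eq_top_iff, eq_top_iff, ← h.hgen, Subgroup.closure_le]
  rintro a (rfl | rfl | rfl)
  · have : a⁻¹ ∈ normalizer (h.D : Set W) := by
      apply Subgroup.mem_normalizer_fintype
      intro b hb
      rw [inv_inv]
      exact key b hb
    have h2 := Subgroup.inv_mem _ this
    rwa [inv_inv] at h2
  · exact Subgroup.le_normalizer h.y_mem_D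
  · have : ∀ b ∈ h.D, a * b * a⁻¹ = b := by
      rintro _ ⟨i, j, rfl⟩
      have h1 : Commute a (y ^ i * (a ^ p ^ (n - 3)) ^ j) :=
        ((show Commute y a from h.hyz).symm.zpow_right i).mul_right (((Commute.refl a).pow_right _).zpow_right j)
      rw [h1.eq, mul_inv_cancel_right]
    apply Subgroup.mem_normalizer_fintype
    intro b hb
    rw [this b hb]; exact hb

theorem DataG.commutator_le (h : DataG p n s W x y z) (a b : W) : a * b * a⁻¹ * b⁻¹ ∈ h.D := by
  have hDn := h.D_normal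
  have h0 : ∀ u v : W, (u * v * u⁻¹ * v⁻¹ ∈ h.D) ↔
      (QuotientGroup.mk' h.D) u * (QuotientGroup.mk' h.D) v = (QuotientGroup.mk' h.D) v * (QuotientGroup.mk' h.D) u := by
    intro u v
    rw [show u * v * u⁻¹ * v⁻¹ ∈ h.D ↔ (QuotientGroup.mk' h.D) (u * v * u⁻¹ * v⁻¹) = 1 from (QuotientGroup.eq_one_iff _).symm,
      map_mul, map_mul, map_mul, map_inv, map_inv, mul_inv_eq_one, mul_inv_eq_iff_eq_mul]
  rw [h0]
  apply RankTwoC.comm_of_closure ((QuotientGroup.mk' h.D) '' {x, y, z})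
  · rw [← MonoidHom.map_closure, h.hgen, Subgroup.map_top_of_surjective _ (QuotientGroup.mk'_surjective h.D)]
  · have hy1 : (QuotientGroup.mk' h.D) y = 1 := (QuotientGroup.eq_one_iff _).mpr h.y_mem_D
    have hxz : (QuotientGroup.mk' h.D) x * (QuotientGroup.mk' h.D) z = (QuotientGroup.mk' h.D) z * (QuotientGroup.mk' h.D) x := by
      have h1 := congrArg (QuotientGroup.mk' h.D) h.hxz
      rw [map_mul _ y, hy1, one_mul, map_mul, map_mul, map_inv] at h1
      calc (QuotientGroup.mk' h.D) x * (QuotientGroup.mk' h.D) z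
          = (QuotientGroup.mk' h.D) x * (((QuotientGroup.mk' h.D) x)⁻¹ * (QuotientGroup.mk' h.D) z * (QuotientGroup.mk' h.D) x) := by
            rw [h1]
        _ = _ := by group
    rintro _ ⟨a, (rfl | rfl | rfl), rfl⟩ _ ⟨b, (rfl | rfl | rfl), rfl⟩
    · rfl
    · rw [hy1, one_mul, mul_one]
    · exact hxz
    · rw [hy1, one_mul, mul_one]
    · rfl
    · rw [hy1, one_mul, mul_one]
    · exact hxz.symm
    · rw [hy1, one_mul, mul_one]
    · rfl

/-- `y` is a commutator -/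
theorem DataG.y_mem_commutator (h : DataG p n s W x y z) : y ∈ ⁅(⊤ : Subgroup W), (⊤ : Subgroup W)⁆ := by
  have h1 := Subgroup.commutator_mem_commutator (Subgroup.mem_top x⁻¹) (Subgroup.mem_top z)
  rw [commutatorElement_def, inv_inv, h.hxz, mul_inv_cancel_right] at h1
  exact h1

theorem DataG.D_comm (h : DataG p n s W x y z) {a : W} (ha : a ∈ h.D) : Commute z a := by
  obtain ⟨i, j, rfl⟩ := ha
  exact ((show Commute y z from h.hyz).symm.zpow_right i).mul_right (((Commute.refl z).pow_right _).zpow_right j)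

theorem DataG.D_pow (h : DataG p n s W x y z) {a : W} (ha : a ∈ h.D) : a ^ p = 1 := by
  obtain ⟨i, j, rfl⟩ := ha
  have h1 : Commute (y ^ i) ((z ^ p ^ (n - 3)) ^ j) := ((show Commute y z from h.hyz).pow_right _).zpow_zpow i j
  rw [h1.mul_pow]
  have h2 : (y ^ i) ^ p = 1 := by
    rw [← zpow_natCast, ← zpow_mul, mul_comm, zpow_mul, zpow_natCast, h.hy, one_zpow]
  have h3 : ((z ^ p ^ (n - 3)) ^ j) ^ p = 1 := by
    rw [← zpow_natCast, ← zpow_mul, mul_comm, zpow_mul, zpow_natCast, ← pow_mul, ← pow_succ]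
    have : n - 3 + 1 = n - 2 := by have := h.hn; omega
    rw [this, h.hz, one_zpow]
  rw [h2, h3, one_mul]

/-- elements of order `p` of `A` lie in `D` -/
theorem DataG.mem_D_of_pow (h : DataG p n s W x y z) {a : W} (ha : a ∈ h.A) (hp : a ^ p = 1) : a ∈ h.D := by
  obtain ⟨i, j, rfl⟩ := ha
  have h1 : Commute (y ^ i) (z ^ j) := (show Commute y z from h.hyz).zpow_zpow i j
  rw [h1.mul_pow] at hp
  have h2 : (y ^ i) ^ p = 1 := by
    rw [← zpow_natCast, ← zpow_mul, mul_comm, zpow_mul, zpow_natCast, h.hy, one_zpow]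
  rw [h2, one_mul, ← zpow_natCast, ← zpow_mul] at hp
  have h3 := orderOf_dvd_iff_zpow_eq_one.mpr hp
  rw [h.order_z] at h3
  have hn := h.hn
  have e3 : n - 2 = (n - 3) + 1 := by omega
  rw [e3, pow_succ, Nat.cast_mul] at h3
  have h7 : ((p ^ (n - 3) : ℕ) : ℤ) ∣ j := by
    have h6 : (p : ℤ) ≠ 0 := by exact_mod_cast hpp.out.ne_zero
    exact (mul_dvd_mul_iff_right h6).mp h3
  obtain ⟨c, rfl⟩ := h7
  refine ⟨i, c, ?_⟩
  rw [zpow_mul z, zpow_natCast]

end Cfsg.Agent.H271.RankTwoG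

namespace Cfsg.Agent.H271.RankTwoSit

open Cfsg Subgroup
open Cfsg.Agent.H271.RankTwoG

variable {N : Type*} [Group N] [Finite N] {p : ℕ} [hpp : Fact p.Prime] {P K : Subgroup N} {ξ : N}

/-- the groups `G(p, n; s)` -/
theorem Sit.caseG (h : Sit p P K ξ) (hp2 : p ≠ 2) (n s : ℕ) (x y z : P) (hD : DataG p n s P x y z) : False := by
  have hPn := h.hPn
  have hcyc : IsCyclic (center P) := by
    rw [hD.center_eq]; infer_instance
  -- `P' = D`
  have hPD : ∀ a ∈ (⁅P, P⁆ : Subgroup N), ∃ b ∈ hD.D, (b : N) = a := by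
    have hle : (⁅P, P⁆ : Subgroup N) ≤ hD.D.map P.subtype := by
      rw [Subgroup.commutator_le]
      intro a ha b hb
      refine ⟨_, hD.commutator_le ⟨a, ha⟩ ⟨b, hb⟩, ?_⟩
      rw [commutatorElement_def]
      rfl
    intro a ha
    obtain ⟨b, hb, e⟩ := hle ha
    exact ⟨b, hb, e⟩
  have hyP : (y : N) ∈ (⁅P, P⁆ : Subgroup N) := by
    have h1 : (y : N) ∈ (⁅(⊤ : Subgroup P), (⊤ : Subgroup P)⁆ : Subgroup P).map P.subtype := ⟨y, hD.y_mem_commutator, rfl⟩
    rw [Subgroup.map_commutator, ← MonoidHom.range_eq_map, Subgroup.range_subtype] at h1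
    exact h1
  have hz := h.mem_of_fixed (v := (z : N)) z.2 (by
    intro k hk
    have hzk : k * (z : N) * k⁻¹ ∈ P := hPn.conj_mem _ z.2 k
    set z' : P := ⟨k * z * k⁻¹, hzk⟩ with hz'
    -- `z'` centralises `P'`
    have h1 : z' ∈ hD.A := by
      apply hD.mem_of_comm
      have hPPn : (⁅P, P⁆ : Subgroup N).Normal := inferInstance
      have h2 : k⁻¹ * (y : N) * k ∈ (⁅P, P⁆ : Subgroup N) := by
        have := hPPn.conj_mem _ hyP k⁻¹
        rwa [inv_inv] at this
      obtain ⟨b, hb, e⟩ := hPD _ h2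
      have h3 := hD.D_comm hb
      have h4 : (z : N) * (k⁻¹ * (y : N) * k) = (k⁻¹ * (y : N) * k) * z := by
        rw [← e]; exact congrArg Subtype.val h3.eq
      apply Subtype.ext
      show k * (z : N) * k⁻¹ * y = y * (k * z * k⁻¹)
      calc k * (z : N) * k⁻¹ * y = k * ((z : N) * (k⁻¹ * (y : N) * k)) * k⁻¹ := by group
        _ = k * ((k⁻¹ * (y : N) * k) * z) * k⁻¹ := by rw [h4]
        _ = y * (k * z * k⁻¹) := by group
    have h5 : z' * z⁻¹ ∈ hD.A := hD.A.mul_mem h1 (hD.A.inv_mem hD.z_mem)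
    have h6 : (z' * z⁻¹) ^ p = 1 := by
      rw [((hD.comm_A h1 hD.z_mem).inv_right).mul_pow]
      have h7 : z' ^ p = z ^ p := by
        apply Subtype.ext
        have h8 := h.center_fixed hp2 hcyc hD.zp_center hk
        show (k * (z : N) * k⁻¹) ^ p = (z : N) ^ p
        have h9 : ((z ^ p : P) : N) = (z : N) ^ p := rfl
        rw [h9] at h8
        rw [conj_pow, ← h8.eq, mul_inv_cancel_right]
      rw [h7, inv_pow, mul_inv_cancel]
    have h7 := hD.mem_D_of_pow h5 h6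
    -- `D ≤ P'`
    obtain ⟨i, j, hij⟩ := h7
    have hwP : ((z ^ p ^ (n - 3) : P) : N) ∈ (⁅P, P⁆ : Subgroup N) := by
      have h8 : ((y⁻¹ * (x⁻¹ * y * x) : P) : N) ∈ (⁅P, P⁆ : Subgroup N) := by
        have := Subgroup.commutator_mem_commutator (H₁ := P) (H₂ := P) (P.inv_mem y.2) (P.inv_mem x.2)
        rw [commutatorElement_def, inv_inv, inv_inv] at this
        have e : ((y⁻¹ * (x⁻¹ * y * x) : P) : N) = (y : N)⁻¹ * (x : N)⁻¹ * y * x := by
          simp only [Subgroup.coe_mul, Subgroup.coe_inv]; group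
        rw [e]; exact this
      rw [hD.hxy, inv_mul_cancel_left] at h8
      -- `w ^ s ∈ P'`, `s` prime to `p`
      have hs := hD.hs'
      have hcop : Nat.Coprime s p := ((Nat.Prime.coprime_iff_not_dvd hpp.out).mpr hs).symm
      obtain ⟨a', b', hab⟩ := Nat.isCoprime_iff_coprime.mpr hcop
      have e : z ^ p ^ (n - 3) = (z ^ (s * p ^ (n - 3))) ^ a' := by
        have hw : (z ^ p ^ (n - 3)) ^ p = 1 := hD.D_pow hD.w_mem_D
        calc z ^ p ^ (n - 3) = (z ^ p ^ (n - 3)) ^ (1 : ℤ) := (zpow_one _).symm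
          _ = (z ^ p ^ (n - 3)) ^ (a' * s + b' * p) := by rw [hab]
          _ = (z ^ (s * p ^ (n - 3))) ^ a' := by
            rw [zpow_add, mul_comm a' (s : ℤ), zpow_mul, mul_comm b' (p : ℤ), zpow_mul, zpow_natCast _ p, hw, one_zpow, mul_one,
              zpow_natCast, ← pow_mul, mul_comm (p ^ (n - 3)) s]
      rw [e]
      have : (((z ^ (s * p ^ (n - 3))) ^ a' : P) : N) = ((z ^ (s * p ^ (n - 3)) : P) : N) ^ a' := rfl
      rw [this]
      exact Subgroup.zpow_mem _ h8 _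
    have e : k * (z : N) * k⁻¹ * (z : N)⁻¹ = ((z' * z⁻¹ : P) : N) := rfl
    rw [e, hij]
    exact Subgroup.mul_mem _ (Subgroup.zpow_mem _ hyP i) (Subgroup.zpow_mem _ hwP j))
  obtain ⟨b, hb, e⟩ := hPD _ hz
  have hbz : b = z := Subtype.ext e
  have h1 : z ^ p = 1 := by rw [← hbz]; exact hD.D_pow hb
  have h2 := orderOf_dvd_of_pow_eq_one h1
  rw [hD.order_z] at h2
  have h3 : p ^ (n - 2) ∣ p ^ 1 := by rwa [pow_one]
  have := (Nat.pow_dvd_pow_iff_le_right hpp.out.one_lt).mp h3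
  have := hD.hn
  omega

end Cfsg.Agent.H271.RankTwoSit
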