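import Mathlib
import Cfsg.Agent.H271.RankTwoG
import Cfsg.Agent.S1459

/-!
# `p`-groups of maximal class with an automorphism inverting `P / P'`
-/

set_option autoImplicit false

open scoped commutatorElement

namespace Cfsg.Agent.H271.RankTwoMax

open Cfsg Subgroup
open Cfsg.Agent.H271.RankTwoTr

/-- the lower central series (starting with `0`) -/
abbrev Lc (G : Type*) [Group G] (i : ℕ) : Subgroup G := (⊤ : Subgroup G).lowerCentralSeries i

section comm

variable {Q : Type*} [Group Q]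

theorem comm_mul_right {a : Q} (h : ∀ v, ⁅a, v⁆ ∈ center Q) (u v : Q) : ⁅a, u * v⁆ = ⁅a, u⁆ * ⁅a, v⁆ := by
  have h1 := Subgroup.mem_center_iff.mp (h v) u
  have e : ⁅a, u * v⁆ = ⁅a, u⁆ * (u * ⁅a, v⁆ * u⁻¹) := by
    simp only [commutatorElement_def]; group
  rw [e, h1, mul_inv_cancel_right]

theorem comm_inv_right {a : Q} (h : ∀ v, ⁅a, v⁆ ∈ center Q) (u : Q) : ⁅a, u⁻¹⁆ = ⁅a, u⁆⁻¹ := by
  have h1 := comm_mul_right h u u⁻¹
  rw [mul_inv_cancel, commutatorElement_one_right] at h1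
  exact (eq_inv_of_mul_eq_one_right h1.symm)

theorem comm_inv_left {a : Q} (h : ∀ v, ⁅a, v⁆ ∈ center Q) (u : Q) : ⁅a⁻¹, u⁆ = ⁅a, u⁆⁻¹ := by
  have h1 := Subgroup.mem_center_iff.mp (Subgroup.inv_mem _ (h u)) a⁻¹
  have e : ⁅a⁻¹, u⁆ = a⁻¹ * ⁅a, u⁆⁻¹ * a := by
    simp only [commutatorElement_def]; group
  rw [e, h1, inv_mul_cancel_right]

theorem comm_derived {a : Q} (h : ∀ v, ⁅a, v⁆ ∈ center Q) {d : Q} (hd : d ∈ commutator Q) : ⁅a, d⁆ = 1 := by
  let f : Q →* center Q :=
    { toFun := fun v => ⟨⁅a, v⁆, h v⟩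
      map_one' := Subtype.ext (commutatorElement_one_right a)
      map_mul' := fun u v => Subtype.ext (comm_mul_right h u v) }
  have h1 : commutator Q ≤ f.ker := by
    rw [commutator_def, Subgroup.commutator_le]
    intro x _ y _
    rw [MonoidHom.mem_ker, map_commutatorElement, commutatorElement_eq_one_iff_mul_comm]
    exact Subtype.ext (Subgroup.mem_center_iff.mp (f y).2 (f x : Q))
  have h2 := h1 hd
  rw [MonoidHom.mem_ker] at h2
  exact congrArg Subtype.val h2

end comm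

section inversion

variable {G : Type*} [Group G]

theorem center_mod (i : ℕ) (a : G) (ha : a ∈ Lc G i) :
    (QuotientGroup.mk' (Lc G (i + 1))) a ∈ center (G ⧸ Lc G (i + 1)) := by
  rw [Subgroup.mem_center_iff]
  intro q
  obtain ⟨g, rfl⟩ := QuotientGroup.mk'_surjective (Lc G (i + 1)) q
  have h1 : ⁅a, g⁆ ∈ Lc G (i + 1) := Subgroup.commutator_mem_commutator ha (Subgroup.mem_top g)
  have h2 : (QuotientGroup.mk' (Lc G (i + 1))) ⁅a, g⁆ = 1 := (QuotientGroup.eq_one_iff _).mpr h1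
  rw [map_commutatorElement, commutatorElement_eq_one_iff_mul_comm] at h2
  exact h2.symm

/-- an automorphism inverting `G / G'` acts on `L i / L (i+1)` as `(-1)^(i+1)`. -/
theorem inversion (φ : G →* G) (h : ∀ g, φ g * g ∈ Lc G 1) (i : ℕ) :
    ∀ a ∈ Lc G i, φ a * a ^ ((-1 : ℤ) ^ i) ∈ Lc G (i + 1) := by
  induction i with
  | zero =>
    intro a _
    rw [pow_zero, zpow_one]; exact h a
  | succ i ih =>
    intro b hb
    set π := QuotientGroup.mk' (Lc G (i + 1 + 1)) with hπ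
    have hker : ∀ g, π g = 1 ↔ g ∈ Lc G (i + 1 + 1) := fun g => QuotientGroup.eq_one_iff g
    have hcen : ∀ c ∈ Lc G (i + 1), π c ∈ center (G ⧸ Lc G (i + 1 + 1)) := fun c hc => center_mod (i + 1) c hc
    have hbr : ∀ a ∈ Lc G i, ∀ v, ⁅π a, v⁆ ∈ center (G ⧸ Lc G (i + 1 + 1)) := by
      intro a ha v
      obtain ⟨g, rfl⟩ := QuotientGroup.mk'_surjective (Lc G (i + 1 + 1)) v
      rw [← map_commutatorElement]
      exact hcen _ (Subgroup.commutator_mem_commutator ha (Subgroup.mem_top g))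
    have hder : ∀ d ∈ Lc G 1, π d ∈ commutator (G ⧸ Lc G (i + 1 + 1)) := by
      intro d hd
      have h1 : π d ∈ (Lc G 1).map π := ⟨d, hd, rfl⟩
      rw [Subgroup.map_lowerCentralSeries] at h1
      rw [← Subgroup.top_lowerCentralSeries_one]
      exact Subgroup.lowerCentralSeries_mono 1 le_top h1
    -- the claim: `π (φ b) = π b ^ ((-1)^i)`
    have key : π (φ b) = π b ^ ((-1 : ℤ) ^ i) := by
      have hb' : b ∈ closure {x | ∃ p ∈ Lc G i, ∃ q ∈ (⊤ : Subgroup G), ⁅p, q⁆ = x} := hb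
      induction hb' using Subgroup.closure_induction with
      | mem x hx =>
        obtain ⟨a, ha, u, -, rfl⟩ := hx
        have hc := ih a ha
        have hd := h u
        obtain ⟨c, hcdef⟩ : ∃ c, c = φ a * a ^ ((-1 : ℤ) ^ i) := ⟨_, rfl⟩
        obtain ⟨d, hddef⟩ : ∃ d, d = φ u * u := ⟨_, rfl⟩
        rw [← hcdef] at hc
        rw [← hddef] at hd
        have ea : φ a = c * a ^ (-(-1 : ℤ) ^ i) := by rw [hcdef, zpow_neg]; group
        have eu : φ u = d * u⁻¹ := by rw [hddef]; group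
        have hcz := hcen c hc
        have e1 : ∀ w v : G ⧸ Lc G (i + 1 + 1), ⁅π c * w, v⁆ = ⁅w, v⁆ := by
          intro w v
          have h1 := Subgroup.mem_center_iff.mp hcz
          have h2 := h1 (w * v * w⁻¹)
          have h3 := h1 v
          rw [commutatorElement_def, commutatorElement_def, mul_inv_rev]
          calc π c * w * v * (w⁻¹ * (π c)⁻¹) * v⁻¹ = π c * (w * v * w⁻¹) * (π c)⁻¹ * v⁻¹ := by group
            _ = (w * v * w⁻¹) * π c * (π c)⁻¹ * v⁻¹ := by rw [h2]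
            _ = w * v * w⁻¹ * v⁻¹ := by group
        rw [map_commutatorElement, map_commutatorElement, ea, eu, map_mul, map_mul, e1]
        have haε : ∀ v : G ⧸ Lc G (i + 1 + 1), ⁅(π a) ^ (-(-1 : ℤ) ^ i), v⁆ = ⁅π a, v⁆ ^ (-(-1 : ℤ) ^ i) := by
          intro v
          rcases neg_one_pow_eq_or ℤ i with h1 | h1
          · rw [h1, zpow_neg_one, zpow_neg_one]
            exact comm_inv_left (hbr a ha) v
          · rw [h1, neg_neg, zpow_one, zpow_one]
        rw [map_zpow, haε, comm_mul_right (hbr a ha), comm_derived (hbr a ha) (hder d hd), one_mul, map_inv,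
          comm_inv_right (hbr a ha), map_commutatorElement, inv_zpow', neg_neg]
      | one => rw [map_one, map_one, one_zpow]
      | mul x y hx hy h1 h2 =>
        have hx' : x ∈ Lc G (i + 1) := hx
        have hy' : y ∈ Lc G (i + 1) := hy
        have h3 : Commute (π x) (π y) := (Subgroup.mem_center_iff.mp (hcen x hx') (π y)).symm
        rw [map_mul, map_mul, h1 hx', h2 hy', map_mul, h3.mul_zpow]
      | inv x hx h1 =>
        have hx' : x ∈ Lc G (i + 1) := hx
        rw [map_inv, map_inv, h1 hx', map_inv, inv_zpow]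
    rw [← hker, map_mul, map_zpow, key, ← zpow_add, pow_succ]
    have : (-1 : ℤ) ^ i + (-1) ^ i * (-1) = 0 := by ring
    rw [this, zpow_zero]

end inversion

section maximal

variable {G : Type*} [Group G] [Finite G] {p : ℕ} [hpp : Fact p.Prime] {n : ℕ}

theorem lt_of_ne_bot (hG : IsPGroup p G) {i : ℕ} (h : Lc G i ≠ ⊥) : Lc G (i + 1) < Lc G i := by
  rw [show Lc G (i + 1) = ⁅Lc G i, (⊤ : Subgroup G)⁆ from rfl]
  exact commutator_lt hG _ h

theorem ne_bot_of_le {j : ℕ} (h : Lc G j ≠ ⊥) {i : ℕ} (hi : i ≤ j) : Lc G i ≠ ⊥ := by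
  intro hb
  apply h
  rw [eq_bot_iff, ← hb]
  exact Subgroup.lowerCentralSeries_antitone _ hi

theorem card_step (hG : IsPGroup p G) {i : ℕ} (h : Lc G i ≠ ⊥) : p * Nat.card (Lc G (i + 1)) ≤ Nat.card (Lc G i) := by
  have h2 := lt_of_ne_bot hG h
  obtain ⟨a, ha⟩ := IsPGroup.iff_card.1 (hG.to_subgroup (Lc G (i + 1)))
  obtain ⟨b, hb⟩ := IsPGroup.iff_card.1 (hG.to_subgroup (Lc G i))
  have h3 : Nat.card (Lc G (i + 1)) < Nat.card (Lc G i) := by
    apply lt_of_le_of_ne (Subgroup.card_le_of_le h2.le)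
    intro h
    exact h2.ne (Subgroup.eq_of_le_of_card_ge h2.le h.ge)
  rw [ha, hb] at h3 ⊢
  have h4 := (Nat.pow_lt_pow_iff_right hpp.out.one_lt).mp h3
  rw [mul_comm, ← pow_succ]
  exact Nat.pow_le_pow_right hpp.out.pos h4

theorem card_ge (hG : IsPGroup p G) (h : Lc G (n - 2) ≠ ⊥) (k : ℕ) (hk : k ≤ n - 2) : p ^ (k + 1) ≤ Nat.card (Lc G (n - 2 - k)) := by
  induction k with
  | zero =>
    obtain ⟨a, ha⟩ := IsPGroup.iff_card.1 (hG.to_subgroup (Lc G (n - 2)))
    rw [Nat.sub_zero, ha]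
    apply Nat.pow_le_pow_right hpp.out.pos
    rcases Nat.eq_zero_or_pos a with h0 | h0
    · exfalso; apply h
      rw [h0, pow_zero] at ha
      exact Subgroup.eq_bot_of_card_eq _ ha
    · omega
  | succ k ih =>
    have h1 := ih (by omega)
    have e : n - 2 - k = (n - 2 - (k + 1)) + 1 := by omega
    rw [e] at h1
    have h2 := card_step hG (ne_bot_of_le h (show n - 2 - (k + 1) ≤ n - 2 by omega))
    calc p ^ (k + 1 + 1) = p * p ^ (k + 1) := by rw [pow_succ, mul_comm]
      _ ≤ p * Nat.card (Lc G (n - 2 - (k + 1) + 1)) := Nat.mul_le_mul_left p h1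
      _ ≤ _ := h2

/-- the derived group has index at least `p²` -/
theorem card_one_le (hG : IsPGroup p G) (h1 : Lc G 1 ≠ ⊥) : p ^ 2 * Nat.card (Lc G 1) ≤ Nat.card G := by
  have hnil : Group.IsNilpotent G := hG.isNilpotent
  have hc : ¬ IsCyclic (G ⧸ commutator G) := by
    intro hc
    apply h1
    rw [show Lc G 1 = commutator G from Subgroup.top_lowerCentralSeries_one]
    exact Cfsg.Agent.S1459.commutator_eq_bot_of_cyclic hc
  obtain ⟨b, hb⟩ := hG.index (commutator G)
  have hb2 : 2 ≤ b := by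
    by_contra hcon
    push Not at hcon
    apply hc
    have h5 : Nat.card (G ⧸ commutator G) = p ^ b := hb
    have h6 : b = 0 ∨ b = 1 := by omega
    rcases h6 with h6 | h6
    · rw [h6, pow_zero] at h5
      have := (Nat.card_eq_one_iff_unique.mp h5).1
      exact isCyclic_of_subsingleton
    · rw [h6, pow_one] at h5
      exact isCyclic_of_prime_card h5
  have h2 := (commutator G).card_mul_index
  rw [hb] at h2
  rw [show Lc G 1 = commutator G from Subgroup.top_lowerCentralSeries_one, ← h2, mul_comm]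
  exact Nat.mul_le_mul_left _ (Nat.pow_le_pow_right hpp.out.pos hb2)

theorem card_le (hG : Nat.card G = p ^ n) (hn : 3 ≤ n) (h : Lc G (n - 2) ≠ ⊥) (i : ℕ) (hi1 : 1 ≤ i) (hi : i ≤ n - 1) :
    Nat.card (Lc G i) ≤ p ^ (n - 1 - i) := by
  have hGp : IsPGroup p G := IsPGroup.of_card hG
  induction i, hi1 using Nat.le_induction with
  | base =>
    have h1 := card_one_le hGp (ne_bot_of_le h (show 1 ≤ n - 2 by omega))
    rw [hG] at h1
    have e : p ^ n = p ^ 2 * p ^ (n - 1 - 1) := by rw [← pow_add]; congr 1; omega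
    rw [e] at h1
    exact Nat.le_of_mul_le_mul_left h1 (pow_pos hpp.out.pos 2)
  | succ i hi' ih =>
    have h1 := ih (by omega)
    have h2 := card_step hGp (ne_bot_of_le h (show i ≤ n - 2 by omega))
    have e : p ^ (n - 1 - i) = p * p ^ (n - 1 - (i + 1)) := by
      rw [mul_comm, ← pow_succ]; congr 1; omega
    rw [e] at h1
    exact Nat.le_of_mul_le_mul_left (h2.trans h1) hpp.out.pos

theorem card_eq (hG : Nat.card G = p ^ n) (hn : 3 ≤ n) (h : Lc G (n - 2) ≠ ⊥) (i : ℕ) (hi1 : 1 ≤ i) (hi : i ≤ n - 1) :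
    Nat.card (Lc G i) = p ^ (n - 1 - i) := by
  have hGp : IsPGroup p G := IsPGroup.of_card hG
  apply le_antisymm (card_le hG hn h i hi1 hi)
  by_cases h0 : i = n - 1
  · rw [h0, Nat.sub_self, pow_zero]
    exact Nat.card_pos
  have h1 := card_ge hGp h (n - 2 - i) (by omega)
  have e1 : n - 2 - i + 1 = n - 1 - i := by omega
  have e2 : n - 2 - (n - 2 - i) = i := by omega
  rw [e1, e2] at h1
  exact h1

theorem last_eq_bot (hG : Nat.card G = p ^ n) (hn : 3 ≤ n) (h : Lc G (n - 2) ≠ ⊥) : Lc G (n - 1) = ⊥ := by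
  have := card_eq hG hn h (n - 1) (by omega) le_rfl
  rw [Nat.sub_self, pow_zero] at this
  exact Subgroup.eq_bot_of_card_eq _ this

theorem nilpotencyClass_eq (hG : Nat.card G = p ^ n) (hn : 3 ≤ n) (h : Lc G (n - 2) ≠ ⊥) :
    ∃ _ : Group.IsNilpotent G, Group.nilpotencyClass G = n - 1 := by
  have hGp : IsPGroup p G := IsPGroup.of_card hG
  have hnil : Group.IsNilpotent G := hGp.isNilpotent
  refine ⟨hnil, ?_⟩
  apply le_antisymm
  · exact Subgroup.lowerCentralSeries_eq_bot_iff_nilpotencyClass_le.mp (last_eq_bot hG hn h)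
  · by_contra hcon
    push Not at hcon
    apply h
    exact Subgroup.lowerCentralSeries_eq_bot_iff_nilpotencyClass_le.mpr (by omega)

/-- a central element of `L i` not in `L (i+1)` forces `i = n - 2` -/
theorem central_mem (hG : Nat.card G = p ^ n) (hn : 3 ≤ n) (h : Lc G (n - 2) ≠ ⊥) {ξ : G} (hξ : ξ ∈ center G)
    (hξ1 : ξ ∈ Lc G 1) : ξ ∈ Lc G (n - 2) := by
  have hGp : IsPGroup p G := IsPGroup.of_card hG
  have key : ∀ i, 1 ≤ i → i ≤ n - 2 → ξ ∈ Lc G i := by
    intro i hi1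
    induction i, hi1 using Nat.le_induction with
    | base => intro _; exact hξ1
    | succ i hi' ih =>
      intro hi
      by_contra hcon
      have h1 := ih (by omega)
      -- `L i ≤ ⟨ξ⟩ L (i + 1)`
      have h2 : Lc G i ≤ zpowers ξ ⊔ Lc G (i + 1) := by
        have hlt : Lc G (i + 1) < zpowers ξ ⊔ Lc G (i + 1) := by
          apply lt_of_le_of_ne le_sup_right
          intro he
          apply hcon
          rw [he]
          exact (le_sup_left : zpowers ξ ≤ _) (Subgroup.mem_zpowers ξ)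
        have hle : zpowers ξ ⊔ Lc G (i + 1) ≤ Lc G i := by
          apply sup_le
          · rw [Subgroup.zpowers_le]; exact h1
          · exact Subgroup.lowerCentralSeries_antitone _ (Nat.le_succ i)
        obtain ⟨b, hb⟩ := IsPGroup.iff_card.1 (hGp.to_subgroup (zpowers ξ ⊔ Lc G (i + 1) : Subgroup G))
        have h3 : Nat.card (Lc G (i + 1)) < Nat.card (zpowers ξ ⊔ Lc G (i + 1) : Subgroup G) := by
          apply lt_of_le_of_ne (Subgroup.card_le_of_le hlt.le)
          intro h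
          exact hlt.ne (Subgroup.eq_of_le_of_card_ge hlt.le h.ge)
        have h4 := card_eq hG hn h (i + 1) (by omega) (by omega)
        have h5 := card_eq hG hn h i (by omega) (by omega)
        rw [hb, h4] at h3
        have h6 := (Nat.pow_lt_pow_iff_right hpp.out.one_lt).mp h3
        have h7 : Lc G i = zpowers ξ ⊔ Lc G (i + 1) := by
          symm
          apply Subgroup.eq_of_le_of_card_ge hle
          rw [hb, h5]
          exact Nat.pow_le_pow_right hpp.out.pos (by omega)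
        exact h7.le
      have h3 : Lc G (i + 1) ≤ Lc G (i + 1 + 1) := by
        rw [show Lc G (i + 1) = ⁅Lc G i, (⊤ : Subgroup G)⁆ from rfl, Subgroup.commutator_le]
        intro a ha g _
        have ha' := h2 ha
        obtain ⟨_, ⟨j, rfl⟩, b, hb, rfl⟩ := Subgroup.mem_sup_of_normal_right.mp ha'
        have hz : ξ ^ j ∈ center G := Subgroup.zpow_mem _ hξ j
        have hz' := Subgroup.mem_center_iff.mp hz
        have e : ⁅ξ ^ j * b, g⁆ = ⁅b, g⁆ := by
          have h2 := hz' (b * g * b⁻¹)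
          rw [commutatorElement_def, commutatorElement_def, mul_inv_rev]
          calc ξ ^ j * b * g * (b⁻¹ * (ξ ^ j)⁻¹) * g⁻¹ = ξ ^ j * (b * g * b⁻¹) * (ξ ^ j)⁻¹ * g⁻¹ := by group
            _ = (b * g * b⁻¹) * ξ ^ j * (ξ ^ j)⁻¹ * g⁻¹ := by rw [h2]
            _ = b * g * b⁻¹ * g⁻¹ := by group
        show ⁅ξ ^ j * b, g⁆ ∈ _
        rw [e]
        exact Subgroup.commutator_mem_commutator hb (Subgroup.mem_top g)
      exact (lt_of_ne_bot hGp (ne_bot_of_le h (show i + 1 ≤ n - 2 from hi))).not_ge h3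
  exact key (n - 2) (by omega) le_rfl

/-- parity -/
theorem odd_of_inversion (hp2 : p ≠ 2) (hG : Nat.card G = p ^ n) (hn : 3 ≤ n) (h : Lc G (n - 2) ≠ ⊥) {ξ : G} (hξ : ξ ∈ center G)
    (hξ1 : ξ ∈ Lc G 1) (hξ2 : ξ ≠ 1) (φ : G →* G) (hφ : ∀ g, φ g * g ∈ Lc G 1) (hφξ : φ ξ = ξ) : Odd n := by
  have hGp : IsPGroup p G := IsPGroup.of_card hG
  have h1 := central_mem hG hn h hξ hξ1
  have h2 := inversion φ hφ (n - 2) ξ h1
  have e : n - 2 + 1 = n - 1 := by omega
  rw [e, last_eq_bot hG hn h, Subgroup.mem_bot, hφξ] at h2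
  rcases Nat.even_or_odd (n - 2) with h3 | h3
  · exfalso
    rw [h3.neg_one_pow, zpow_one] at h2
    obtain ⟨k, hk⟩ := hGp ξ
    apply hξ2
    have h4 : orderOf ξ ∣ 2 := orderOf_dvd_of_pow_eq_one (by rw [pow_two]; exact h2)
    have h5 : orderOf ξ ∣ p ^ k := orderOf_dvd_of_pow_eq_one hk
    have h6 : Nat.Coprime 2 (p ^ k) := Nat.Coprime.pow_right k (by
      rw [Nat.coprime_primes Nat.prime_two hpp.out]; exact fun h => hp2 h.symm)
    have h7 := Nat.dvd_gcd h4 h5
    rw [h6.gcd_eq_one] at h7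
    exact orderOf_eq_one_iff.mp (Nat.dvd_one.mp h7)
  · obtain ⟨k, hk⟩ := h3
    exact ⟨k + 1, by omega⟩

end maximal

end Cfsg.Agent.H271.RankTwoMax
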