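import Mathlib
import Cfsg.Agent.H271.RankTwoMax
import Cfsg.Agent.J2Type.ExtCube

/-!
# The case of maximal class
-/

set_option autoImplicit false

open scoped commutatorElement

namespace Cfsg.Agent.H271.RankTwoInv

open Cfsg Subgroup
open Cfsg.Agent.H271.RankTwoTr Cfsg.Agent.H271.RankTwoMax Cfsg.Agent.H271.RankTwoSit

section dich

variable {N : Type*} [Group N]

/-- `k` acts trivially on `A / B` -/
def Fx (A B : Subgroup N) (k : N) : Prop := ∀ u ∈ A, k * u * k⁻¹ * u⁻¹ ∈ B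

/-- `k` inverts `A / B` -/
def Iv (A B : Subgroup N) (k : N) : Prop := ∀ u ∈ A, k * u * k⁻¹ * u ∈ B

theorem Iv.mul_fx {A B : Subgroup N} [B.Normal] {k₁ k₂ : N} (h1 : Iv A B k₁) (h2 : Fx A B k₂) : Iv A B (k₁ * k₂) := by
  intro u hu
  have e : k₁ * k₂ * u * (k₁ * k₂)⁻¹ * u = (k₁ * (k₂ * u * k₂⁻¹ * u⁻¹) * k₁⁻¹) * (k₁ * u * k₁⁻¹ * u) := by group
  rw [e]
  exact Subgroup.mul_mem _ ((inferInstance : B.Normal).conj_mem _ (h2 u hu) k₁) (h1 u hu)

theorem Fx.mul_iv {A B : Subgroup N} [A.Normal] {k₁ k₂ : N} (h1 : Fx A B k₁) (h2 : Iv A B k₂) : Iv A B (k₁ * k₂) := by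
  intro u hu
  have hv : k₂ * u * k₂⁻¹ ∈ A := (inferInstance : A.Normal).conj_mem _ hu k₂
  have e : k₁ * k₂ * u * (k₁ * k₂)⁻¹ * u = (k₁ * (k₂ * u * k₂⁻¹) * k₁⁻¹ * (k₂ * u * k₂⁻¹)⁻¹) * (k₂ * u * k₂⁻¹ * u) := by group
  rw [e]
  exact Subgroup.mul_mem _ (h1 _ hv) (h2 u hu)

theorem three_cases {H : Type*} [Group H] (hH : Nat.card H = 3) (a : H) (ha : a ≠ 1) (q : H) : q = 1 ∨ q = a ∨ q = a⁻¹ := by
  have : Fact (Nat.Prime 3) := ⟨Nat.prime_three⟩
  have hfin : Finite H := Nat.finite_of_card_ne_zero (by rw [hH]; norm_num)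
  have ho : orderOf a = 3 := by
    have h1 : orderOf a ∣ 3 := by rw [← hH]; exact orderOf_dvd_natCard a
    rcases (Nat.dvd_prime Nat.prime_three).mp h1 with h2 | h2
    · exact absurd (orderOf_eq_one_iff.mp h2) ha
    · exact h2
  have hz : zpowers a = ⊤ := by
    apply Subgroup.eq_top_of_card_eq
    rw [Nat.card_zpowers, ho, hH]
  have hq : q ∈ zpowers a := by rw [hz]; trivial
  obtain ⟨i, rfl⟩ := hq
  have h3 : a ^ (3 : ℤ) = 1 := by
    have := pow_orderOf_eq_one a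
    rw [ho] at this
    exact_mod_cast this
  have h4 : a ^ i = a ^ (i % 3) := by
    conv_lhs => rw [← Int.emod_add_mul_ediv i 3]
    rw [zpow_add, zpow_mul, h3, one_zpow, mul_one]
  show a ^ i = 1 ∨ a ^ i = a ∨ a ^ i = a⁻¹
  rw [h4]
  have h5 := Int.emod_nonneg i (by norm_num : (3 : ℤ) ≠ 0)
  have h6 := Int.emod_lt_of_pos i (by norm_num : (0 : ℤ) < 3)
  have h7 : i % 3 = 0 ∨ i % 3 = 1 ∨ i % 3 = 2 := by omega
  rcases h7 with h7 | h7 | h7
  · left; rw [h7, zpow_zero]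
  · right; left; rw [h7, zpow_one]
  · right; right; rw [h7, eq_inv_iff_mul_eq_one]
    calc a ^ (2 : ℤ) * a = a ^ (3 : ℤ) := by group
      _ = 1 := h3

theorem dich [Finite N] (A B : Subgroup N) [hA : A.Normal] [hB : B.Normal] (hBA : B ≤ A) (hc : Nat.card A = 3 * Nat.card B) (k : N) :
    Fx A B k ∨ Iv A B k := by
  let π := QuotientGroup.mk' B
  have hker : ∀ g, π g = 1 ↔ g ∈ B := fun g => QuotientGroup.eq_one_iff g
  have hcard : Nat.card (A.map π) = 3 := by
    have h1 : (π.ker).relIndex A = Nat.card (A.map π) := Subgroup.relIndex_ker A π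
    rw [← h1, QuotientGroup.ker_mk']
    have h2 := (B.subgroupOf A).card_mul_index
    rw [Nat.card_congr (Subgroup.subgroupOfEquivOfLe hBA).toEquiv, hc, mul_comm] at h2
    exact Nat.eq_of_mul_eq_mul_right Nat.card_pos h2
  -- a generator
  obtain ⟨a, ha⟩ : ∃ a : A.map π, a ≠ 1 := by
    have : Nontrivial (A.map π) := by
      rw [← Finite.one_lt_card_iff_nontrivial, hcard]; norm_num
    exact exists_ne 1
  have hAn : (A.map π).Normal := Subgroup.Normal.map hA _ (QuotientGroup.mk'_surjective _)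
  have hcases := three_cases hcard a ha
  have hconj : π k * (a : N ⧸ B) * (π k)⁻¹ ∈ A.map π := hAn.conj_mem _ a.2 _
  have hk := hcases ⟨_, hconj⟩
  have hall : ∀ u ∈ A, π u = 1 ∨ π u = a ∨ π u = (a : N ⧸ B)⁻¹ := by
    intro u hu
    have hu' : π u ∈ A.map π := ⟨u, hu, rfl⟩
    rcases hcases ⟨π u, hu'⟩ with h | h | h
    · left; exact congrArg Subtype.val h
    · right; left; exact congrArg Subtype.val h
    · right; right; exact congrArg Subtype.val h
  rcases hk with h | h | h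
  · exfalso
    apply ha
    have h1 : π k * (a : N ⧸ B) * (π k)⁻¹ = 1 := congrArg Subtype.val h
    have h2 : (a : N ⧸ B) = 1 := by
      calc (a : N ⧸ B) = (π k)⁻¹ * (π k * (a : N ⧸ B) * (π k)⁻¹) * π k := by group
        _ = 1 := by rw [h1]; group
    exact Subtype.ext h2
  · left
    intro u hu
    have h1 : π k * (a : N ⧸ B) * (π k)⁻¹ = a := congrArg Subtype.val h
    rw [← hker, map_mul, map_mul, map_mul, map_inv, map_inv]
    rcases hall u hu with h2 | h2 | h2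
    · rw [h2]; group
    · rw [h2, h1]; group
    · rw [h2]
      have h3 : π k * (a : N ⧸ B)⁻¹ * (π k)⁻¹ = (a : N ⧸ B)⁻¹ := by
        rw [← conj_inv, h1]
      rw [h3]; group
  · right
    intro u hu
    have h1 : π k * (a : N ⧸ B) * (π k)⁻¹ = (a : N ⧸ B)⁻¹ := congrArg Subtype.val h
    rw [← hker, map_mul, map_mul, map_mul, map_inv]
    rcases hall u hu with h2 | h2 | h2
    · rw [h2]; group
    · rw [h2, h1]; group
    · rw [h2]
      have h3 : π k * (a : N ⧸ B)⁻¹ * (π k)⁻¹ = (a : N ⧸ B) := by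
        rw [← conj_inv, h1, inv_inv]
      rw [h3]; group

/-- inverting both factors of a series -/
theorem Iv.trans [Finite N] {K P M D : Subgroup N} [hPn : P.Normal] [D.Normal] {p : ℕ} [hpp : Fact p.Prime]
    (hp2 : p ≠ 2) (hPp : IsPGroup p P) (hMP : M ≤ P) (hD : ⁅P, P⁆ ≤ D)
    (hcop : (Nat.card K).Coprime p) {k : N} (hk : k ∈ K) (h1 : Iv P M k) (h2 : Iv M D k) : Iv P D k := by
  intro u hu
  let π := QuotientGroup.mk' D
  have hker : ∀ g, π g = 1 ↔ g ∈ D := fun g => QuotientGroup.eq_one_iff g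
  set m := k * u * k⁻¹ * u with hm
  have hmM : m ∈ M := h1 u hu
  have hmP : m ∈ P := hMP hmM
  have hcomm : Commute (π u) (π m) := by
    have h3 : ⁅u, m⁆ ∈ D := hD (Subgroup.commutator_mem_commutator hu hmP)
    rw [← hker, map_commutatorElement, commutatorElement_eq_one_iff_mul_comm] at h3
    exact h3
  have hku : π k * π u * (π k)⁻¹ = π m * (π u)⁻¹ := by
    rw [hm, map_mul, map_mul, map_mul, map_inv]; group
  have hkm : π k * π m * (π k)⁻¹ = (π m)⁻¹ := by
    have h3 := (hker _).mpr (h2 m hmM)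
    rw [map_mul, map_mul, map_mul, map_inv] at h3
    exact eq_inv_of_mul_eq_one_left h3
  have h3 : (π k) ^ 2 * π m * ((π k) ^ 2)⁻¹ = π m := by
    calc (π k) ^ 2 * π m * ((π k) ^ 2)⁻¹ = π k * (π k * π m * (π k)⁻¹) * (π k)⁻¹ := by rw [pow_two]; group
      _ = π k * (π m)⁻¹ * (π k)⁻¹ := by rw [hkm]
      _ = (π k * π m * (π k)⁻¹)⁻¹ := by group
      _ = π m := by rw [hkm, inv_inv]
  have h4 : (π k) ^ 2 * π u * ((π k) ^ 2)⁻¹ = π u * ((π m)⁻¹) ^ 2 := by
    calc (π k) ^ 2 * π u * ((π k) ^ 2)⁻¹ = π k * (π k * π u * (π k)⁻¹) * (π k)⁻¹ := by rw [pow_two]; group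
      _ = π k * (π m * (π u)⁻¹) * (π k)⁻¹ := by rw [hku]
      _ = (π k * π m * (π k)⁻¹) * (π k * π u * (π k)⁻¹)⁻¹ := by group
      _ = (π m)⁻¹ * (π u * (π m)⁻¹) := by rw [hkm, hku]; group
      _ = π u * (π m)⁻¹ * (π m)⁻¹ := by rw [← mul_assoc, ← hcomm.inv_right.eq]
      _ = π u * ((π m)⁻¹) ^ 2 := by rw [pow_two, mul_assoc]
  have h5 : ∀ j : ℕ, ((π k) ^ 2) ^ j * π u * (((π k) ^ 2) ^ j)⁻¹ = π u * (((π m)⁻¹) ^ 2) ^ j := by
    intro j
    induction j with
    | zero => simp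
    | succ j ih =>
      have hc : Commute ((π k) ^ 2) (((π m)⁻¹) ^ 2) := by
        have : Commute ((π k) ^ 2) (π m) := by
          show (π k) ^ 2 * π m = π m * (π k) ^ 2
          rw [← mul_inv_eq_iff_eq_mul]; exact h3
        exact this.inv_right.pow_right 2
      have hc2 := (hc.pow_right j)
      calc ((π k) ^ 2) ^ (j + 1) * π u * (((π k) ^ 2) ^ (j + 1))⁻¹
          = (π k) ^ 2 * (((π k) ^ 2) ^ j * π u * (((π k) ^ 2) ^ j)⁻¹) * ((π k) ^ 2)⁻¹ := by rw [pow_succ']; group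
        _ = (π k) ^ 2 * (π u * (((π m)⁻¹) ^ 2) ^ j) * ((π k) ^ 2)⁻¹ := by rw [ih]
        _ = ((π k) ^ 2 * π u * ((π k) ^ 2)⁻¹) * ((π k) ^ 2 * (((π m)⁻¹) ^ 2) ^ j * ((π k) ^ 2)⁻¹) := by group
        _ = π u * ((π m)⁻¹) ^ 2 * (((π m)⁻¹) ^ 2) ^ j := by rw [h4, hc2.eq, mul_inv_cancel_right]
        _ = π u * (((π m)⁻¹) ^ 2) ^ (j + 1) := by rw [mul_assoc, ← pow_succ']
  have h6 := h5 (Nat.card K)
  have hk1 : (π k) ^ Nat.card K = 1 := by
    rw [← map_pow]
    have : k ^ Nat.card K = 1 := by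
      have := pow_card_eq_one' (x := (⟨k, hk⟩ : K))
      exact congrArg Subtype.val this
    rw [this, map_one]
  rw [← pow_mul, mul_comm 2, pow_mul, hk1, one_pow, one_mul, inv_one, mul_one, left_eq_mul] at h6
  -- `m` has order prime to itself
  rw [← hker]
  have h7 : (π m) ^ (2 * Nat.card K) = 1 := by
    rw [← pow_mul, inv_pow, inv_eq_one] at h6
    exact h6
  obtain ⟨j, hj⟩ := hPp ⟨m, hmP⟩
  have h8 : (π m) ^ (p ^ j) = 1 := by
    have : m ^ (p ^ j) = 1 := congrArg Subtype.val hj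
    rw [← map_pow, this, map_one]
  have h9 : Nat.Coprime (2 * Nat.card K) (p ^ j) := by
    apply Nat.Coprime.pow_right
    apply Nat.Coprime.mul_left
    · rw [Nat.coprime_primes Nat.prime_two hpp.out]; exact fun h => hp2 h.symm
    · exact hcop
  have h10 := Nat.dvd_gcd (orderOf_dvd_of_pow_eq_one h7) (orderOf_dvd_of_pow_eq_one h8)
  rw [h9.gcd_eq_one] at h10
  exact orderOf_eq_one_iff.mp (Nat.dvd_one.mp h10)

end dich

section twostep

variable {G : Type*} [Group G]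

/-- the centraliser of `L 1 / L 3` -/
def tsc (G : Type*) [Group G] : Subgroup G where
  carrier := {g | ∀ c ∈ Lc G 1, ⁅c, g⁆ ∈ Lc G 3}
  one_mem' := by
    intro c _
    rw [commutatorElement_one_right]; exact Subgroup.one_mem _
  mul_mem' := by
    intro a b ha hb c hc
    have e : ⁅c, a * b⁆ = ⁅c, a⁆ * (a * ⁅c, b⁆ * a⁻¹) := by
      simp only [commutatorElement_def]; group
    rw [e]
    exact Subgroup.mul_mem _ (ha c hc) ((inferInstance : (Lc G 3).Normal).conj_mem _ (hb c hc) a)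
  inv_mem' := by
    intro a ha c hc
    have e : ⁅c, a⁻¹⁆ = a⁻¹ * ⁅c, a⁆⁻¹ * (a⁻¹)⁻¹ := by
      simp only [commutatorElement_def]; group
    rw [e]
    exact (inferInstance : (Lc G 3).Normal).conj_mem _ (Subgroup.inv_mem _ (ha c hc)) a⁻¹

theorem mem_tsc (g : G) : g ∈ tsc G ↔ ∀ c ∈ Lc G 1, ⁅c, g⁆ ∈ Lc G 3 := Iff.rfl

instance tsc_char : (tsc G).Characteristic := by
  rw [Subgroup.characteristic_iff_le_comap]
  intro φ g hg
  rw [Subgroup.mem_comap, mem_tsc]
  intro c hc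
  have h1 : ∀ i, ∀ x, φ.toMonoidHom x ∈ Lc G i ↔ x ∈ Lc G i := by
    intro i x
    have h2 : (Lc G i).comap φ.toMonoidHom = Lc G i := (inferInstance : (Lc G i).Characteristic).fixed φ
    have h3 : x ∈ (Lc G i).comap φ.toMonoidHom ↔ x ∈ Lc G i := by rw [h2]
    exact h3
  obtain ⟨d, rfl⟩ := φ.surjective c
  have hd : d ∈ Lc G 1 := (h1 1 d).mp hc
  have h4 := hg d hd
  have h5 := (h1 3 ⁅d, g⁆).mpr h4
  rw [map_commutatorElement] at h5
  exact h5

theorem brac (c : G) (hc : c ∈ Lc G 1) (v : G ⧸ Lc G 3) :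
    ⁅(QuotientGroup.mk' (Lc G 3)) c, v⁆ ∈ center (G ⧸ Lc G 3) := by
  obtain ⟨g, rfl⟩ := QuotientGroup.mk'_surjective (Lc G 3) v
  rw [← map_commutatorElement]
  exact center_mod 2 _ (Subgroup.commutator_mem_commutator hc (Subgroup.mem_top g))

theorem lc_one_le_tsc : Lc G 1 ≤ tsc G := by
  intro d hd c hc
  rw [← QuotientGroup.eq_one_iff]
  show (QuotientGroup.mk' (Lc G 3)) ⁅c, d⁆ = 1
  rw [map_commutatorElement]
  apply comm_derived (brac c hc)
  have h1 : (QuotientGroup.mk' (Lc G 3)) d ∈ (Lc G 1).map (QuotientGroup.mk' (Lc G 3)) := ⟨d, hd, rfl⟩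
  rw [Subgroup.map_lowerCentralSeries] at h1
  rw [← Subgroup.top_lowerCentralSeries_one]
  exact Subgroup.lowerCentralSeries_mono 1 le_top h1

variable [Finite G] {p : ℕ} [hpp : Fact p.Prime] {n : ℕ}

theorem tsc_ne_top (hG : Nat.card G = p ^ n) (hn : 4 ≤ n) (h : Lc G (n - 2) ≠ ⊥) : tsc G ≠ ⊤ := by
  intro ht
  have hGp : IsPGroup p G := IsPGroup.of_card hG
  have h1 : Lc G 2 ≤ Lc G 3 := by
    rw [show Lc G 2 = ⁅Lc G 1, (⊤ : Subgroup G)⁆ from rfl, Subgroup.commutator_le]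
    intro c hc g _
    have : g ∈ tsc G := by rw [ht]; trivial
    exact this c hc
  exact (lt_of_ne_bot hGp (ne_bot_of_le h (show 2 ≤ n - 2 by omega))).not_ge h1

theorem tsc_index_le (hG : Nat.card G = p ^ n) (hn : 4 ≤ n) (h : Lc G (n - 2) ≠ ⊥) : (tsc G).index ≤ p := by
  have hGp : IsPGroup p G := IsPGroup.of_card hG
  have hlt : Lc G 2 < Lc G 1 := lt_of_ne_bot hGp (ne_bot_of_le h (show 1 ≤ n - 2 by omega))
  obtain ⟨c₀, hc₀, hc₀'⟩ := SetLike.exists_of_lt hlt
  -- `L 1 ≤ ⟨c₀⟩ L 2`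
  have h2 : Lc G 1 ≤ zpowers c₀ ⊔ Lc G 2 := by
    have hlt' : Lc G 2 < zpowers c₀ ⊔ Lc G 2 := by
      apply lt_of_le_of_ne le_sup_right
      intro he
      apply hc₀'
      rw [he]
      exact (le_sup_left : zpowers c₀ ≤ _) (Subgroup.mem_zpowers c₀)
    have hle : zpowers c₀ ⊔ Lc G 2 ≤ Lc G 1 := by
      apply sup_le
      · rw [Subgroup.zpowers_le]; exact hc₀
      · exact Subgroup.lowerCentralSeries_antitone _ (by norm_num)
    obtain ⟨b, hb⟩ := IsPGroup.iff_card.1 (hGp.to_subgroup (zpowers c₀ ⊔ Lc G 2 : Subgroup G))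
    have h3 : Nat.card (Lc G 2) < Nat.card (zpowers c₀ ⊔ Lc G 2 : Subgroup G) := by
      apply lt_of_le_of_ne (Subgroup.card_le_of_le hlt'.le)
      intro h
      exact hlt'.ne (Subgroup.eq_of_le_of_card_ge hlt'.le h.ge)
    have h4 := card_eq hG (by omega) h 2 (by omega) (by omega)
    have h5 := card_eq hG (by omega) h 1 (by omega) (by omega)
    rw [hb, h4] at h3
    have h6 := (Nat.pow_lt_pow_iff_right hpp.out.one_lt).mp h3
    have h7 : zpowers c₀ ⊔ Lc G 2 = Lc G 1 := by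
      apply Subgroup.eq_of_le_of_card_ge hle
      rw [hb, h5]
      exact Nat.pow_le_pow_right hpp.out.pos (by omega)
    exact h7.ge
  set π := QuotientGroup.mk' (Lc G 3) with hπ
  have hker : ∀ g, π g = 1 ↔ g ∈ Lc G 3 := fun g => QuotientGroup.eq_one_iff g
  let f : G →* G ⧸ Lc G 3 :=
    { toFun := fun v => ⁅π c₀, π v⁆
      map_one' := by rw [map_one]; exact commutatorElement_one_right _
      map_mul' := fun u v => by
        show ⁅π c₀, π (u * v)⁆ = ⁅π c₀, π u⁆ * ⁅π c₀, π v⁆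
        rw [map_mul, comm_mul_right (brac c₀ hc₀)] }
  have hf : ∀ g, f g = π ⁅c₀, g⁆ := fun g => (map_commutatorElement π c₀ g).symm
  have h3 : f.ker ≤ tsc G := by
    intro g hg c hc
    rw [MonoidHom.mem_ker, hf] at hg
    obtain ⟨_, ⟨j, rfl⟩, b, hb, rfl⟩ := Subgroup.mem_sup_of_normal_right.mp (h2 hc)
    rw [← hker, map_commutatorElement, map_mul]
    rw [map_commutatorElement, commutatorElement_eq_one_iff_mul_comm] at hg
    rw [commutatorElement_eq_one_iff_mul_comm]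
    have h4 : Commute (π b) (π g) := (Subgroup.mem_center_iff.mp (center_mod 2 b hb) (π g)).symm
    have h5 : Commute (π (c₀ ^ j)) (π g) := by
      rw [map_zpow]
      exact (show Commute (π c₀) (π g) from hg).zpow_left j
    exact h5.mul_left h4
  have h4 : f.ker.index ≤ p := by
    rw [Subgroup.index_ker]
    have h5 : f.range ≤ (Lc G 2).map π := by
      rintro _ ⟨g, rfl⟩
      rw [hf]
      exact ⟨_, Subgroup.commutator_mem_commutator hc₀ (Subgroup.mem_top g), rfl⟩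
    have h6 : Nat.card ((Lc G 2).map π) = p := by
      have h7 : (π.ker).relIndex (Lc G 2) = Nat.card ((Lc G 2).map π) := Subgroup.relIndex_ker _ π
      rw [← h7, QuotientGroup.ker_mk']
      have h32 : Lc G 3 ≤ Lc G 2 := Subgroup.lowerCentralSeries_antitone _ (by norm_num)
      have h8 := ((Lc G 3).subgroupOf (Lc G 2)).card_mul_index
      rw [Nat.card_congr (Subgroup.subgroupOfEquivOfLe h32).toEquiv,
        card_eq hG (by omega) h 2 (by omega) (by omega), card_eq hG (by omega) h 3 (by omega) (by omega)] at h8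
      have e : n - 1 - 2 = (n - 1 - 3) + 1 := by omega
      rw [e, pow_succ] at h8
      exact Nat.eq_of_mul_eq_mul_left (pow_pos hpp.out.pos _) h8
    rw [← h6]
    exact Subgroup.card_le_of_le h5
  exact (Nat.le_of_dvd (Nat.pos_of_ne_zero Subgroup.index_ne_zero_of_finite) (Subgroup.index_dvd_of_le h3)).trans h4

theorem tsc_index (hG : Nat.card G = p ^ n) (hn : 4 ≤ n) (h : Lc G (n - 2) ≠ ⊥) : (tsc G).index = p := by
  have hGp : IsPGroup p G := IsPGroup.of_card hG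
  obtain ⟨a, ha⟩ := hGp.index (tsc G)
  have h1 := tsc_index_le hG hn h
  have h2 : (tsc G).index ≠ 1 := fun h' => tsc_ne_top hG hn h (Subgroup.index_eq_one.mp h')
  rw [ha] at h1 h2 ⊢
  have h3 : a ≤ 1 := by
    rw [← Nat.pow_le_pow_iff_right hpp.out.one_lt, pow_one]; exact h1
  have h4 : a ≠ 0 := by rintro rfl; exact h2 (pow_zero p)
  have : a = 1 := by omega
  rw [this, pow_one]

end twostep

end Cfsg.Agent.H271.RankTwoInv

namespace Cfsg.Agent.H271.RankTwoSit

open Cfsg Subgroup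
open Cfsg.Agent.H271.RankTwoTr Cfsg.Agent.H271.RankTwoMax Cfsg.Agent.H271.RankTwoInv

variable {N : Type*} [Group N] [Finite N] {p : ℕ} [hpp : Fact p.Prime] {P K : Subgroup N} {ξ : N}

theorem lc_one_map (P : Subgroup N) : (Lc P 1).map P.subtype = ⁅P, P⁆ := by
  rw [Subgroup.top_subtype_lowerCentralSeries]
  rfl

/-- groups of order `p³` -/
theorem Sit.cube (h : Sit p P K ξ) (hp2 : p ≠ 2) (hc : Nat.card P = p ^ 3) :
    IsExtraspecial p P ∧ Nat.card P = p ^ 3 ∧ ∀ y ∈ P, y ^ p = 1 := by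
  have hne : ∃ x y : P, x * y ≠ y * x := by
    by_contra hcon
    push Not at hcon
    apply h.not_comm
    rw [Subgroup.commutator_eq_bot_iff_le_centralizer]
    intro a ha
    rw [Subgroup.mem_centralizer_iff]
    intro b hb
    exact congrArg Subtype.val (hcon ⟨b, hb⟩ ⟨a, ha⟩)
  refine ⟨Cfsg.Agent.J2Type.ExtCube.isExtraspecial_of_card_cube hc hne, hc, ?_⟩
  intro y hy
  by_contra hyp
  apply h.not_metacyclic hp2
  set y' : P := ⟨y, hy⟩ with hy'
  have hyp' : y' ^ p ≠ 1 := fun h => hyp (congrArg Subtype.val h)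
  have hPp : IsPGroup p P := h.hPp
  obtain ⟨a, ha⟩ := IsPGroup.iff_card.1 (hPp.to_subgroup (zpowers y'))
  have ha2 : 2 ≤ a := by
    by_contra hcon
    push Not at hcon
    apply hyp'
    rw [← orderOf_dvd_iff_pow_eq_one, ← Nat.card_zpowers, ha]
    exact (pow_dvd_pow p (show a ≤ 1 by omega)).trans (by rw [pow_one])
  have hidx := (zpowers y').card_mul_index
  obtain ⟨b, hb⟩ := hPp.index (zpowers y')
  rw [ha, hb, hc, ← pow_add] at hidx
  have hab := Nat.pow_right_injective hpp.out.two_le hidx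
  have hb1 : (zpowers y').index = 1 ∨ (zpowers y').index = p := by
    rw [hb]
    have : b = 0 ∨ b = 1 := by omega
    rcases this with h0 | h0
    · left; rw [h0, pow_zero]
    · right; rw [h0, pow_one]
  rcases hb1 with h0 | h0
  · have ht := Subgroup.index_eq_one.mp h0
    refine ⟨⊤, inferInstance, ?_, ?_⟩
    · rw [← ht]; infer_instance
    · have : Subsingleton (P ⧸ (⊤ : Subgroup P)) := QuotientGroup.subsingleton_quotient_top
      exact isCyclic_of_subsingleton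
  · have hn : (zpowers y').Normal := by
      apply Subgroup.normal_of_index_eq_minFac_card
      rw [h0, hc, Nat.Prime.pow_minFac hpp.out (by norm_num)]
    exact ⟨zpowers y', hn, inferInstance, isCyclic_of_prime_card (p := p) h0⟩

/-- groups of maximal class, `p = 3` -/
theorem Sit.maximal [Fact (Nat.Prime 3)] (h : Sit 3 P K ξ) (n : ℕ) (hn2 : 2 ≤ n) (hc : Nat.card P = 3 ^ n) (hL : Lc P (n - 2) ≠ ⊥) :
    n = 3 ∨ ∃ k : ℕ, 2 ≤ k ∧ Nat.card P = 3 ^ (2 * k + 1) ∧
      ∃ _ : Group.IsNilpotent P, Group.nilpotencyClass P = 2 * k := by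
  have hPn := h.hPn
  by_cases hn : n ≤ 3
  · left
    by_contra h3
    have hn' : n = 2 := by omega
    rw [hn'] at hc
    have := IsPGroup.isMulCommutative_of_card_eq_prime_sq hc
    apply h.not_comm
    rw [Subgroup.commutator_eq_bot_iff_le_centralizer]
    intro a ha
    rw [Subgroup.mem_centralizer_iff]
    intro b hb
    exact congrArg Subtype.val (this.is_comm.comm ⟨b, hb⟩ ⟨a, ha⟩)
  push Not at hn
  right
  -- the two-step centraliser
  set M : Subgroup N := (tsc P).map P.subtype with hM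
  have hMn : M.Normal := inferInstance
  have hDn : (⁅P, P⁆ : Subgroup N).Normal := inferInstance
  have hMP : M ≤ P := Subgroup.map_subtype_le _
  have hDM : ⁅P, P⁆ ≤ M := by
    rw [← lc_one_map]
    exact Subgroup.map_mono lc_one_le_tsc
  have hcM : Nat.card M = Nat.card (tsc P) := Subgroup.card_map_of_injective P.subtype_injective
  have hcD : Nat.card (⁅P, P⁆ : Subgroup N) = Nat.card (Lc P 1) := by
    rw [← lc_one_map]
    exact Subgroup.card_map_of_injective P.subtype_injective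
  have hPM : Nat.card P = 3 * Nat.card M := by
    have h1 := (tsc P).card_mul_index
    rw [tsc_index hc (by omega) hL] at h1
    rw [hcM, ← h1, mul_comm]
  have hMD : Nat.card M = 3 * Nat.card (⁅P, P⁆ : Subgroup N) := by
    have h1 := card_eq hc (by omega) hL 1 (by omega) (by omega)
    rw [hcD, h1]
    have h2 : 3 * Nat.card M = 3 * (3 * 3 ^ (n - 1 - 1)) := by
      rw [← hPM, hc, ← mul_assoc]
      have : n = (n - 1 - 1) + 2 := by omega
      conv_lhs => rw [this, pow_add]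
      ring
    exact Nat.eq_of_mul_eq_mul_left (by norm_num) h2
  -- `k₁`
  obtain ⟨k₁, hk₁, hk₁'⟩ : ∃ k ∈ K, ¬ Fx P M k := by
    by_contra hcon
    push Not at hcon
    have h1 : ⁅P, K⁆ ≤ M := by
      rw [Subgroup.commutator_comm, Subgroup.commutator_le]
      intro k hk u hu
      rw [commutatorElement_def]
      exact hcon k hk u hu
    rw [h.hPK] at h1
    have h2 := Subgroup.card_le_of_le h1
    have h3 : 0 < Nat.card M := Nat.card_pos
    omega
  obtain ⟨k₂, hk₂, hk₂'⟩ : ∃ k ∈ K, ¬ Fx M ⁅P, P⁆ k := by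
    by_contra hcon
    push Not at hcon
    have h1 : M ≤ ⁅P, P⁆ := by
      intro m hm
      apply h.mem_of_fixed (hMP hm)
      intro k hk
      exact hcon k hk m hm
    have h2 := Subgroup.card_le_of_le h1
    have h3 : 0 < Nat.card (⁅P, P⁆ : Subgroup N) := Nat.card_pos
    omega
  have h1 := (dich P M hMP hPM k₁).resolve_left hk₁'
  have h2 := (dich M ⁅P, P⁆ hDM hMD k₂).resolve_left hk₂'
  obtain ⟨k, hk, hk1, hk2⟩ : ∃ k ∈ K, Iv P M k ∧ Iv M ⁅P, P⁆ k := by
    rcases dich M ⁅P, P⁆ hDM hMD k₁ with h3 | h3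
    · rcases dich P M hMP hPM k₂ with h4 | h4
      · exact ⟨k₁ * k₂, K.mul_mem hk₁ hk₂, h1.mul_fx h4, h3.mul_iv h2⟩
      · exact ⟨k₂, hk₂, h4, h2⟩
    · exact ⟨k₁, hk₁, h1, h3⟩
  have hinv : Iv P ⁅P, P⁆ k := Iv.trans (p := 3) (by norm_num) h.hPp hMP le_rfl h.hcop hk hk1 hk2
  have hodd : Odd n := by
    have hξ' : (⟨ξ, h.hξP⟩ : P) ∈ center P := by
      rw [Subgroup.mem_center_iff]
      intro g
      exact Subtype.ext (h.hξc g)
    have hmem : ∀ u : P, u ∈ Lc P 1 ↔ (u : N) ∈ (⁅P, P⁆ : Subgroup N) := by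
      intro u
      rw [← lc_one_map]
      constructor
      · intro hu; exact ⟨u, hu, rfl⟩
      · rintro ⟨v, hv, e⟩
        have : v = u := Subtype.ext e
        rwa [this] at hv
    apply odd_of_inversion (p := 3) (by norm_num) hc (by omega) hL hξ' ((hmem _).mpr h.mem_commutator)
      (fun e => h.ne_one (congrArg Subtype.val e)) (MulAut.conjNormal (H := P) k).toMonoidHom
    · intro g
      rw [hmem]
      exact hinv g g.2
    · apply Subtype.ext
      show k * ξ * k⁻¹ = ξ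
      rw [h.hξc k, mul_inv_cancel_right]
  obtain ⟨k', hk'⟩ := hodd
  refine ⟨k', by omega, by rw [hc, hk'], ?_⟩
  obtain ⟨hnil, he⟩ := nilpotencyClass_eq hc (by omega) hL
  exact ⟨hnil, by omega⟩

end Cfsg.Agent.H271.RankTwoSit
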