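import Mathlib
import Cfsg.Agent.H271.RankTwoInv
import Cfsg.Agent.S3888

/-!
# The Sylow `p`-subgroups of rank two of a perfect group, normalizer centralising an element of order `p`
-/

set_option autoImplicit false

open scoped commutatorElement Pointwise

namespace Cfsg.Agent.H271.RankTwoFin

open Cfsg Subgroup
open Cfsg.Agent.H271.RankTwoTr Cfsg.Agent.H271.RankTwoMax Cfsg.Agent.H271.RankTwoSit Cfsg.Agent.H271.RankTwoC Cfsg.Agent.H271.RankTwoG

/-- the two possibilities -/
theorem concl {N : Type*} [Group N] [Finite N] {p : ℕ} [hpp : Fact p.Prime] {P K : Subgroup N} {ξ : N} (h : Sit p P K ξ) (hp2 : p ≠ 2) :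
    (Nat.card P = p ^ 3) ∨
    (p = 3 ∧ ∃ k : ℕ, 2 ≤ k ∧ Nat.card P = 3 ^ (2 * k + 1) ∧
      Lc P (2 * k - 1) ≠ ⊥) := by
  obtain ⟨n, hn⟩ := IsPGroup.iff_card.1 h.hPp
  rcases Cfsg.Agent.S3888.result hp2 n hn h.hrk with hc | ⟨hm, x, y, z, h1, h2, h3, h4, h5, h6, h7⟩ |
      ⟨hm, s, x, y, z, hs, h1, h2, h3, h4, h5, h6, h7⟩ | ⟨h1, h2, h3⟩
  · exact absurd hc (fun hc => h.not_metacyclic hp2 hc)
  · left
    have hD : DataC p n P x y z := ⟨hm, hn, h1, h2, h3, h4, h5, h6, h7⟩
    rw [hn, h.caseC hp2 n x y z hD]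
  · exfalso
    have hD : DataG p n s P x y z := ⟨hm, hn, hs, h1, h2, h3, h4, h5, h6, h7⟩
    exact h.caseG hp2 n s x y z hD
  · subst h1
    have : Fact (Nat.Prime 3) := ⟨Nat.prime_three⟩
    rcases h.maximal n h2 hn h3 with h4 | ⟨k, hk, hk2, _, hk4⟩
    · left; rw [hn, h4]
    · right
      refine ⟨rfl, k, hk, hk2, ?_⟩
      intro hb
      have := Subgroup.lowerCentralSeries_eq_bot_iff_nilpotencyClass_le.mp hb
      omega

theorem eq_commutator' {G : Type*} [Group G] [Finite G] (H K : Subgroup G) (hHs : Group.IsSolvable H)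
    (hH : H.Normal) (hc : Subgroup.IsComplement' H K) (hle : H ≤ commutator G) :
    H = ⁅H, K⁆ := by
  have hM : (⁅H, K⁆ ⊔ K).Normal := Cfsg.Agent.S1459.commutator_sup_normal H K hc.sup_eq_top
  have htop : ⁅H, K⁆ ⊔ K = ⊤ := by
    by_contra hne
    have hQn : Nontrivial (G ⧸ (⁅H, K⁆ ⊔ K)) := by
      rw [← not_subsingleton_iff_nontrivial]
      intro hs
      exact hne (QuotientGroup.subgroup_eq_top_of_subsingleton _ hs)
    have hrep : ∀ q : G ⧸ (⁅H, K⁆ ⊔ K), ∃ h ∈ H, QuotientGroup.mk' (⁅H, K⁆ ⊔ K) h = q := by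
      intro q
      obtain ⟨g, rfl⟩ := QuotientGroup.mk'_surjective _ q
      have hg : g ∈ (H : Set G) * (K : Set G) := by
        rw [Subgroup.IsComplement.mul_eq hc]; trivial
      obtain ⟨h, hh, k, hk, rfl⟩ := hg
      refine ⟨h, hh, ?_⟩
      rw [map_mul]
      have : QuotientGroup.mk' (⁅H, K⁆ ⊔ K) k = 1 := by
        rw [QuotientGroup.mk'_apply, QuotientGroup.eq_one_iff]
        exact Subgroup.mem_sup_right hk
      rw [this, mul_one]
    have hsol : Group.IsSolvable (G ⧸ (⁅H, K⁆ ⊔ K)) := by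
      apply Group.isSolvable_of_surjective (f := (QuotientGroup.mk' (⁅H, K⁆ ⊔ K)).comp H.subtype)
      intro q
      obtain ⟨h, hh, e⟩ := hrep q
      exact ⟨⟨h, hh⟩, e⟩
    have hlt := Group.IsSolvable.commutator_lt_top_of_nontrivial (G ⧸ (⁅H, K⁆ ⊔ K))
    apply hlt.ne
    rw [eq_top_iff]
    intro q _
    obtain ⟨h, hh, rfl⟩ := hrep q
    have hh' : h ∈ commutator G := hle hh
    have := Subgroup.mem_map_of_mem (QuotientGroup.mk' (⁅H, K⁆ ⊔ K)) hh'
    rw [map_commutator_eq] at this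
    rw [_root_.commutator_def]
    exact Subgroup.commutator_mono le_top le_top this
  have hN : (⁅H, K⁆).Normal := by
    rw [← Subgroup.normalizer_eq_top_iff, eq_top_iff, ← hc.sup_eq_top]
    exact sup_le (Subgroup.normalizer_commutator_ge_left H K)
      (Subgroup.normalizer_commutator_ge_right H K)
  apply le_antisymm _ (Subgroup.commutator_le_left H K)
  intro h hh
  have h1 : h ∈ ⁅H, K⁆ ⊔ K := by rw [htop]; trivial
  rw [Subgroup.mem_sup_of_normal_left] at h1
  obtain ⟨n, hn, k, hk, rfl⟩ := h1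
  have hk' : k ∈ H := by
    have := mul_mem (inv_mem (Subgroup.commutator_le_left H K hn)) hh
    simpa using this
  have : k = 1 := by
    have := hc.disjoint.le_bot ⟨hk', hk⟩
    simpa using this
  rw [this, mul_one]
  exact hn

theorem pRankLE_of_mulEquiv {A B : Type*} [Group A] [Group B] (e : A ≃* B) {p k : ℕ} (h : PRankLE p k A) : PRankLE p k B := by
  intro E hE hEp
  have h1 := h (E.map e.symm.toMonoidHom) ⟨⟨by
      rintro ⟨_, a, ha, rfl⟩ ⟨_, b, hb, rfl⟩
      apply Subtype.ext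
      show e.symm a * e.symm b = e.symm b * e.symm a
      rw [← map_mul, ← map_mul]
      have := hE.is_comm.comm ⟨a, ha⟩ ⟨b, hb⟩
      rw [show a * b = b * a from congrArg Subtype.val this]⟩⟩ (by
      rintro _ ⟨a, ha, rfl⟩
      show (e.symm a) ^ p = 1
      rw [← map_pow, hEp a ha, map_one])
  rwa [Subgroup.card_map_of_injective e.symm.injective] at h1

theorem lc_ne_bot_of_mulEquiv {A B : Type*} [Group A] [Group B] (e : A ≃* B) {i : ℕ} (h : Lc A i ≠ ⊥) : Lc B i ≠ ⊥ := by
  intro hb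
  apply h
  have h1 : (Lc A i).map e.toMonoidHom = Lc B i := by
    rw [Subgroup.map_lowerCentralSeries, Subgroup.map_top_of_surjective _ e.surjective]
  rw [hb] at h1
  exact (Subgroup.map_eq_bot_iff_of_injective _ e.injective).mp h1

/-- **Main theorem** -/
theorem main {L : Type*} [Group L] [Finite L] {p : ℕ} [hpp : Fact p.Prime] (hp2 : p ≠ 2) (hperf : commutator L = ⊤)
    (P : Sylow p L) (hrk : PRankLE p 2 (P : Subgroup L)) (ξ : L) (hξP : ξ ∈ P) (hξ : orderOf ξ = p)
    (hξc : ∀ n ∈ normalizer ((P : Subgroup L) : Set L), n * ξ = ξ * n) :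
    (IsExtraspecial p (P : Subgroup L) ∧ Nat.card (P : Subgroup L) = p ^ 3 ∧ ∀ y ∈ (P : Subgroup L), y ^ p = 1) ∨
    (p = 3 ∧ ∃ k : ℕ, 2 ≤ k ∧ Nat.card (P : Subgroup L) = 3 ^ (2 * k + 1) ∧
            ∃ _ : Group.IsNilpotent ↥(P : Subgroup L), Group.nilpotencyClass ↥(P : Subgroup L) = 2 * k) := by
  set N : Subgroup L := normalizer ((P : Subgroup L) : Set L) with hN
  have hPN : (P : Subgroup L) ≤ N := Subgroup.le_normalizer
  set P' : Subgroup N := (P : Subgroup L).subgroupOf N with hP'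
  have hP'n : P'.Normal := Subgroup.normal_in_normalizer
  let e : P' ≃* (P : Subgroup L) := Subgroup.subgroupOfEquivOfLe hPN
  have hP'p : IsPGroup p P' := P.isPGroup'.of_equiv e.symm
  have hcardP : Nat.card P' = Nat.card (P : Subgroup L) := Nat.card_congr e.toEquiv
  have hidx : ¬ p ∣ P'.index := by
    have h1 : P'.index ∣ (P : Subgroup L).index := Subgroup.relIndex_dvd_index_of_le hPN
    intro h2
    exact P.not_dvd_index (h2.trans h1)
  have hcopI : (P'.index).Coprime p := ((Nat.Prime.coprime_iff_not_dvd hpp.out).mpr hidx).symm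
  obtain ⟨n, hn⟩ := IsPGroup.iff_card.1 hP'p
  obtain ⟨K, hK⟩ := Subgroup.exists_right_complement'_of_coprime (N := P') (by
    rw [hn]; exact (Nat.Coprime.pow_right n hcopI).symm)
  have hKcard : Nat.card K = P'.index := hK.card_right
  -- `P ≤ N'`
  have hle : P' ≤ commutator N := by
    have h1 := RankTwoMain.control hp2 P hrk
    rw [hperf, inf_top_eq] at h1
    intro x hx
    have h2 : (x : L) ∈ (P : Subgroup L) := hx
    rw [h1] at h2
    have h3 := h2.2
    rw [← Subgroup.map_subtype_commutator] at h3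
    obtain ⟨y, hy, e⟩ := h3
    have : y = x := Subtype.ext e
    rwa [this] at hy
  have hsol : Group.IsSolvable P' := by
    have := hP'p.isNilpotent
    infer_instance
  have hSit : Sit p P' K ⟨ξ, hPN hξP⟩ :=
    { hPn := hP'n
      hPp := hP'p
      hcop := by rw [hKcard]; exact hcopI
      hPK := (eq_commutator' P' K hsol hP'n hK hle).symm
      hξP := hξP
      hξ := by rw [Subgroup.orderOf_mk]; exact hξ
      hξc := fun g => Subtype.ext (hξc g g.2)
      hrk := pRankLE_of_mulEquiv e.symm hrk }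
  rcases concl hSit hp2 with h1 | ⟨h1, k, hk, hk2, hk3⟩
  · left
    obtain ⟨-, h3, h4⟩ := hSit.cube hp2 h1
    rw [hcardP] at h3
    have hexp : ∀ y ∈ (P : Subgroup L), y ^ p = 1 := by
      intro y hy
      have := h4 ⟨y, hPN hy⟩ hy
      exact congrArg Subtype.val this
    refine ⟨?_, h3, hexp⟩
    apply Cfsg.Agent.J2Type.ExtCube.isExtraspecial_of_card_cube h3
    by_contra hcon
    push Not at hcon
    apply hSit.not_comm
    rw [Subgroup.commutator_eq_bot_iff_le_centralizer]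
    intro a ha
    rw [Subgroup.mem_centralizer_iff]
    intro b hb
    apply Subtype.ext
    have h7 := congrArg (fun w : (P : Subgroup L) => (w : L)) (hcon ⟨((b : N) : L), hb⟩ ⟨((a : N) : L), ha⟩)
    exact h7
  · right
    subst h1
    refine ⟨rfl, k, hk, by rw [← hcardP]; exact hk2, ?_⟩
    have h5 := lc_ne_bot_of_mulEquiv e hk3
    have e1 : 2 * k - 1 = (2 * k + 1) - 2 := by omega
    rw [e1] at h5
    obtain ⟨hnil, h6⟩ := nilpotencyClass_eq (p := 3) (n := 2 * k + 1) (by rw [← hcardP]; exact hk2) (by omega) h5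
    exact ⟨hnil, by omega⟩

end Cfsg.Agent.H271.RankTwoFin
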