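import Mathlib
import Cfsg.Agent.OddOrderLocal.Thm34

/-!
Counting for `K` of class two and `x` of prime order `r` acting on an irreducible `K⟨x⟩`-module with `C_V(x) = 0`:
`|K / Z(K)| = (dim V)²` and `dim V = r - 1` if `x` acts without fixed points on `K / Z(K)`
(adapted from `Cfsg.Agent.OddOrderLocal.Thm34`).
-/

set_option autoImplicit false

namespace Cfsg.Agent.H271.ShultCount

open Module
open Cfsg.Agent.OddOrderLocal.Thm34Base Cfsg.Agent.OddOrderLocal.Thm34Weights

attribute [local instance] wtAction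

theorem arith' {N M d o r : ℕ} (hr : r.Prime) (hr2 : r ≠ 2) (h1 : N ^ 2 = M) (h2 : d ≤ o)
    (h3 : r * o = M + (r - 1)) (h4 : N ^ 2 ≤ (r - 1) * d) (hM : M ≠ 1) : N + 1 = r := by
  have hr3 : 3 ≤ r := by
    rcases hr.two_le.lt_or_eq with h | h
    · exact h
    · exact absurd h.symm hr2
  obtain ⟨s, rfl⟩ : ∃ s, r = s + 1 := ⟨r - 1, by omega⟩
  simp only [Nat.add_sub_cancel] at *
  have hN1 : N ≠ 1 := by rintro rfl; apply hM; rw [← h1]; norm_num
  have hN0 : N ≠ 0 := by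
    rintro rfl
    have h0 : M = 0 := by rw [← h1]; norm_num
    rw [h0, zero_add] at h3
    have h5 : (s + 1) ∣ s := ⟨o, h3.symm⟩
    have := Nat.le_of_dvd (by omega) h5
    omega
  have hle : N ^ 2 ≤ s ^ 2 := by
    have h5 : (s + 1) * N ^ 2 ≤ s * (M + s) := by
      calc (s + 1) * N ^ 2 ≤ (s + 1) * (s * d) := Nat.mul_le_mul_left _ h4
        _ = s * ((s + 1) * d) := by ring
        _ ≤ s * ((s + 1) * o) := Nat.mul_le_mul_left _ (Nat.mul_le_mul_left _ h2)
        _ = s * (M + s) := by rw [h3]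
    rw [← h1] at h5
    nlinarith
  have hNs : N ≤ s := by
    by_contra hc
    push Not at hc
    have := Nat.pow_lt_pow_left hc two_ne_zero
    omega
  have hdvd : (s + 1) ∣ (N - 1) * (N + 1) := by
    have h6 : (N - 1) * (N + 1) + 1 = N ^ 2 := by
      obtain ⟨n, rfl⟩ : ∃ n, N = n + 1 := ⟨N - 1, by omega⟩
      simp only [Nat.add_sub_cancel]
      ring
    have h7 : (s + 1) * o = ((N - 1) * (N + 1)) + (s + 1) := by
      rw [h3, ← h1, ← h6]; ring
    have h8 : (s + 1) ∣ (N - 1) * (N + 1) + (s + 1) := ⟨o, by rw [h7]⟩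
    exact (Nat.dvd_add_left (dvd_refl _)).1 h8
  rcases (Nat.Prime.dvd_mul hr).1 hdvd with h | h
  · have := Nat.le_of_dvd (by omega) h
    omega
  · have h9 := Nat.le_of_dvd (by omega) h
    omega

section AlgClosed

variable {F : Type*} [Field F] {G : Type*} [Group G] {V : Type*} [AddCommGroup V] [Module F V]
variable [IsAlgClosed F] [FiniteDimensional F V]

theorem nonabelian_count [Finite G] (ρ : Representation F G V) [hρ : ρ.IsIrreducible]
    (K Z : Subgroup G) (x : G) (hZK : Z ≤ K) (hZc : ∀ z ∈ Z, ∀ k ∈ K, z * k = k * z)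
    (hZmax : ∀ k ∈ K, (∀ k' ∈ K, k * k' = k' * k) → k ∈ Z)
    (hKK : ∀ k ∈ K, ∀ k' ∈ K, k * k' * k⁻¹ * k'⁻¹ ∈ Z)
    (hZx : ∀ z ∈ Z, x * z = z * x) (hxK : ∀ k ∈ K, x * k * x⁻¹ ∈ K)
    (hxK' : ∀ k ∈ K, x⁻¹ * k * x ∈ K)
    (hG : K ⊔ Subgroup.zpowers x = ⊤) {r : ℕ} (hr : r.Prime) (hrF : (r : F) ≠ 0)
    (hKF : (Nat.card K : F) ≠ 0) (hxr : x ^ r = 1) (hfaith : ∀ z ∈ Z, ρ z = 1 → z = 1)
    (hfix : ∀ v, ρ x v = v → v = 0) :
    (finrank F V) ^ 2 * Nat.card Z = Nat.card K ∧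
      (r ≠ 2 → (∀ k ∈ K, k⁻¹ * (x * k * x⁻¹) ∈ Z → k ∈ Z) → Z ≠ K → finrank F V + 1 = r) := by
  classical
  have hVn := nontrivial_of_irr ρ
  have := Fintype.ofFinite G
  have hinv : ∀ g : G, ρ g * ρ g⁻¹ = 1 := by intro g; rw [← map_mul, mul_inv_cancel, map_one]
  have hinv' : ∀ g : G, ρ g⁻¹ * ρ g = 1 := by intro g; rw [← map_mul, inv_mul_cancel, map_one]
  obtain ⟨v₀, hv₀⟩ := exists_ne (0 : V)
  obtain ⟨f₀, hf₀⟩ : ∃ f₀ : V →ₗ[F] F, f₀ v₀ = 1 := Module.Projective.exists_dual_eq_one F hv₀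
  let avg : End F V →ₗ[F] End F V :=
    (Nat.card K : F)⁻¹ • ∑ k : K, (LinearMap.mulLeft F (ρ k) ∘ₗ LinearMap.mulRight F (ρ (k : G)⁻¹))
  have havg : ∀ T, avg T = (Nat.card K : F)⁻¹ • ∑ k : K, ρ k * T * ρ (k : G)⁻¹ := by
    intro T
    show ((Nat.card K : F)⁻¹ • ∑ k : K, (LinearMap.mulLeft F (ρ k) ∘ₗ LinearMap.mulRight F (ρ (k : G)⁻¹))) T = _
    rw [LinearMap.smul_apply, LinearMap.sum_apply]
    simp only [LinearMap.comp_apply, LinearMap.mulLeft_apply, LinearMap.mulRight_apply, mul_assoc]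
  have havgK : ∀ T, ∀ k ∈ K, avg T * ρ k = ρ k * avg T := by
    intro T k hk
    rw [havg, smul_mul_assoc, mul_smul_comm, Finset.sum_mul, Finset.mul_sum]
    congr 1
    apply Fintype.sum_equiv (Equiv.mulLeft (⟨k, hk⟩⁻¹ : K))
    intro k'
    simp only [Equiv.coe_mulLeft, Subgroup.coe_mul, Subgroup.coe_inv, mul_inv_rev, inv_inv, map_mul]
    simp only [← mul_assoc, hinv, one_mul]
  have hscal : ∀ T, ∃ a : F, avg T = a • 1 := fun T =>
    scalar_of_comm ρ K x hG hxK' hr hrF hxr hfix (avg T) (havgK T)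
  let c : End F V →ₗ[F] F := f₀ ∘ₗ (LinearMap.applyₗ v₀) ∘ₗ avg
  have hc : ∀ T, avg T = c T • 1 := by
    intro T
    obtain ⟨a, ha⟩ := hscal T
    have : c T = a := by
      show f₀ ((avg T) v₀) = a
      rw [ha, LinearMap.smul_apply, End.one_apply, map_smul, hf₀, smul_eq_mul, mul_one]
    rw [this, ha]
  have hc' : ∀ T (a : F), avg T = a • 1 → c T = a := by
    intro T a ha
    show f₀ ((avg T) v₀) = a
    rw [ha, LinearMap.smul_apply, End.one_apply, map_smul, hf₀, smul_eq_mul, mul_one]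
  have hcard : ∀ T : End F V, (Nat.card K : F)⁻¹ • ∑ _k : K, T = T := by
    intro T
    rw [Finset.sum_const, Finset.card_univ, ← Nat.card_eq_fintype_card, ← Nat.cast_smul_eq_nsmul F,
      smul_smul, inv_mul_cancel₀ hKF, one_smul]
  have hc1 : c 1 = 1 := by
    apply hc'
    rw [havg, one_smul]
    simp only [mul_one, hinv]
    exact hcard 1
  -- scalars from Z
  have hZscal : ∀ z ∈ Z, ρ z = c (ρ z) • 1 := by
    intro z hz
    rw [← hc, havg]
    have : ∀ k : K, ρ k * ρ z * ρ (k : G)⁻¹ = ρ z := by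
      intro k
      rw [← map_mul, ← hZc z hz k k.2, map_mul, mul_assoc, hinv, mul_one]
    simp only [this]
    exact (hcard _).symm
  have hc0 : ∀ T T' : End F V, ∀ z ∈ Z, c (ρ z * T) = c (ρ z) * c T := by
    intro T T' z hz
    rw [hZscal z hz, smul_mul_assoc, one_mul, map_smul, smul_eq_mul]
    rw [map_smul, hc1, smul_eq_mul, mul_one]
  -- conj by K
  have hc2 : ∀ k ∈ K, ∀ T, c (ρ k * T * ρ k⁻¹) = c T := by
    intro k hk T
    apply hc'
    rw [← hc, havg, havg]
    congr 1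
    apply Fintype.sum_equiv (Equiv.mulRight (⟨k, hk⟩ : K))
    intro k'
    simp only [Equiv.coe_mulRight, Subgroup.coe_mul, mul_inv_rev, map_mul, mul_assoc]
  have hc3 : ∀ T, c (ρ x * T * ρ x⁻¹) = c T := by
    intro T
    apply hc'
    have : c T • (1 : End F V) = ρ x * (c T • 1) * ρ x⁻¹ := by
      rw [mul_smul_comm, mul_one, smul_mul_assoc, hinv]
    rw [this, ← hc, havg, havg, mul_smul_comm, smul_mul_assoc, Finset.mul_sum, Finset.sum_mul]
    congr 1
    apply Fintype.sum_equiv ⟨fun k : K => ⟨x⁻¹ * k * x, hxK' k k.2⟩, fun k : K => ⟨x * k * x⁻¹, hxK k k.2⟩,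
      fun k => Subtype.ext (by simp only; group), fun k => Subtype.ext (by simp only; group)⟩
    intro k
    simp only [Equiv.coe_fn_mk, mul_inv_rev, inv_inv, map_mul]
    simp only [← mul_assoc, hinv, one_mul]
    simp only [mul_assoc, hinv, mul_one]
  have hc4 : ∀ s ∈ K, s ∉ Z → c (ρ s) = 0 := by
    intro s hs hsZ
    have : ∃ k ∈ K, k * s ≠ s * k := by
      by_contra hcon
      push Not at hcon
      exact hsZ (hZmax s hs (fun k' hk' => (hcon k' hk').symm))
    obtain ⟨k, hk, hks⟩ := this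
    have hz := hKK k hk s hs
    set z := k * s * k⁻¹ * s⁻¹ with hzdef
    have hz1 : c (ρ z) ≠ 1 := by
      intro h1
      have := hfaith z hz (by rw [hZscal z hz, h1, one_smul])
      apply hks
      have h2 : k * s = z * (s * k) := by rw [hzdef]; group
      rw [h2, this, one_mul]
    have h3 := hc2 k hk (ρ s)
    have h4 : ρ k * ρ s * ρ k⁻¹ = ρ z * ρ s := by
      rw [← map_mul, ← map_mul, ← map_mul]; congr 1; rw [hzdef]; group
    rw [h4, hc0 _ 0 z hz] at h3
    have h5 : (c (ρ z) - 1) * c (ρ s) = 0 := by rw [sub_mul, h3, one_mul, sub_self]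
    rcases mul_eq_zero.1 h5 with h6 | h6
    · exact absurd (sub_eq_zero.1 h6) hz1
    · exact h6
  have hc0' : ∀ z ∈ Z, ∀ T : End F V, c (ρ z * T) = c (ρ z) * c T := fun z hz T => hc0 T T z hz
  -- the spanning formula
  have hchar : ∀ k ∈ K, ∑ t : K, c (ρ (t * k * (t : G)⁻¹ * k⁻¹)) = if k ∈ Z then (Nat.card K : F) else 0 := by
    intro k hk
    let χ : K →* F :=
      { toFun := fun t => c (ρ (t * k * (t : G)⁻¹ * k⁻¹))
        map_one' := by
          simp only [Subgroup.coe_one, one_mul, inv_one, mul_one, mul_inv_cancel, map_one, hc1]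
        map_mul' := by
          intro s t
          have h1 := hKK t t.2 k hk
          have h2 := hKK s s.2 k hk
          have h3 : ((s * t : K) : G) * k * ((s * t : K) : G)⁻¹ * k⁻¹
              = (s * k * (s : G)⁻¹ * k⁻¹) * (t * k * (t : G)⁻¹ * k⁻¹) := by
            have h4 := hZc _ h1 s s.2
            have h5 := hZc _ h2 _ (hZK h1)
            calc ((s * t : K) : G) * k * ((s * t : K) : G)⁻¹ * k⁻¹
                = (s : G) * (t * k * (t : G)⁻¹ * k⁻¹) * k * (s : G)⁻¹ * k⁻¹ := by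
                  rw [Subgroup.coe_mul]; group
              _ = (t * k * (t : G)⁻¹ * k⁻¹) * (s * k * (s : G)⁻¹ * k⁻¹) := by rw [← h4]; group
              _ = _ := by rw [h5]
          show c (ρ _) = c (ρ _) * c (ρ _)
          rw [h3, map_mul, hc0' _ h2] }
    split_ifs with hkZ
    · have : ∀ t : K, c (ρ (t * k * (t : G)⁻¹ * k⁻¹)) = 1 := by
        intro t
        rw [← hZc k hkZ t t.2, mul_inv_cancel_right, mul_inv_cancel, map_one, hc1]
      simp only [this, Finset.sum_const, Finset.card_univ, ← Nat.card_eq_fintype_card, nsmul_eq_mul,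
        mul_one]
    · have hχ : χ ≠ 1 := by
        intro h
        apply hkZ
        apply hZmax k hk
        intro t ht
        have h1 : c (ρ (t * k * t⁻¹ * k⁻¹)) = 1 := DFunLike.congr_fun h (⟨t, ht⟩ : K)
        have h2 := hfaith _ (hKK t ht k hk) (by rw [hZscal _ (hKK t ht k hk), h1, one_smul])
        have h3 : t * k = (t * k * t⁻¹ * k⁻¹) * (k * t) := by group
        rw [h3, h2, one_mul]
      exact sum_hom_units_eq_zero χ hχ
  have hZF : (Nat.card Z : F) ≠ 0 := by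
    intro h
    apply hKF
    obtain ⟨m, hm⟩ := Subgroup.card_dvd_of_le hZK
    rw [hm, Nat.cast_mul, h, zero_mul]
  have hc5 : ∀ T : End F V, ∑ t : K, c (ρ (t : G)⁻¹ * T) • ρ t = (Nat.card Z : F) • T := by
    intro T
    have h1 : ∀ t : K, c (ρ (t : G)⁻¹ * T) • ρ (t : G) =
        (Nat.card K : F)⁻¹ • ∑ k : K, c (ρ (t * k * (t : G)⁻¹ * (k : G)⁻¹)) • (ρ k * T * ρ (k : G)⁻¹) := by
      intro t
      have h2 : c (ρ (t : G)⁻¹ * T) • ρ (t : G) = ρ t * (c (ρ (t : G)⁻¹ * T) • 1) := by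
        rw [mul_smul_comm, mul_one]
      rw [h2, ← hc, havg, mul_smul_comm, Finset.mul_sum]
      congr 1
      apply Finset.sum_congr rfl
      intro k _
      have h3 : c (ρ (t * k * (t : G)⁻¹ * (k : G)⁻¹)) • (ρ k * T * ρ (k : G)⁻¹) =
          ρ (t * k * (t : G)⁻¹ * (k : G)⁻¹) * (ρ k * T * ρ (k : G)⁻¹) := by
        conv_rhs => rw [hZscal _ (hKK t t.2 k k.2)]
        rw [smul_mul_assoc, one_mul]
      rw [h3]
      simp only [map_mul, mul_assoc]
      congr 3
      rw [← mul_assoc (ρ (k : G)⁻¹), hinv', one_mul]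
    simp only [h1]
    rw [← Finset.smul_sum, Finset.sum_comm]
    simp only [← Finset.sum_smul]
    have h4 : ∀ k : K, (∑ t : K, c (ρ (t * k * (t : G)⁻¹ * (k : G)⁻¹))) • (ρ k * T * ρ (k : G)⁻¹) =
        if (k : G) ∈ Z then (Nat.card K : F) • T else 0 := by
      intro k
      rw [hchar k k.2]
      split_ifs with hk
      · rw [hZscal k hk]
        have h5 : ρ (k : G) * ρ (k : G)⁻¹ = 1 := hinv k
        rw [hZscal k hk] at h5
        rw [smul_mul_assoc, one_mul] at h5
        rw [smul_mul_assoc, smul_mul_assoc, one_mul, ← mul_smul_comm, h5, mul_one]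
      · rw [zero_smul]
    simp only [h4]
    rw [← Finset.sum_filter, Finset.sum_const, ← Nat.cast_smul_eq_nsmul F, smul_smul, smul_smul]
    congr 1
    have h6 : (Finset.univ.filter (fun k : K => (k : G) ∈ Z)).card = Nat.card Z := by
      rw [← Fintype.card_subtype, ← Nat.card_eq_fintype_card]
      apply Nat.card_congr
      exact ⟨fun k => ⟨k.1.1, k.2⟩, fun z => ⟨⟨z.1, hZK z.2⟩, z.2⟩, fun _ => rfl, fun _ => rfl⟩
    rw [h6]
    field_simp
  -- the quotient
  let ZK : Subgroup K := Z.subgroupOf K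
  have hZn : ZK.Normal := by
    constructor
    intro z hz k
    rw [Subgroup.mem_subgroupOf] at hz ⊢
    have : ((k * z * k⁻¹ : K) : G) = z := by
      rw [Subgroup.coe_mul, Subgroup.coe_mul, Subgroup.coe_inv, ← hZc z hz k k.2, mul_inv_cancel_right]
    rw [this]; exact hz
  let Φ : End F V →ₗ[F] (K ⧸ ZK → F) :=
    LinearMap.pi (fun q => c ∘ₗ LinearMap.mulLeft F (ρ ((q.out : K) : G)⁻¹))
  have hΦ : ∀ T q, Φ T q = c (ρ ((q.out : K) : G)⁻¹ * T) := fun T q => rfl
  -- vanishing is constant on cosets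
  have hvan : ∀ T, ∀ t ∈ K, ∀ z ∈ Z, c (ρ t⁻¹ * T) = 0 → c (ρ (t * z)⁻¹ * T) = 0 := by
    intro T t ht z hz h
    have h1 : ρ (t * z)⁻¹ = ρ z⁻¹ * ρ t⁻¹ := by rw [mul_inv_rev, map_mul]
    rw [h1, mul_assoc, hc0' _ (inv_mem hz), h, mul_zero]
  have hvan2 : ∀ T, (∀ t ∈ K, c (ρ t⁻¹ * T) = 0) → T = 0 := by
    intro T h
    have h1 := hc5 T
    have h2 : ∀ t : K, c (ρ (t : G)⁻¹ * T) • ρ (t : G) = 0 := fun t => by rw [h t t.2, zero_smul]
    simp only [h2, Finset.sum_const_zero] at h1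
    rcases smul_eq_zero.1 h1.symm with h3 | h3
    · exact absurd h3 hZF
    · exact h3
  have hΦinj : Function.Injective Φ := by
    rw [← LinearMap.ker_eq_bot, LinearMap.ker_eq_bot']
    intro T hT
    apply hvan2
    intro t ht
    have h1 : (QuotientGroup.mk (⟨t, ht⟩ : K) : K ⧸ ZK).out⁻¹ * ⟨t, ht⟩ ∈ ZK := by
      rw [← QuotientGroup.eq]
      exact Quotient.out_eq' _
    rw [Subgroup.mem_subgroupOf] at h1
    have h2 := congrFun hT (QuotientGroup.mk (⟨t, ht⟩ : K) : K ⧸ ZK)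
    rw [hΦ] at h2
    have h3 := hvan T _ ((QuotientGroup.mk (⟨t, ht⟩ : K) : K ⧸ ZK).out).2 _ h1 h2
    have h4 : (((QuotientGroup.mk (⟨t, ht⟩ : K) : K ⧸ ZK).out : K) : G) *
        (((QuotientGroup.mk (⟨t, ht⟩ : K) : K ⧸ ZK).out⁻¹ * ⟨t, ht⟩ : K) : G) = t := by
      simp
    rw [h4] at h3
    exact h3
  have hΦsurj : Function.Surjective Φ := by
    intro g
    refine ⟨∑ q : K ⧸ ZK, g q • ρ ((q.out : K) : G), ?_⟩
    funext q
    rw [hΦ, Finset.mul_sum, map_sum, Finset.sum_eq_single q]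
    · rw [mul_smul_comm, hinv', map_smul, hc1, smul_eq_mul, mul_one]
    · intro q' _ hq
      rw [mul_smul_comm, map_smul, ← map_mul, hc4, smul_zero]
      · exact K.mul_mem (K.inv_mem q.out.2) q'.out.2
      · intro h
        apply hq
        have h1 : (q.out)⁻¹ * q'.out ∈ ZK := by
          rw [Subgroup.mem_subgroupOf]; exact h
        rw [← QuotientGroup.eq] at h1
        have h2 : (QuotientGroup.mk q.out : K ⧸ ZK) = q := Quotient.out_eq' q
        have h3 : (QuotientGroup.mk q'.out : K ⧸ ZK) = q' := Quotient.out_eq' q'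
        rw [h2, h3] at h1
        exact h1.symm
    · intro h; exact absurd (Finset.mem_univ q) h
  have hM : (finrank F V) ^ 2 = Nat.card (K ⧸ ZK) := by
    have h1 := (LinearEquiv.ofBijective Φ ⟨hΦinj, hΦsurj⟩).finrank_eq
    rw [Module.finrank_fintype_fun_eq_card, Module.finrank_linearMap] at h1
    rw [sq, h1, Nat.card_eq_fintype_card]
  have hcardK : Nat.card (K ⧸ ZK) * Nat.card Z = Nat.card K := by
    have h1 := Subgroup.card_eq_card_quotient_mul_card_subgroup ZK
    have h2 : Nat.card ZK = Nat.card Z := Nat.card_congr (Subgroup.subgroupOfEquivOfLe hZK).toEquiv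
    rw [h2] at h1
    exact h1.symm
  refine ⟨by rw [hM, hcardK], fun hr2 hxZ hne => ?_⟩
  -- the automorphism of K induced by x and the permutation of K / Z
  let φ : K ≃* K :=
    { toFun := fun k => ⟨x * k * x⁻¹, hxK k k.2⟩
      invFun := fun k => ⟨x⁻¹ * k * x, hxK' k k.2⟩
      left_inv := fun k => Subtype.ext (by simp only; group)
      right_inv := fun k => Subtype.ext (by simp only; group)
      map_mul' := fun k k' => Subtype.ext (by
        simp only [Subgroup.coe_mul]; group) }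
  have hφ : ∀ k : K, ((φ k : K) : G) = x * k * x⁻¹ := fun k => rfl
  have hφZ : ZK.map (φ : K →* K) = ZK := by
    ext k
    rw [Subgroup.mem_map]
    constructor
    · rintro ⟨z, hz, rfl⟩
      rw [Subgroup.mem_subgroupOf] at hz ⊢
      have : ((φ z : K) : G) = z := by rw [hφ, hZx z hz, mul_inv_cancel_right]
      show ((φ z : K) : G) ∈ Z
      rw [this]; exact hz
    · intro hk
      refine ⟨k, hk, ?_⟩
      rw [Subgroup.mem_subgroupOf] at hk
      apply Subtype.ext
      show ((φ k : K) : G) = k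
      rw [hφ, hZx k hk, mul_inv_cancel_right]
  let σ : Equiv.Perm (K ⧸ ZK) := (QuotientGroup.congr ZK ZK φ hφZ).toEquiv
  have hσ : ∀ k : K, σ (QuotientGroup.mk k) = QuotientGroup.mk (φ k) := fun k => rfl
  have hσn : ∀ (n : ℕ) (k : K), (σ ^ n) (QuotientGroup.mk k) =
      QuotientGroup.mk ((φ ^ n : MulAut K) k) := by
    intro n
    induction n with
    | zero => intro k; rfl
    | succ n ih => intro k; rw [pow_succ', Equiv.Perm.mul_apply, ih, hσ, pow_succ']; rfl
  have hφn : ∀ (n : ℕ) (k : K), (((φ ^ n : MulAut K) k : K) : G) = x ^ n * k * (x ^ n)⁻¹ := by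
    intro n
    induction n with
    | zero => intro k; simp
    | succ n ih =>
      intro k
      rw [pow_succ']
      show ((φ ((φ ^ n : MulAut K) k) : K) : G) = _
      rw [hφ, ih, pow_succ']
      group
  have hσr : σ ^ r = 1 := by
    ext q
    obtain ⟨k, rfl⟩ := QuotientGroup.mk_surjective q
    rw [hσn]
    have : ((φ ^ r : MulAut K) k : K) = k := by
      apply Subtype.ext
      rw [hφn, hxr]; simp
    rw [this]; rfl
  have hσfix : ∀ q : K ⧸ ZK, σ q = q → q = (QuotientGroup.mk (1 : K)) := by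
    intro q hq
    obtain ⟨k, rfl⟩ := QuotientGroup.mk_surjective q
    rw [hσ, eq_comm, QuotientGroup.eq, Subgroup.mem_subgroupOf] at hq
    rw [eq_comm, QuotientGroup.eq, Subgroup.mem_subgroupOf]
    have h1 := hxZ k k.2 (by
      rw [Subgroup.coe_mul, Subgroup.coe_inv, hφ] at hq
      exact hq)
    simpa using h1
  have hσ1 : σ (QuotientGroup.mk (1 : K)) = QuotientGroup.mk (1 : K) := by
    rw [hσ, map_one]
  have hσne : σ ≠ 1 := by
    intro h
    apply hne
    apply le_antisymm hZK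
    intro k hk
    have h1 := hσfix (QuotientGroup.mk (⟨k, hk⟩ : K)) (by rw [h]; rfl)
    rw [eq_comm, QuotientGroup.eq, Subgroup.mem_subgroupOf] at h1
    simpa using h1
  have hcount := orbit_count σ hr hσr (QuotientGroup.mk (1 : K)) hσfix hσ1 hσne
  -- bound for the centralizer of x
  set Ex := LinearMap.ker (LinearMap.mulLeft F (ρ x) - LinearMap.mulRight F (ρ x)) with hEx
  have hmemEx : ∀ T, T ∈ Ex → ρ x * T = T * ρ x := by
    intro T hT
    rw [hEx, LinearMap.mem_ker, LinearMap.sub_apply, sub_eq_zero] at hT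
    exact hT
  let Ω := MulAction.orbitRel.Quotient (Subgroup.zpowers σ) (K ⧸ ZK)
  have hvanx : ∀ T ∈ Ex, ∀ t : G, c (ρ t⁻¹ * T) = 0 → c (ρ (x * t * x⁻¹)⁻¹ * T) = 0 := by
    intro T hT t h
    have h1 : ρ (x * t * x⁻¹)⁻¹ * T = ρ x * (ρ t⁻¹ * T) * ρ x⁻¹ := by
      have h2 : ρ x⁻¹ * T = T * ρ x⁻¹ := by
        calc ρ x⁻¹ * T = ρ x⁻¹ * T * (ρ x * ρ x⁻¹) := by rw [hinv, mul_one]
          _ = ρ x⁻¹ * (T * ρ x) * ρ x⁻¹ := by simp only [mul_assoc]
          _ = ρ x⁻¹ * (ρ x * T) * ρ x⁻¹ := by rw [hmemEx T hT]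
          _ = T * ρ x⁻¹ := by rw [← mul_assoc (ρ x⁻¹), hinv', one_mul]
      have h3 : (x * t * x⁻¹)⁻¹ = x * t⁻¹ * x⁻¹ := by group
      rw [h3, map_mul, map_mul, mul_assoc, h2]
      simp only [mul_assoc]
    rw [h1, hc3]
    exact h
  let Ψ : Ex →ₗ[F] (Ω → F) :=
    LinearMap.pi (fun ω => c ∘ₗ LinearMap.mulLeft F (ρ (((ω.out).out : K) : G)⁻¹) ∘ₗ Ex.subtype)
  have hΨinj : Function.Injective Ψ := by
    rw [← LinearMap.ker_eq_bot, LinearMap.ker_eq_bot']
    rintro ⟨T, hT⟩ hT0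
    apply Subtype.ext
    apply hvan2 T
    -- the set of classes on which everything vanishes
    have key : ∀ q : K ⧸ ZK, c (ρ ((q.out : K) : G)⁻¹ * T) = 0 →
        ∀ t : K, (QuotientGroup.mk t : K ⧸ ZK) = q → c (ρ (t : G)⁻¹ * T) = 0 := by
      intro q hq t ht
      have h1 : (q.out)⁻¹ * t ∈ ZK := by
        rw [← QuotientGroup.eq, ht]; exact Quotient.out_eq' _
      rw [Subgroup.mem_subgroupOf] at h1
      have h3 := hvan T _ (q.out).2 _ h1 hq
      have h4 : ((q.out : K) : G) * (((q.out)⁻¹ * t : K) : G) = t := by simp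
      rw [h4] at h3
      exact h3
    have key2 : ∀ q : K ⧸ ZK, (∀ t : K, (QuotientGroup.mk t : K ⧸ ZK) = q → c (ρ (t : G)⁻¹ * T) = 0) →
        ∀ n : ℕ, ∀ t : K, (QuotientGroup.mk t : K ⧸ ZK) = (σ ^ n) q → c (ρ (t : G)⁻¹ * T) = 0 := by
      intro q hq n
      induction n with
      | zero => intro t ht; exact hq t (by simpa using ht)
      | succ n ih =>
        intro t ht
        have h1 : t = φ (φ.symm t) := by simp
        have h2 : (QuotientGroup.mk (φ.symm t) : K ⧸ ZK) = (σ ^ n) q := by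
          apply σ.injective
          rw [hσ, ← h1, ht, pow_succ', Equiv.Perm.mul_apply]
        have h3 := hvanx T hT _ (ih _ h2)
        have h4 : (t : G) = x * ((φ.symm t : K) : G) * x⁻¹ := by rw [← hφ, ← h1]
        rw [h4]; exact h3
    intro t ht
    set q : K ⧸ ZK := QuotientGroup.mk (⟨t, ht⟩ : K) with hq
    set ω : Ω := Quotient.mk'' q with hω
    have h1 : c (ρ (((ω.out).out : K) : G)⁻¹ * T) = 0 := congrFun hT0 ω
    have h2 := key (ω.out) h1
    have h3 : (MulAction.orbitRel (Subgroup.zpowers σ) (K ⧸ ZK)) q (ω.out) := by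
      apply Quotient.exact
      rw [Quotient.out_eq]
    rw [MulAction.orbitRel_apply, MulAction.mem_orbit_iff] at h3
    obtain ⟨⟨a, ha⟩, haq⟩ := h3
    obtain ⟨n, rfl⟩ := (mem_powers_iff_mem_zpowers.2 ha)
    have h4 : (σ ^ n) (ω.out) = q := haq
    exact key2 (ω.out) h2 n ⟨t, ht⟩ (by rw [h4])
  have hExle : finrank F Ex ≤ Nat.card Ω := by
    have h1 := LinearMap.finrank_le_finrank_of_injective hΨinj
    rw [Module.finrank_fintype_fun_eq_card] at h1
    rw [Nat.card_eq_fintype_card]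
    exact h1
  have hXr : (ρ x) ^ r = 1 := by rw [← map_pow, hxr, map_one]
  have h4 := sq_finrank_le (ρ x) r hr.pos hrF hXr hfix
  refine arith' hr hr2 hM hExle hcount h4 ?_
  intro h1
  apply hσne
  have : Subsingleton (K ⧸ ZK) := (Nat.card_eq_one_iff_unique.1 h1).1
  exact Subsingleton.elim _ _

end AlgClosed

end Cfsg.Agent.H271.ShultCount
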