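import Mathlib
import Cfsg.Agent.S1545
import Cfsg.Agent.OddOrderLocal.Thm34
import Cfsg.Agent.Lib.ProductSet

/-!
Endgame of the Shult argument, the case of a Frobenius group `A⟨x⟩` acting on a 2-group `T`.
-/

set_option autoImplicit false

open scoped commutatorElement

namespace Cfsg.Agent.H271.ShultEnd

open Subgroup

theorem card_fix {Y W : Type*} [Group Y] [Group W] (f : Y →* W) (T A : Subgroup Y)
    (hinj : ∀ t ∈ T, f t = 1 → t = 1) (hAT : ∀ a ∈ A, ∀ t ∈ T, a * t * a⁻¹ ∈ T) :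
    Nat.card ↥(T.map f ⊓ centralizer ((A.map f : Subgroup W) : Set W)) =
      Nat.card ↥(T ⊓ centralizer (A : Set Y)) := by
  have hinj' : ∀ s ∈ T, ∀ t ∈ T, f s = f t → s = t := by
    intro s hs t ht h
    have : f (s * t⁻¹) = 1 := by rw [map_mul, map_inv, h, mul_inv_cancel]
    exact mul_inv_eq_one.mp (hinj _ (T.mul_mem hs (T.inv_mem ht)) this)
  symm
  apply Nat.card_congr
  refine Equiv.ofBijective (fun t => ⟨f t, Subgroup.mem_inf.mpr ⟨Subgroup.mem_map_of_mem f (Subgroup.mem_inf.mp t.2).1, ?_⟩⟩) ⟨?_, ?_⟩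
  · rw [Subgroup.mem_centralizer_iff]
    rintro _ ⟨a, ha, rfl⟩
    rw [← map_mul, ← map_mul, Subgroup.mem_centralizer_iff.mp (Subgroup.mem_inf.mp t.2).2 a ha]
  · intro s t h
    apply Subtype.ext
    exact hinj' s (Subgroup.mem_inf.mp s.2).1 t (Subgroup.mem_inf.mp t.2).1 (congrArg Subtype.val h)
  · rintro ⟨w, hw⟩
    obtain ⟨⟨t, ht, rfl⟩, hw2⟩ := Subgroup.mem_inf.mp hw
    refine ⟨⟨t, Subgroup.mem_inf.mpr ⟨ht, ?_⟩⟩, rfl⟩
    rw [Subgroup.mem_centralizer_iff]
    intro a ha
    have h1 := Subgroup.mem_centralizer_iff.mp hw2 (f a) (Subgroup.mem_map_of_mem f ha)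
    have h2 : a * t * a⁻¹ = t := by
      apply hinj' _ (hAT a ha t ht) _ ht
      rw [map_mul, map_mul, map_inv, h1, mul_inv_cancel_right]
    calc a * t = a * t * a⁻¹ * a := by group
      _ = t * a := by rw [h2]

theorem caseA {X : Type*} [Group X] [Finite X] (T A : Subgroup X) (x : X) {q r m : ℕ} (hq : q.Prime)
    (hq2 : q ≠ 2) (hr : r.Prime) (hrm : r = 2 ^ m + 1) (hm : 1 ≤ m) (hT : IsPGroup 2 T)
    (hA : IsPGroup q A) (hxr : x ^ r = 1) (hqr : q ≠ r) (hx1 : x ≠ 1) (hA1 : A ≠ ⊥)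
    (hAT : ∀ g ∈ A, ∀ t ∈ T, g * t * g⁻¹ ∈ T) (hxT : ∀ t ∈ T, x * t * x⁻¹ ∈ T)
    (hxA : ∀ g ∈ A, x * g * x⁻¹ ∈ A) (hfpf : ∀ g ∈ A, x * g = g * x → g = 1)
    (hfaith : ∀ g ∈ A, (∀ t ∈ T, g * t = t * g) → g = 1)
    (h1 : Nat.card T ≤ (2 ^ m) ^ 2 * Nat.card ↥(T ⊓ centralizer (zpowers x : Set X)))
    (h2 : ∃ N : ℕ, Nat.card T = N ^ 2 * Nat.card ↥(T ⊓ centralizer (A : Set X))) : False := by
  have : Fact q.Prime := ⟨hq⟩
  have : Fact (Nat.Prime 2) := ⟨Nat.prime_two⟩
  have : Fact r.Prime := ⟨hr⟩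
  have hr2 : r ≠ 2 := by
    rintro h
    have : 2 ^ 1 ≤ 2 ^ m := Nat.pow_le_pow_right (by norm_num) hm
    omega
  have hord : orderOf x = r := orderOf_eq_prime hxr hx1
  have hcx : Nat.card (zpowers x) = r := by rw [Nat.card_zpowers, hord]
  obtain ⟨k, hk⟩ := IsPGroup.iff_card.mp hA
  obtain ⟨n, hn⟩ := IsPGroup.iff_card.mp hT
  have hxN : x ∈ normalizer (A : Set X) := OddOrderLocal.Thm34.mem_normalizer_of_conj hr.pos hxr A hxA
  have hcopAx : (Nat.card A).Coprime (Nat.card (zpowers x)) := by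
    rw [hk, hcx]
    exact ((Nat.coprime_primes hq hr).mpr hqr).pow_left k
  have hsup : Nat.card ↥(A ⊔ zpowers x) ∣ q ^ k * r := by
    rw [← hk, ← hcx]
    have h3 : zpowers x ≤ normalizer (A : Set X) := by rwa [zpowers_le]
    have h4 := Lib.ProductSet.card_mul_card_inf A (zpowers x)
    rw [Subgroup.inf_eq_bot_of_coprime hcopAx, Subgroup.card_bot, mul_one,
      ← Subgroup.coe_mul_of_right_le_normalizer_left _ _ h3] at h4
    exact dvd_of_eq h4
  have hfrob := Cfsg.Agent.S1545.result A (zpowers x) T hA1 (by rwa [Ne, zpowers_eq_bot])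
    (Subgroup.inf_eq_bot_of_coprime hcopAx) (by
      intro e he a ha
      exact (Subgroup.mem_normalizer_iff.mp ((zpowers_le.mpr hxN) he) a).mp ha)
    (by
      intro e he he1 a ha h
      obtain ⟨j, rfl⟩ := Subgroup.mem_zpowers_iff.mp he
      -- `x ∈ zpowers (x ^ j)`
      have h3 : zpowers (x ^ j) = zpowers x := by
        apply Subgroup.eq_of_le_of_card_ge (zpowers_le.mpr he)
        rw [hcx]
        apply Nat.le_of_dvd Nat.card_pos
        have h4 : orderOf (x ^ j) = r := orderOf_eq_prime (by rw [← zpow_natCast, ← zpow_mul, mul_comm, zpow_mul, zpow_natCast, hxr, one_zpow]) he1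
        rw [Nat.card_zpowers, h4]
      have h4 : x ∈ zpowers (x ^ j) := by rw [h3]; exact mem_zpowers x
      obtain ⟨i, hi⟩ := Subgroup.mem_zpowers_iff.mp h4
      apply hfpf a ha
      have h5 : Commute (x ^ j) a := h
      have h6 := h5.zpow_left i
      rw [hi] at h6
      exact h6)
    (by
      have h3 : A ⊔ zpowers x ≤ normalizer (T : Set X) := by
        apply sup_le
        · intro a ha
          rw [Subgroup.mem_normalizer_iff]
          intro t
          refine ⟨hAT a ha t, fun h => ?_⟩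
          have := hAT a⁻¹ (A.inv_mem ha) _ h
          have e : a⁻¹ * (a * t * a⁻¹) * a⁻¹⁻¹ = t := by group
          rwa [e] at this
        · rw [zpowers_le]
          exact OddOrderLocal.Thm34.mem_normalizer_of_conj hr.pos hxr T hxT
      intro y hy t ht
      exact (Subgroup.mem_normalizer_iff.mp (h3 hy) t).mp ht)
    (by
      apply Subgroup.inf_eq_bot_of_coprime
      apply Nat.Coprime.coprime_dvd_right hsup
      rw [hn]
      apply Nat.Coprime.pow_left
      apply Nat.Coprime.mul_right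
      · exact ((Nat.coprime_primes Nat.prime_two hq).mpr hq2.symm).pow_right k
      · exact (Nat.coprime_primes Nat.prime_two hr).mpr hr2.symm)
    (by
      have := hT.isNilpotent
      infer_instance)
    (by
      apply Nat.Coprime.coprime_dvd_right hsup
      rw [hn]
      apply Nat.Coprime.pow_left
      apply Nat.Coprime.mul_right
      · exact ((Nat.coprime_primes Nat.prime_two hq).mpr hq2.symm).pow_right k
      · exact (Nat.coprime_primes Nat.prime_two hr).mpr hr2.symm)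
  obtain ⟨N, hN⟩ := h2
  have hpow : ∀ S : Subgroup X, S ≤ T → ∃ j, Nat.card S = 2 ^ j := by
    intro S hS
    exact IsPGroup.iff_card.mp (hT.to_le hS)
  obtain ⟨a, ha⟩ := hpow (T ⊓ centralizer (zpowers x : Set X)) inf_le_left
  obtain ⟨b, hb⟩ := hpow (T ⊓ centralizer (A : Set X)) inf_le_left
  obtain ⟨d, hd⟩ := hpow (T ⊓ centralizer ((A ⊔ zpowers x : Subgroup X) : Set X)) inf_le_left
  rw [hn, ha] at h1
  rw [hn, hb] at hN
  rw [hn, ha, hb, hd, hcx, ← pow_mul, ← pow_mul, ← pow_add, ← pow_add] at hfrob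
  have e1 : d * r + n = a * r + b := Nat.pow_right_injective (le_refl 2) hfrob
  have e2 : n ≤ 2 * m + a := by
    rw [← pow_mul, ← pow_add] at h1
    have := (Nat.pow_le_pow_iff_right (by norm_num : 1 < 2)).mp h1
    omega
  obtain ⟨i, hi⟩ : ∃ i, N = 2 ^ i := by
    have : N ∣ 2 ^ n := by
      rw [hN]
      exact dvd_mul_of_dvd_left (dvd_pow_self N two_ne_zero) _
    obtain ⟨i, -, hi⟩ := (Nat.dvd_prime_pow Nat.prime_two).mp this
    exact ⟨i, hi⟩
  have e3 : n = 2 * i + b := by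
    rw [hi, ← pow_mul, ← pow_add] at hN
    have := Nat.pow_right_injective (le_refl 2) hN
    omega
  have e4 : d ≤ a := by
    rw [← Nat.pow_le_pow_iff_right (by norm_num : 1 < 2), ← ha, ← hd]
    apply Subgroup.card_le_of_le
    apply inf_le_inf le_rfl
    exact Subgroup.centralizer_le (by exact_mod_cast (le_sup_right : zpowers x ≤ A ⊔ zpowers x))
  have e5 : d ≤ b := by
    rw [← Nat.pow_le_pow_iff_right (by norm_num : 1 < 2), ← hb, ← hd]
    apply Subgroup.card_le_of_le
    apply inf_le_inf le_rfl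
    exact Subgroup.centralizer_le (by exact_mod_cast (le_sup_left : A ≤ A ⊔ zpowers x))
  have e6 : i ≠ 0 := by
    rintro rfl
    -- `A` centralises `T`
    apply hA1
    rw [eq_bot_iff]
    intro g hg
    rw [Subgroup.mem_bot]
    apply hfaith g hg
    have h3 : T ⊓ centralizer (A : Set X) = T := by
      apply Subgroup.eq_of_le_of_card_ge inf_le_left
      rw [hn, hb, e3]
      simp
    intro t ht
    rw [← h3] at ht
    exact Subgroup.mem_centralizer_iff.mp (Subgroup.mem_inf.mp ht).2 g hg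
  obtain ⟨c, rfl⟩ := Nat.exists_eq_add_of_le e4
  -- `2 i = r c`
  have e7 : 2 * i = r * c := by
    have : (d + c) * r = d * r + r * c := by ring
    omega
  have e8 : Even c := by
    have h3 : Even (r * c) := ⟨i, by omega⟩
    rcases Nat.even_mul.mp h3 with h4 | h4
    · exact absurd (hr.even_iff.mp h4) hr2
    · exact h4
  obtain ⟨c', hc'⟩ := e8
  have e9 : c' ≠ 0 := by
    rintro rfl
    rw [hc'] at e7
    apply e6
    simpa using e7
  have e10 : m < 2 ^ m := Nat.lt_two_pow_self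
  have e11 : 2 * i = 2 * (c' * r) := by rw [e7, hc']; ring
  have e12 : i = c' * r := by omega
  have e13 : c' * r = c' * 2 ^ m + c' := by rw [hrm]; ring
  have e14 : 2 ^ m ≤ c' * 2 ^ m := Nat.le_mul_of_pos_left _ (Nat.pos_of_ne_zero e9)
  omega

end Cfsg.Agent.H271.ShultEnd
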