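import Mathlib
import Cfsg.Agent.S0026
import Cfsg.Agent.Lib.CoprimeCommutator

/-!
Coprime action on a group `T` of class two, centralising the centre: `S = [T, B] Z(T)` and `C_T(B)`.
-/

set_option autoImplicit false

open scoped commutatorElement

namespace Cfsg.Agent.H271.ShultOrth

open Subgroup

theorem orth {Q : Type*} [Group Q] [Finite Q] (T Z B : Subgroup Q) (hBT : B ≤ normalizer (T : Set Q))
    (hcop : (Nat.card B).Coprime (Nat.card T)) (hTs : Group.IsSolvable T) (hZT : Z ≤ T)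
    (hZB : ∀ z ∈ Z, ∀ b ∈ B, z * b = b * z) (hZTc : ∀ z ∈ Z, ∀ t ∈ T, z * t = t * z)
    (hTT : ∀ s ∈ T, ∀ t ∈ T, s * t * s⁻¹ * t⁻¹ ∈ Z) (hmax : ∀ t ∈ T, (∀ s ∈ T, s * t = t * s) → t ∈ Z) :
    ⁅T, B⁆ ⊔ Z ≤ T ∧ (∀ t ∈ ⁅T, B⁆ ⊔ Z, (∀ s ∈ ⁅T, B⁆ ⊔ Z, s * t = t * s) → t ∈ Z) ∧
      Nat.card T * Nat.card Z = Nat.card ↥(T ⊓ centralizer (B : Set Q)) * Nat.card ↥(⁅T, B⁆ ⊔ Z) ∧
      (∀ t ∈ ⁅T, B⁆ ⊔ Z, (∀ b ∈ B, b * t = t * b) → t ∈ Z) := by
  set C : Subgroup Q := T ⊓ centralizer (B : Set Q) with hC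
  set S : Subgroup Q := ⁅T, B⁆ ⊔ Z with hS
  have hTB : ⁅T, B⁆ ≤ T := Lib.CoprimeCommutator.commutator_le_left hBT
  have hST : S ≤ T := sup_le hTB hZT
  have hgen : ⁅T, B⁆ ⊔ C = T := Cfsg.Agent.S0026.result B T hBT hcop (Or.inr hTs)
  have hZC : Z ≤ C := by
    intro z hz
    refine Subgroup.mem_inf.mpr ⟨hZT hz, ?_⟩
    rw [Subgroup.mem_centralizer_iff]
    intro b hb
    exact (hZB z hz b hb).symm
  -- `[T, B]` commutes with `C`
  have h1 : ⁅⁅T, B⁆, C⁆ = ⊥ := by
    apply Subgroup.commutator_commutator_eq_bot_of_rotate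
    · have : ⁅B, C⁆ = ⊥ := by
        rw [Subgroup.commutator_comm, Subgroup.commutator_eq_bot_iff_le_centralizer]
        exact inf_le_right
      rw [this, Subgroup.commutator_bot_left]
    · rw [eq_bot_iff]
      have h2 : ⁅C, T⁆ ≤ Z := by
        rw [Subgroup.commutator_le]
        intro c hc t ht
        rw [commutatorElement_def]
        exact hTT c hc.1 t ht
      calc ⁅⁅C, T⁆, B⁆ ≤ ⁅Z, B⁆ := Subgroup.commutator_mono h2 le_rfl
        _ ≤ ⊥ := by
          rw [Subgroup.commutator_le]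
          intro z hz b hb
          rw [Subgroup.mem_bot, commutatorElement_eq_one_iff_mul_comm]
          exact hZB z hz b hb
  have hcomm : ∀ s ∈ S, ∀ c ∈ C, s * c = c * s := by
    rw [Subgroup.commutator_eq_bot_iff_le_centralizer] at h1
    have h2 : S ≤ centralizer (C : Set Q) := by
      apply sup_le h1
      intro z hz
      rw [Subgroup.mem_centralizer_iff]
      intro c hc
      exact (hZTc z hz c hc.1).symm
    intro s hs c hc
    exact (Subgroup.mem_centralizer_iff.mp (h2 hs) c hc).symm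
  have hcen : ∀ t ∈ S, (∀ s ∈ S, s * t = t * s) → t ∈ Z := by
    intro t ht h
    apply hmax t (hST ht)
    have h2 : T ≤ centralizer {t} := by
      rw [← hgen]
      apply sup_le
      · intro s hs
        rw [Subgroup.mem_centralizer_singleton_iff]
        exact h s ((le_sup_left : ⁅T, B⁆ ≤ S) hs)
      · intro c hc
        rw [Subgroup.mem_centralizer_singleton_iff]
        exact (hcomm t ht c hc).symm
    intro s hs
    exact Subgroup.mem_centralizer_singleton_iff.mp (h2 hs)
  have hfix : ∀ t ∈ S, (∀ b ∈ B, b * t = t * b) → t ∈ Z := by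
    intro t ht h
    apply hcen t ht
    intro s hs
    exact hcomm s hs t (Subgroup.mem_inf.mpr ⟨hST ht, Subgroup.mem_centralizer_iff.mpr h⟩)
  refine ⟨hST, hcen, ?_, hfix⟩
  -- the product formula
  have hSn : (S.subgroupOf T).Normal := by
    apply Subgroup.normal_subgroupOf_of_le_normalizer
    intro t ht
    have h2 := Lib.CoprimeCommutator.left_le_normalizer_commutator T B ht
    rw [Subgroup.mem_normalizer_iff]
    have key : ∀ t ∈ T, ∀ s ∈ S, t * s * t⁻¹ ∈ S := by
      intro t ht s hs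
      have h3 : S ≤ S.comap (MulAut.conj t).toMonoidHom := by
        apply sup_le
        · intro s hs
          rw [Subgroup.mem_comap]
          exact (le_sup_left : ⁅T, B⁆ ≤ S) ((Subgroup.mem_normalizer_iff.mp
            (Lib.CoprimeCommutator.left_le_normalizer_commutator T B ht) s).mp hs)
        · intro z hz
          rw [Subgroup.mem_comap]
          show t * z * t⁻¹ ∈ S
          rw [← hZTc z hz t ht, mul_inv_cancel_right]
          exact (le_sup_right : Z ≤ S) hz
      exact h3 hs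
    intro s
    refine ⟨key t ht s, fun h => ?_⟩
    have := key t⁻¹ (T.inv_mem ht) _ h
    have e : t⁻¹ * (t * s * t⁻¹) * t⁻¹⁻¹ = s := by group
    rwa [e] at this
  have htop : C.subgroupOf T ⊔ S.subgroupOf T = ⊤ := by
    apply Subgroup.map_injective T.subtype_injective
    rw [Subgroup.map_sup, Subgroup.subgroupOf_map_subtype, Subgroup.subgroupOf_map_subtype, inf_eq_left.mpr hST,
      inf_eq_left.mpr (inf_le_left : C ≤ T), ← MonoidHom.range_eq_map, Subgroup.range_subtype]
    apply le_antisymm (sup_le inf_le_left hST)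
    conv_lhs => rw [← hgen]
    exact sup_le (le_sup_left.trans le_sup_right) le_sup_left
  have hidx : (S.subgroupOf T).index = (S.subgroupOf T).relIndex (C.subgroupOf T) := by
    rw [← Subgroup.relIndex_top_right, ← htop, Subgroup.relIndex_sup_right]
  have hcS : Nat.card (S.subgroupOf T) = Nat.card S := Nat.card_congr (Subgroup.subgroupOfEquivOfLe hST).toEquiv
  have hcC : Nat.card (C.subgroupOf T) = Nat.card C := Nat.card_congr (Subgroup.subgroupOfEquivOfLe inf_le_left).toEquiv
  have h3 := (S.subgroupOf T).card_mul_index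
  have h4 := ((S.subgroupOf T).subgroupOf (C.subgroupOf T)).card_mul_index
  have h5 : Nat.card ((S.subgroupOf T).subgroupOf (C.subgroupOf T)) = Nat.card Z := by
    symm
    apply Nat.card_congr
    refine ⟨fun z => ⟨⟨⟨z, hZT z.2⟩, hZC z.2⟩, (le_sup_right : Z ≤ S) z.2⟩, fun z => ⟨((z : C.subgroupOf T) : T), ?_⟩, ?_, ?_⟩
    · apply hfix
      · exact z.2
      · intro b hb
        exact Subgroup.mem_centralizer_iff.mp (Subgroup.mem_inf.mp (z : C.subgroupOf T).2).2 b hb
    · intro z; rfl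
    · intro z; rfl
  rw [hcS, hidx] at h3
  rw [h5, hcC] at h4
  have h6 : ((S.subgroupOf T).subgroupOf (C.subgroupOf T)).index = (S.subgroupOf T).relIndex (C.subgroupOf T) := rfl
  rw [h6] at h4
  rw [← h3, ← h4]; ring

end Cfsg.Agent.H271.ShultOrth
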