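import Mathlib
import Cfsg.Agent.H271.ShultEndA
import Cfsg.Agent.H271.ShultOrth
import Cfsg.Agent.H272.ShultTwist
import Cfsg.Agent.Lib.CoprimeAbelian
import Cfsg.Agent.Lib.CoprimeCommutator

/-!
Endgame of the Shult argument.
-/

set_option autoImplicit false

open scoped commutatorElement

namespace Cfsg.Agent.H271.ShultEnd

open Subgroup

theorem caseB {X : Type*} [Group X] [Finite X] (T P Z : Subgroup X) [T.Normal] [Z.Normal] (x z : X)
    {q r m : ℕ} (hq : q.Prime) (hq2 : q ≠ 2) (hr : r.Prime) (hrm : r = 2 ^ m + 1) (hm : 1 ≤ m)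
    (hP : IsPGroup q P) (hxr : x ^ r = 1) (hqr : q ≠ r) (hTq : (Nat.card P).Coprime (Nat.card T))
    (hxP : ∀ g ∈ P, x * g * x⁻¹ ∈ P) (hZT : Z ≤ T) (hZP : ∀ z ∈ Z, ∀ g ∈ P, z * g = g * z)
    (hTT : ∀ s ∈ T, ∀ t ∈ T, s * t * s⁻¹ * t⁻¹ ∈ Z) (hsq : ∀ t ∈ T, t * t ∈ Z)
    (hfaith : ∀ g ∈ P, (∀ t ∈ T, g * t = t * g) → g = 1)
    (h1 : Nat.card T ≤ (2 ^ m) ^ 2 * Nat.card ↥(T ⊓ centralizer (zpowers x : Set X)))
    (hPx : ⁅P, zpowers x⁆ = P) (hzP : z ∈ P) (hzc : ∀ g ∈ P, z * g = g * z) (hzx : z * x = x * z)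
    (hz1 : z ≠ 1) : False := by
  have hr2 : r ≠ 2 := by
    rintro h
    have : 2 ^ 1 ≤ 2 ^ m := Nat.pow_le_pow_right (by norm_num) hm
    omega
  let π := QuotientGroup.mk' Z
  have hπ : Function.Surjective π := QuotientGroup.mk'_surjective Z
  have hπ1 : ∀ g, π g = 1 ↔ g ∈ Z := fun g => QuotientGroup.eq_one_iff g
  let Tb : Subgroup (X ⧸ Z) := T.map π
  have hTb : Tb.Normal := Subgroup.Normal.map inferInstance π hπ
  letI cg : CommGroup Tb := { (inferInstance : Group Tb) with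
    mul_comm := by
      rintro ⟨_, s, hs, rfl⟩ ⟨_, t, ht, rfl⟩
      apply Subtype.ext
      show π s * π t = π t * π s
      have h2 : π (s * t * s⁻¹ * t⁻¹) = 1 := (hπ1 _).mpr (hTT s hs t ht)
      rw [map_mul, map_mul, map_mul, map_inv, map_inv] at h2
      calc π s * π t = (π s * π t * (π s)⁻¹ * (π t)⁻¹) * (π t * π s) := by group
        _ = π t * π s := by rw [h2, one_mul] }
  let _inst : Module (ZMod 2) (Additive Tb) := AddCommGroup.zmodModule (by
    intro a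
    obtain ⟨_, s, hs, rfl⟩ := a
    have h2 : (⟨π s, s, hs, rfl⟩ : Tb) ^ 2 = 1 := by
      apply Subtype.ext
      show π s ^ 2 = 1
      rw [pow_two, ← map_mul]
      exact (hπ1 _).mpr (hsq s hs)
    exact h2)
  let φ : X →* MulAut Tb := (MulAut.conjNormal (H := Tb)).comp π
  let ρ := OddOrderLocal.Thm34.elemRep 2 φ
  have hmem : ∀ {t : X}, t ∈ T → π t ∈ Tb := fun ht => Subgroup.mem_map_of_mem π ht
  have hρ : ∀ (g t : X) (ht : t ∈ T), ρ g (Additive.ofMul (⟨π t, hmem ht⟩ : Tb)) =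
      Additive.ofMul (⟨π (g * t * g⁻¹), hmem (Subgroup.Normal.conj_mem inferInstance t ht g)⟩ : Tb) := by
    intro g t ht
    rw [OddOrderLocal.Thm34.elemRep_apply]
    congr 1
  have hfin : Finite (Additive Tb) := inferInstanceAs (Finite Tb)
  -- `z` acts non-trivially
  have hz : ρ z ≠ 1 := by
    intro h
    have h2 : ∀ t ∈ T, ⁅t, z⁆ ∈ Z := by
      intro t ht
      have h3 := hρ z t ht
      rw [h] at h3
      have h4 : π t = π (z * t * z⁻¹) := congrArg (fun a : Additive Tb => ((Additive.toMul a : Tb) : X ⧸ Z)) h3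
      rw [← hπ1, commutatorElement_def]
      have e : t * z * t⁻¹ * z⁻¹ = t * (z * t * z⁻¹)⁻¹ := by group
      rw [e, map_mul, map_inv, ← h4, mul_inv_cancel]
    have h3 : ⁅T, zpowers z⁆ ≤ Z := OddOrderLocal.Thm34.commutator_zpowers_le T z Z h2
    have h4 : zpowers z ≤ centralizer (T : Set X) := by
      apply Lib.CoprimeCommutator.le_centralizer_of_commutator_le (zpowers z) T Z _ _ h3
      · rw [zpowers_le, Subgroup.mem_centralizer_iff]
        intro y hy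
        exact hZP y hy z hzP
      · exact Subgroup.le_normalizer_of_normal
      · exact Nat.Coprime.coprime_dvd_left (Subgroup.card_dvd_of_le (by rwa [zpowers_le])) hTq
    apply hz1
    apply hfaith z hzP
    intro t ht
    exact (Subgroup.mem_centralizer_iff.mp (h4 (mem_zpowers z)) t ht).symm
  have hk := H272.ShultTwist.two_le ρ P x z hq hq2 hr hr2 hqr hP hxr hxP hPx hzP hzc hzx hz
  set k := Module.finrank (ZMod 2) (LinearMap.range (ρ x - 1)) with hkdef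
  have hcard : Nat.card (LinearMap.range (ρ x - 1)) = 2 ^ k := by
    rw [Module.natCard_eq_pow_finrank (K := ZMod 2) (V := LinearMap.range (ρ x - 1)), Nat.card_zmod]
  have hle : Nat.card (LinearMap.range (ρ x - 1)) * Nat.card ↥(T ⊓ centralizer (zpowers x : Set X)) ≤ Nat.card T := by
    rw [← Nat.card_prod]
    have hex : ∀ v : LinearMap.range (ρ x - 1), ∃ t : T, (ρ x - 1) (Additive.ofMul (⟨π t, hmem t.2⟩ : Tb)) = v := by
      rintro ⟨_, w, rfl⟩
      obtain ⟨w, rfl⟩ := Additive.ofMul.surjective w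
      obtain ⟨_, t, ht, rfl⟩ := w
      exact ⟨⟨t, ht⟩, rfl⟩
    choose f hf using hex
    have hval : ∀ (v : LinearMap.range (ρ x - 1)) (c : ↥(T ⊓ centralizer (zpowers x : Set X))),
        (ρ x - 1) (Additive.ofMul (⟨π (f v * c), hmem (T.mul_mem (f v).2 (Subgroup.mem_inf.mp c.2).1)⟩ : Tb)) = v := by
      intro v c
      have e : (Additive.ofMul (⟨π (f v * c), hmem (T.mul_mem (f v).2 (Subgroup.mem_inf.mp c.2).1)⟩ : Tb)) =
          Additive.ofMul (⟨π (f v), hmem (f v).2⟩ : Tb) +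
            Additive.ofMul (⟨π c, hmem (Subgroup.mem_inf.mp c.2).1⟩ : Tb) := by
        rw [← ofMul_mul]
        congr 1
      rw [e, map_add, hf v, LinearMap.sub_apply, hρ x c (Subgroup.mem_inf.mp c.2).1]
      have h2 : x * (c : X) * x⁻¹ = c := by
        rw [Subgroup.mem_centralizer_iff.mp (Subgroup.mem_inf.mp c.2).2 x (mem_zpowers x), mul_inv_cancel_right]
      simp only [h2]
      rw [Module.End.one_apply, sub_self, add_zero]
    apply Nat.card_le_card_of_injective (fun p : LinearMap.range (ρ x - 1) × ↥(T ⊓ centralizer (zpowers x : Set X)) =>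
      (f p.1 * ⟨p.2, (Subgroup.mem_inf.mp p.2.2).1⟩ : T))
    rintro ⟨v, c⟩ ⟨v', c'⟩ h
    have h' : (f v : X) * c = f v' * c' := congrArg Subtype.val h
    have h2 : v = v' := by
      apply Subtype.ext
      rw [← hval v c, ← hval v' c']
      simp only [h']
    subst h2
    have h3 : c = c' := Subtype.ext (mul_left_cancel h')
    rw [h3]
  have hpos : 0 < Nat.card ↥(T ⊓ centralizer (zpowers x : Set X)) := Nat.card_pos
  have h2 : 2 ^ k ≤ (2 ^ m) ^ 2 := by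
    rw [hcard] at hle
    exact Nat.le_of_mul_le_mul_right (hle.trans h1) hpos
  rw [← pow_mul] at h2
  have h3 := (Nat.pow_le_pow_iff_right (by norm_num : 1 < 2)).mp h2
  have h4 : m < 2 ^ m := Nat.lt_two_pow_self
  omega

theorem eg3 {X : Type*} [Group X] [Finite X] (T P Z : Subgroup X) [T.Normal] [Z.Normal] (x : X)
    {q r m : ℕ} (hq : q.Prime) (hq2 : q ≠ 2) (hr : r.Prime) (hrm : r = 2 ^ m + 1) (hm : 1 ≤ m)
    (hT : IsPGroup 2 T) (hP : IsPGroup q P) (hxr : x ^ r = 1) (hqr : q ≠ r)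
    (hxP : ∀ g ∈ P, x * g * x⁻¹ ∈ P) (hZT : Z ≤ T) (hZP : ∀ z ∈ Z, ∀ g ∈ P, z * g = g * z)
    (hTT : ∀ s ∈ T, ∀ t ∈ T, s * t * s⁻¹ * t⁻¹ ∈ Z) (hsq : ∀ t ∈ T, t * t ∈ Z)
    (hfaith : ∀ g ∈ P, (∀ t ∈ T, g * t = t * g) → g = 1)
    (h1 : Nat.card T ≤ (2 ^ m) ^ 2 * Nat.card ↥(T ⊓ centralizer (zpowers x : Set X)))
    (h2 : ∀ A : Subgroup X, A ≤ P → (∀ g ∈ A, x * g * x⁻¹ ∈ A) →
      ∃ N : ℕ, Nat.card T = N ^ 2 * Nat.card ↥(T ⊓ centralizer (A : Set X))) :
    ⁅P, zpowers x⁆ = ⊥ := by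
  have : Fact q.Prime := ⟨hq⟩
  have : Fact (Nat.Prime 2) := ⟨Nat.prime_two⟩
  by_contra hne
  have hx1 : x ≠ 1 := by
    rintro rfl
    apply hne
    rw [zpowers_one_eq_bot, Subgroup.commutator_bot_right]
  have hord : orderOf x = r := by
    have : Fact r.Prime := ⟨hr⟩
    exact orderOf_eq_prime hxr hx1
  have hcx : Nat.card (zpowers x) = r := by rw [Nat.card_zpowers, hord]
  have hxN : zpowers x ≤ normalizer (P : Set X) := by
    rw [zpowers_le]; exact OddOrderLocal.Thm34.mem_normalizer_of_conj hr.pos hxr P hxP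
  have hcop : ∀ V : Subgroup X, V ≤ P → (Nat.card (zpowers x)).Coprime (Nat.card V) := by
    intro V hV
    obtain ⟨k, hk⟩ := IsPGroup.iff_card.mp (hP.to_le hV)
    rw [hk, hcx]
    exact ((Nat.coprime_primes hr hq).mpr hqr.symm).pow_right k
  have hTq : (Nat.card P).Coprime (Nat.card T) := by
    obtain ⟨k, hk⟩ := IsPGroup.iff_card.mp hP
    obtain ⟨n, hn⟩ := IsPGroup.iff_card.mp hT
    rw [hk, hn]
    exact ((Nat.coprime_primes hq Nat.prime_two).mpr hq2).pow_left k |>.pow_right n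
  set P₁ : Subgroup X := ⁅P, zpowers x⁆ with hP₁
  have hP₁P : P₁ ≤ P := Lib.CoprimeCommutator.commutator_le_left hxN
  have hP₁x : ⁅P₁, zpowers x⁆ = P₁ :=
    Lib.CoprimeCommutator.commutator_commutator_eq (zpowers x) P hxN (hcop P le_rfl)
  have hxP₁' : zpowers x ≤ normalizer (P₁ : Set X) :=
    Lib.CoprimeCommutator.right_le_normalizer_commutator P (zpowers x)
  have hxP₁ : ∀ g ∈ P₁, x * g * x⁻¹ ∈ P₁ := fun g hg =>
    (Subgroup.mem_normalizer_iff.mp (hxP₁' (mem_zpowers x)) g).mp hg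
  have hP₁q : IsPGroup q P₁ := hP.to_le hP₁P
  set Z₁ : Subgroup X := P₁ ⊓ centralizer (P₁ : Set X) with hZ₁
  have hZ₁P₁ : Z₁ ≤ P₁ := inf_le_left
  have hZ₁c : ∀ z ∈ Z₁, ∀ g ∈ P₁, z * g = g * z := fun z hz g hg =>
    (Subgroup.mem_centralizer_iff.mp (Subgroup.mem_inf.mp hz).2 g hg).symm
  have hxZ₁ : ∀ g ∈ Z₁, x * g * x⁻¹ ∈ Z₁ := by
    intro g hg
    refine Subgroup.mem_inf.mpr ⟨hxP₁ g hg.1, ?_⟩
    rw [Subgroup.mem_centralizer_iff]
    intro y hy
    have h3 : x⁻¹ * y * x ∈ P₁ := by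
      rw [Subgroup.mem_normalizer_iff.mp (hxP₁' (mem_zpowers x))]
      have e : x * (x⁻¹ * y * x) * x⁻¹ = y := by group
      rw [e]; exact hy
    have h4 := hZ₁c g hg _ h3
    calc y * (x * g * x⁻¹) = x * ((x⁻¹ * y * x) * g) * x⁻¹ := by group
      _ = x * (g * (x⁻¹ * y * x)) * x⁻¹ := by rw [h4]
      _ = x * g * x⁻¹ * y := by group
  have hZ₁ne : Z₁ ≠ ⊥ := by
    have : Nontrivial P₁ := by rwa [Subgroup.nontrivial_iff_ne_bot]
    have h3 := hP₁q.center_nontrivial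
    obtain ⟨z, hz, hz1⟩ := (Subgroup.nontrivial_iff_exists_ne_one _).mp h3
    intro h
    apply hz1
    have h4 : (z : X) ∈ Z₁ := by
      refine Subgroup.mem_inf.mpr ⟨z.2, ?_⟩
      rw [Subgroup.mem_centralizer_iff]
      intro y hy
      exact congrArg Subtype.val (Subgroup.mem_center_iff.mp hz ⟨y, hy⟩)
    rw [h, Subgroup.mem_bot] at h4
    exact Subtype.ext h4
  have hxZ₁' : zpowers x ≤ normalizer (Z₁ : Set X) := by
    rw [zpowers_le]; exact OddOrderLocal.Thm34.mem_normalizer_of_conj hr.pos hxr Z₁ hxZ₁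
  by_cases hc : ⁅Z₁, zpowers x⁆ = ⊥
  · obtain ⟨⟨z, hz⟩, hz1⟩ := Subgroup.ne_bot_iff_exists_ne_one.mp hZ₁ne
    refine caseB T P₁ Z x z hq hq2 hr hrm hm hP₁q hxr hqr
      (Nat.Coprime.coprime_dvd_left (Subgroup.card_dvd_of_le hP₁P) hTq) hxP₁ hZT
      (fun y hy g hg => hZP y hy g (hP₁P hg)) hTT hsq (fun g hg => hfaith g (hP₁P hg)) h1 hP₁x
      (hZ₁P₁ hz) (hZ₁c z hz) ?_ (fun h => hz1 (Subtype.ext h))
    rw [Subgroup.commutator_eq_bot_iff_le_centralizer] at hc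
    exact (Subgroup.mem_centralizer_iff.mp (hc hz) x (mem_zpowers x)).symm
  · set A : Subgroup X := ⁅Z₁, zpowers x⁆ with hA
    have hAZ₁ : A ≤ Z₁ := Lib.CoprimeCommutator.commutator_le_left hxZ₁'
    have hAP : A ≤ P := hAZ₁.trans (hZ₁P₁.trans hP₁P)
    have hxA' : zpowers x ≤ normalizer (A : Set X) :=
      Lib.CoprimeCommutator.right_le_normalizer_commutator Z₁ (zpowers x)
    have hxA : ∀ g ∈ A, x * g * x⁻¹ ∈ A := fun g hg =>
      (Subgroup.mem_normalizer_iff.mp (hxA' (mem_zpowers x)) g).mp hg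
    have hbot := Lib.CoprimeAbelian.inf_commutator_eq_bot (zpowers x) Z₁
      (fun a ha b hb => hZ₁c a ha b (hZ₁P₁ hb)) hxZ₁' (hcop Z₁ (hZ₁P₁.trans hP₁P))
    refine caseA T A x hq hq2 hr hrm hm hT (hP.to_le hAP) hxr hqr hx1 hc
      (fun g _ t ht => Subgroup.Normal.conj_mem inferInstance t ht g)
      (fun t ht => Subgroup.Normal.conj_mem inferInstance t ht x) hxA ?_
      (fun g hg => hfaith g (hAP hg)) h1 (h2 A hAP hxA)
    intro g hg hgx
    rw [← Subgroup.mem_bot, ← hbot]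
    refine Subgroup.mem_inf.mpr ⟨Subgroup.mem_inf.mpr ⟨hAZ₁ hg, ?_⟩, hg⟩
    rw [Subgroup.mem_centralizer_iff]
    intro y hy
    obtain ⟨j, rfl⟩ := Subgroup.mem_zpowers_iff.mp hy
    exact ((show Commute x g from hgx).zpow_left j)

/-- The same with `P` not necessarily faithful on `T`. -/
theorem eg2 {X : Type*} [Group X] [Finite X] (T P Z N : Subgroup X) [T.Normal] [Z.Normal] [N.Normal] (x : X)
    {q r m : ℕ} (hq : q.Prime) (hq2 : q ≠ 2) (hr : r.Prime) (hrm : r = 2 ^ m + 1) (hm : 1 ≤ m)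
    (hT : IsPGroup 2 T) (hP : IsPGroup q P) (hxr : x ^ r = 1) (hqr : q ≠ r)
    (hxP : ∀ g ∈ P, x * g * x⁻¹ ∈ P) (hZT : Z ≤ T) (hZP : ∀ z ∈ Z, ∀ g ∈ P, z * g = g * z)
    (hTT : ∀ s ∈ T, ∀ t ∈ T, s * t * s⁻¹ * t⁻¹ ∈ Z) (hsq : ∀ t ∈ T, t * t ∈ Z)
    (hN : N = P ⊓ centralizer (T : Set X))
    (h1 : Nat.card T ≤ (2 ^ m) ^ 2 * Nat.card ↥(T ⊓ centralizer (zpowers x : Set X)))
    (h2 : ∀ A : Subgroup X, A ≤ P → (∀ g ∈ A, x * g * x⁻¹ ∈ A) →
      ∃ N : ℕ, Nat.card T = N ^ 2 * Nat.card ↥(T ⊓ centralizer (A : Set X))) :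
    ⁅P, zpowers x⁆ ≤ centralizer (T : Set X) := by
  have : Fact q.Prime := ⟨hq⟩
  have : Fact (Nat.Prime 2) := ⟨Nat.prime_two⟩
  have hTq : (Nat.card P).Coprime (Nat.card T) := by
    obtain ⟨k, hk⟩ := IsPGroup.iff_card.mp hP
    obtain ⟨n, hn⟩ := IsPGroup.iff_card.mp hT
    rw [hk, hn]
    exact ((Nat.coprime_primes hq Nat.prime_two).mpr hq2).pow_left k |>.pow_right n
  let π := QuotientGroup.mk' N
  have hπ : Function.Surjective π := QuotientGroup.mk'_surjective N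
  have hπ1 : ∀ g, π g = 1 ↔ g ∈ N := fun g => QuotientGroup.eq_one_iff g
  have hTn : (T.map π).Normal := Subgroup.Normal.map inferInstance π hπ
  have hZn : (Z.map π).Normal := Subgroup.Normal.map inferInstance π hπ
  have hinj : ∀ t ∈ T, π t = 1 → t = 1 := by
    intro t ht h
    rw [hπ1, hN] at h
    have h3 : t ∈ P ⊓ T := ⟨h.1, ht⟩
    rwa [Subgroup.inf_eq_bot_of_coprime hTq, Subgroup.mem_bot] at h3
  have hcf : ∀ A : Subgroup X, Nat.card ↥(T.map π ⊓ centralizer ((A.map π : Subgroup (X ⧸ N)) : Set (X ⧸ N))) =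
      Nat.card ↥(T ⊓ centralizer (A : Set X)) := fun A =>
    card_fix π T A hinj (fun a _ t ht => Subgroup.Normal.conj_mem inferInstance t ht a)
  have hcT : Nat.card (T.map π) = Nat.card T := by
    symm
    apply Nat.card_congr
    refine Equiv.ofBijective (fun t => ⟨π t, Subgroup.mem_map_of_mem π t.2⟩) ⟨?_, ?_⟩
    · intro s t h
      have h3 : π s = π t := congrArg Subtype.val h
      have h4 : π ((s : X) * (t : X)⁻¹) = 1 := by rw [map_mul, map_inv, h3, mul_inv_cancel]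
      exact Subtype.ext (mul_inv_eq_one.mp (hinj _ (T.mul_mem s.2 (T.inv_mem t.2)) h4))
    · rintro ⟨_, t, ht, rfl⟩
      exact ⟨⟨t, ht⟩, rfl⟩
  have key := eg3 (T.map π) (P.map π) (Z.map π) (π x) hq hq2 hr hrm hm (hT.map π) (hP.map π)
    (by rw [← map_pow, hxr, map_one]) hqr
    (by
      rintro _ ⟨g, hg, rfl⟩
      rw [← map_inv, ← map_mul, ← map_mul]
      exact Subgroup.mem_map_of_mem π (hxP g hg))
    (Subgroup.map_mono hZT)
    (by
      rintro _ ⟨z, hz, rfl⟩ _ ⟨g, hg, rfl⟩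
      rw [← map_mul, ← map_mul, hZP z hz g hg])
    (by
      rintro _ ⟨s, hs, rfl⟩ _ ⟨t, ht, rfl⟩
      rw [← map_inv, ← map_inv, ← map_mul, ← map_mul, ← map_mul]
      exact Subgroup.mem_map_of_mem π (hTT s hs t ht))
    (by
      rintro _ ⟨t, ht, rfl⟩
      rw [← map_mul]
      exact Subgroup.mem_map_of_mem π (hsq t ht))
    (by
      rintro _ ⟨g, hg, rfl⟩ h
      rw [hπ1, hN]
      refine Subgroup.mem_inf.mpr ⟨hg, ?_⟩
      rw [Subgroup.mem_centralizer_iff]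
      intro t ht
      have h3 := h (π t) (Subgroup.mem_map_of_mem π ht)
      have h4 : t * g * t⁻¹ * g⁻¹ = 1 := by
        apply hinj
        · have : t * g * t⁻¹ * g⁻¹ = t * (g * t⁻¹ * g⁻¹) := by group
          rw [this]
          exact T.mul_mem ht (Subgroup.Normal.conj_mem inferInstance _ (T.inv_mem ht) g)
        · rw [map_mul, map_mul, map_mul, map_inv, map_inv, ← h3]; group
      calc t * g = t * g * t⁻¹ * g⁻¹ * (g * t) := by group
        _ = g * t := by rw [h4, one_mul])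
    (by
      have e : zpowers (π x) = (zpowers x).map π := by rw [MonoidHom.map_zpowers]
      rw [hcT, e, hcf]
      exact h1)
    (by
      intro A hA hxA
      obtain ⟨M, hM⟩ := h2 (P ⊓ A.comap π) inf_le_left (by
        intro g hg
        refine Subgroup.mem_inf.mpr ⟨hxP g hg.1, ?_⟩
        rw [Subgroup.mem_comap, map_mul, map_mul, map_inv]
        exact hxA _ hg.2)
      have e : A = (P ⊓ A.comap π).map π := by
        apply le_antisymm
        · intro a ha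
          obtain ⟨g, hg, rfl⟩ := hA ha
          exact Subgroup.mem_map_of_mem π (Subgroup.mem_inf.mpr ⟨hg, ha⟩)
        · rintro _ ⟨g, hg, rfl⟩
          exact hg.2
      refine ⟨M, ?_⟩
      rw [hcT, e, hcf]
      exact hM)
  have e : zpowers (π x) = (zpowers x).map π := by rw [MonoidHom.map_zpowers]
  rw [e, ← Subgroup.map_commutator] at key
  intro g hg
  have h3 : π g ∈ (⁅P, zpowers x⁆).map π := Subgroup.mem_map_of_mem π hg
  rw [key, Subgroup.mem_bot, hπ1, hN] at h3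
  exact h3.2

/-- Not necessarily normal `T`, `Z`. -/
theorem eg1 {X : Type*} [Group X] [Finite X] (T P Z : Subgroup X) (x : X)
    {q r m : ℕ} (hq : q.Prime) (hq2 : q ≠ 2) (hr : r.Prime) (hrm : r = 2 ^ m + 1) (hm : 1 ≤ m)
    (hT : IsPGroup 2 T) (hP : IsPGroup q P) (hxr : x ^ r = 1) (hqr : q ≠ r)
    (hPT : ∀ g ∈ P, ∀ t ∈ T, g * t * g⁻¹ ∈ T) (hxT : ∀ t ∈ T, x * t * x⁻¹ ∈ T)
    (hxP : ∀ g ∈ P, x * g * x⁻¹ ∈ P) (hZT : Z ≤ T) (hZP : ∀ z ∈ Z, ∀ g ∈ P, z * g = g * z)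
    (hZx : ∀ z ∈ Z, z * x = x * z) (hZTc : ∀ z ∈ Z, ∀ t ∈ T, z * t = t * z)
    (hTT : ∀ s ∈ T, ∀ t ∈ T, s * t * s⁻¹ * t⁻¹ ∈ Z) (hsq : ∀ t ∈ T, t * t ∈ Z)
    (h1 : Nat.card T ≤ (2 ^ m) ^ 2 * Nat.card ↥(T ⊓ centralizer (zpowers x : Set X)))
    (h2 : ∀ A : Subgroup X, A ≤ P → (∀ g ∈ A, x * g * x⁻¹ ∈ A) →
      ∃ N : ℕ, Nat.card T = N ^ 2 * Nat.card ↥(T ⊓ centralizer (A : Set X))) :
    ⁅P, zpowers x⁆ ≤ centralizer (T : Set X) := by
  set N : Subgroup X := P ⊓ centralizer (T : Set X) with hN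
  have hxTn : x ∈ normalizer (T : Set X) := OddOrderLocal.Thm34.mem_normalizer_of_conj hr.pos hxr T hxT
  have hPTn : P ≤ normalizer (T : Set X) := by
    intro g hg
    rw [Subgroup.mem_normalizer_iff]
    intro t
    refine ⟨hPT g hg t, fun h => ?_⟩
    have := hPT g⁻¹ (P.inv_mem hg) _ h
    have e : g⁻¹ * (g * t * g⁻¹) * g⁻¹⁻¹ = t := by group
    rwa [e] at this
  have hcn : ∀ g ∈ normalizer (T : Set X), ∀ c ∈ centralizer (T : Set X), g * c * g⁻¹ ∈ centralizer (T : Set X) := by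
    intro g hg c hc
    rw [Subgroup.mem_centralizer_iff]
    intro t ht
    have h3 : g⁻¹ * t * g ∈ T := by
      rw [Subgroup.mem_normalizer_iff.mp hg]
      have e : g * (g⁻¹ * t * g) * g⁻¹ = t := by group
      rw [e]; exact ht
    have h4 := Subgroup.mem_centralizer_iff.mp hc _ h3
    calc t * (g * c * g⁻¹) = g * ((g⁻¹ * t * g) * c) * g⁻¹ := by group
      _ = g * (c * (g⁻¹ * t * g)) * g⁻¹ := by rw [h4]
      _ = g * c * g⁻¹ * t := by group
  set Y : Subgroup X := normalizer (T : Set X) ⊓ normalizer (N : Set X) ⊓ centralizer (Z : Set X) with hY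
  have hTY : T ≤ Y := by
    intro t ht
    refine Subgroup.mem_inf.mpr ⟨Subgroup.mem_inf.mpr ⟨Subgroup.le_normalizer ht, ?_⟩, ?_⟩
    · have h3 : ∀ t ∈ T, ∀ c ∈ N, t * c * t⁻¹ = c := by
        intro t ht c hc
        rw [Subgroup.mem_centralizer_iff.mp hc.2 t ht, mul_inv_cancel_right]
      rw [Subgroup.mem_normalizer_iff]
      intro c
      refine ⟨fun hc => by rw [h3 t ht c hc]; exact hc, fun hc => ?_⟩
      have h4 := h3 t⁻¹ (T.inv_mem ht) _ hc
      have e : t⁻¹ * (t * c * t⁻¹) * t⁻¹⁻¹ = c := by group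
      rw [e] at h4
      rw [h4]; exact hc
    · rw [Subgroup.mem_centralizer_iff]
      exact fun z hz => hZTc z hz t ht
  have hPY : P ≤ Y := by
    intro g hg
    refine Subgroup.mem_inf.mpr ⟨Subgroup.mem_inf.mpr ⟨hPTn hg, ?_⟩, ?_⟩
    · rw [Subgroup.mem_normalizer_iff]
      have h3 : ∀ g ∈ P, ∀ c ∈ N, g * c * g⁻¹ ∈ N := fun g hg c hc =>
        Subgroup.mem_inf.mpr ⟨P.mul_mem (P.mul_mem hg hc.1) (P.inv_mem hg), hcn g (hPTn hg) c hc.2⟩
      intro c
      refine ⟨h3 g hg c, fun h => ?_⟩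
      have := h3 g⁻¹ (P.inv_mem hg) _ h
      have e : g⁻¹ * (g * c * g⁻¹) * g⁻¹⁻¹ = c := by group
      rwa [e] at this
    · rw [Subgroup.mem_centralizer_iff]
      exact fun z hz => hZP z hz g hg
  have hxY : x ∈ Y := by
    refine Subgroup.mem_inf.mpr ⟨Subgroup.mem_inf.mpr ⟨hxTn, ?_⟩, ?_⟩
    · exact OddOrderLocal.Thm34.mem_normalizer_of_conj hr.pos hxr N (fun c hc =>
        Subgroup.mem_inf.mpr ⟨hxP c hc.1, hcn x hxTn c hc.2⟩)
    · rw [Subgroup.mem_centralizer_iff]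
      exact fun z hz => hZx z hz
  have hNY : N ≤ Y := inf_le_left.trans hPY
  have hZY : Z ≤ Y := hZT.trans hTY
  have n1 : (T.subgroupOf Y).Normal :=
    Subgroup.normal_subgroupOf_of_le_normalizer (inf_le_left.trans inf_le_left)
  have n2 : (N.subgroupOf Y).Normal :=
    Subgroup.normal_subgroupOf_of_le_normalizer (inf_le_left.trans inf_le_right)
  have n3 : (Z.subgroupOf Y).Normal :=
    Subgroup.normal_subgroupOf_of_le_normalizer (inf_le_right.trans (Subgroup.centralizer_le_normalizer _))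
  have hm' : ∀ A : Subgroup X, A ≤ Y → (A.subgroupOf Y).map Y.subtype = A := by
    intro A hA
    rw [Subgroup.subgroupOf_map_subtype, inf_eq_left.mpr hA]
  have hcf : ∀ A : Subgroup Y, Nat.card ↥(T ⊓ centralizer ((A.map Y.subtype : Subgroup X) : Set X)) =
      Nat.card ↥(T.subgroupOf Y ⊓ centralizer (A : Set Y)) := by
    intro A
    rw [← card_fix Y.subtype (T.subgroupOf Y) A (fun t _ h => Subtype.ext h)
      (fun a _ t ht => Subgroup.Normal.conj_mem inferInstance t ht a), hm' T hTY]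
  have hcT : Nat.card (T.subgroupOf Y) = Nat.card T := Nat.card_congr (Subgroup.subgroupOfEquivOfLe hTY).toEquiv
  have hzp : (zpowers (⟨x, hxY⟩ : Y)).map Y.subtype = zpowers x := by rw [MonoidHom.map_zpowers]; rfl
  have key := eg2 (T.subgroupOf Y) (P.subgroupOf Y) (Z.subgroupOf Y) (N.subgroupOf Y) (⟨x, hxY⟩ : Y) hq hq2 hr
    hrm hm (hT.comap_subtype) (hP.comap_subtype) (Subtype.ext hxr) hqr
    (fun g hg => hxP g hg) (fun z hz => hZT hz) (fun z hz g hg => Subtype.ext (hZP z hz g hg))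
    (fun s hs t ht => hTT s hs t ht) (fun t ht => hsq t ht)
    (by
      ext g
      constructor
      · intro hg
        refine Subgroup.mem_inf.mpr ⟨hg.1, ?_⟩
        rw [Subgroup.mem_centralizer_iff]
        intro t ht
        exact Subtype.ext (Subgroup.mem_centralizer_iff.mp hg.2 t ht)
      · intro hg
        refine Subgroup.mem_inf.mpr ⟨hg.1, ?_⟩
        rw [Subgroup.mem_centralizer_iff]
        intro t ht
        exact congrArg Subtype.val (Subgroup.mem_centralizer_iff.mp hg.2 ⟨t, hTY ht⟩ ht))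
    (by
      rw [hcT, ← hcf, hzp]
      exact h1)
    (by
      intro A hA hxA
      obtain ⟨M, hM⟩ := h2 (A.map Y.subtype) (by
          rintro _ ⟨g, hg, rfl⟩
          exact hA hg)
        (by
          rintro _ ⟨g, hg, rfl⟩
          exact Subgroup.mem_map_of_mem Y.subtype (hxA g hg))
      refine ⟨M, ?_⟩
      rw [hcT, ← hcf]
      exact hM)
  have h3 := Subgroup.map_mono (f := Y.subtype) key
  rw [Subgroup.map_commutator, hm' P hPY, hzp] at h3
  intro g hg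
  obtain ⟨y, hy, rfl⟩ := h3 hg
  rw [Subgroup.mem_centralizer_iff]
  intro t ht
  exact congrArg Subtype.val (Subgroup.mem_centralizer_iff.mp hy ⟨t, hTY ht⟩ ht)

theorem endgame {X : Type*} [Group X] [Finite X] (T P Z : Subgroup X) (x : X) {q r m : ℕ} (hq : q.Prime)
    (hq2 : q ≠ 2) (hr : r.Prime) (hrm : r = 2 ^ m + 1) (hm : 1 ≤ m) (hT : IsPGroup 2 T)
    (hP : IsPGroup q P) (hxr : x ^ r = 1) (hqr : q ≠ r)
    (hPT : ∀ g ∈ P, ∀ t ∈ T, g * t * g⁻¹ ∈ T) (hxT : ∀ t ∈ T, x * t * x⁻¹ ∈ T)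
    (hxP : ∀ g ∈ P, x * g * x⁻¹ ∈ P) (hZT : Z ≤ T)
    (hZc : ∀ z ∈ Z, ∀ g : X, (g ∈ T ∨ g ∈ P ∨ g = x) → z * g = g * z)
    (hTT : ∀ s ∈ T, ∀ t ∈ T, s * t * s⁻¹ * t⁻¹ ∈ Z) (hsq : ∀ t ∈ T, t * t ∈ Z)
    (hZmax : ∀ t ∈ T, (∀ s ∈ T, s * t = t * s) → t ∈ Z)
    (hsquare : ∀ S : Subgroup X, Z ≤ S → S ≤ T → (∀ s ∈ S, x * s * x⁻¹ ∈ S) →
      (∀ t ∈ S, (∀ s ∈ S, s * t = t * s) → t ∈ Z) → ∃ N : ℕ, Nat.card S = N ^ 2 * Nat.card Z)
    (hbound : ∀ S : Subgroup X, Z ≤ S → S ≤ T → (∀ s ∈ S, x * s * x⁻¹ ∈ S) →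
      (∀ t ∈ S, (∀ s ∈ S, s * t = t * s) → t ∈ Z) →
      (∀ s ∈ S, s⁻¹ * (x * s * x⁻¹) ∈ Z → s ∈ Z) → Nat.card S ≤ (2 ^ m) ^ 2 * Nat.card Z) :
    ∀ g ∈ ⁅P, Subgroup.zpowers x⁆, ∀ t ∈ T, g * t * g⁻¹ * t⁻¹ ∈ Z := by
  have : Fact q.Prime := ⟨hq⟩
  have : Fact (Nat.Prime 2) := ⟨Nat.prime_two⟩
  have hr2 : r ≠ 2 := by
    rintro h
    have : 2 ^ 1 ≤ 2 ^ m := Nat.pow_le_pow_right (by norm_num) hm
    omega
  have hxTn : x ∈ normalizer (T : Set X) := OddOrderLocal.Thm34.mem_normalizer_of_conj hr.pos hxr T hxT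
  have hPTn : P ≤ normalizer (T : Set X) := by
    intro g hg
    rw [Subgroup.mem_normalizer_iff]
    intro t
    refine ⟨hPT g hg t, fun h => ?_⟩
    have := hPT g⁻¹ (P.inv_mem hg) _ h
    have e : g⁻¹ * (g * t * g⁻¹) * g⁻¹⁻¹ = t := by group
    rwa [e] at this
  obtain ⟨n, hn⟩ := IsPGroup.iff_card.mp hT
  obtain ⟨k, hk⟩ := IsPGroup.iff_card.mp hP
  have hPc : (Nat.card P).Coprime (Nat.card T) := by
    rw [hk, hn]
    exact ((Nat.coprime_primes hq Nat.prime_two).mpr hq2).pow_left k |>.pow_right n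
  have hxc : (Nat.card (zpowers x)).Coprime (Nat.card T) := by
    rw [hn]
    apply Nat.Coprime.pow_right
    have h3 : orderOf x ∣ r := orderOf_dvd_of_pow_eq_one hxr
    rw [Nat.card_zpowers]
    exact Nat.Coprime.coprime_dvd_left h3 ((Nat.coprime_primes hr Nat.prime_two).mpr hr2)
  have hTs : Group.IsSolvable T := by
    have := hT.isNilpotent
    infer_instance
  have hZT' : ∀ z ∈ Z, ∀ t ∈ T, z * t = t * z := fun z hz t ht => hZc z hz t (Or.inl ht)
  have hZP : ∀ z ∈ Z, ∀ g ∈ P, z * g = g * z := fun z hz g hg => hZc z hz g (Or.inr (Or.inl hg))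
  have hZx : ∀ z ∈ Z, z * x = x * z := fun z hz => hZc z hz x (Or.inr (Or.inr rfl))
  have hZpos : 0 < Nat.card Z := Nat.card_pos
  -- invariance under `x`
  have hinv : ∀ A : Subgroup X, (∀ a ∈ A, x * a * x⁻¹ ∈ A) → ∀ s ∈ ⁅T, A⁆ ⊔ Z, x * s * x⁻¹ ∈ ⁅T, A⁆ ⊔ Z := by
    intro A hA s hs
    have h3 : ⁅T, A⁆ ⊔ Z ≤ (⁅T, A⁆ ⊔ Z).comap (MulAut.conj x).toMonoidHom := by
      apply sup_le
      · rw [Subgroup.commutator_le]
        intro t ht a ha
        rw [Subgroup.mem_comap, map_commutatorElement]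
        exact (le_sup_left : ⁅T, A⁆ ≤ ⁅T, A⁆ ⊔ Z) (Subgroup.commutator_mem_commutator (hxT t ht) (hA a ha))
      · intro z hz
        rw [Subgroup.mem_comap]
        show x * z * x⁻¹ ∈ _
        rw [← hZx z hz, mul_inv_cancel_right]
        exact (le_sup_right : Z ≤ ⁅T, A⁆ ⊔ Z) hz
    exact h3 hs
  have h1 : Nat.card T ≤ (2 ^ m) ^ 2 * Nat.card ↥(T ⊓ centralizer (zpowers x : Set X)) := by
    obtain ⟨a1, a2, a3, a4⟩ := ShultOrth.orth T Z (zpowers x) (by rwa [zpowers_le]) hxc hTs hZT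
      (by
        intro z hz b hb
        obtain ⟨j, rfl⟩ := Subgroup.mem_zpowers_iff.mp hb
        exact ((show Commute z x from hZx z hz).zpow_right j)) hZT' hTT hZmax
    have h3 := hbound (⁅T, zpowers x⁆ ⊔ Z) le_sup_right a1 (hinv (zpowers x) (fun a ha =>
      (zpowers x).mul_mem ((zpowers x).mul_mem (mem_zpowers x) ha) ((zpowers x).inv_mem (mem_zpowers x)))) a2
      (by
        intro s hs hsz
        apply a4 s hs
        set z₀ := s⁻¹ * (x * s * x⁻¹) with hz₀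
        have h4 : x * s * x⁻¹ = s * z₀ := by rw [hz₀]; group
        have h5 : ∀ i : ℕ, x ^ i * s * (x ^ i)⁻¹ = s * z₀ ^ i := by
          intro i
          induction i with
          | zero => simp
          | succ i ih =>
            have c1 : Commute x (z₀ ^ i) := ((show Commute z₀ x from hZx z₀ hsz).pow_left i).symm
            calc x ^ (i + 1) * s * (x ^ (i + 1))⁻¹ = x * (x ^ i * s * (x ^ i)⁻¹) * x⁻¹ := by
                  rw [pow_succ']; group
              _ = x * s * (z₀ ^ i * x⁻¹) := by rw [ih]; group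
              _ = x * s * (x⁻¹ * z₀ ^ i) := by rw [(c1.inv_left).eq]
              _ = x * s * x⁻¹ * z₀ ^ i := by group
              _ = s * z₀ ^ (i + 1) := by rw [h4, pow_succ', mul_assoc]
        have h6 : z₀ ^ r = 1 := by
          have := h5 r
          rw [hxr, one_mul, inv_one, mul_one] at this
          exact (mul_eq_left.mp this.symm)
        have h7 : z₀ = 1 := by
          have o1 : orderOf z₀ ∣ r := orderOf_dvd_of_pow_eq_one h6
          have o2 : orderOf z₀ ∣ 2 ^ n := by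
            rw [← hn]
            have := orderOf_dvd_natCard (⟨z₀, hZT hsz⟩ : T)
            rwa [Subgroup.orderOf_mk] at this
          have o3 : Nat.Coprime r (2 ^ n) := ((Nat.coprime_primes hr Nat.prime_two).mpr hr2).pow_right n
          have := Nat.dvd_gcd o1 o2
          rw [Nat.Coprime.gcd_eq_one o3, Nat.dvd_one, orderOf_eq_one_iff] at this
          exact this
        rw [h7, mul_one] at h4
        have h8 : Commute x s := by
          show x * s = s * x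
          calc x * s = x * s * x⁻¹ * x := by group
            _ = s * x := by rw [h4]
        intro b hb
        obtain ⟨j, rfl⟩ := Subgroup.mem_zpowers_iff.mp hb
        exact h8.zpow_left j)
    have h4 : Nat.card T * Nat.card Z ≤ (2 ^ m) ^ 2 * Nat.card ↥(T ⊓ centralizer (zpowers x : Set X)) * Nat.card Z := by
      rw [a3]
      calc _ ≤ Nat.card ↥(T ⊓ centralizer (zpowers x : Set X)) * ((2 ^ m) ^ 2 * Nat.card Z) := Nat.mul_le_mul_left _ h3
        _ = _ := by ring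
    exact Nat.le_of_mul_le_mul_right h4 hZpos
  have h2 : ∀ A : Subgroup X, A ≤ P → (∀ g ∈ A, x * g * x⁻¹ ∈ A) →
      ∃ N : ℕ, Nat.card T = N ^ 2 * Nat.card ↥(T ⊓ centralizer (A : Set X)) := by
    intro A hA hxA
    obtain ⟨a1, a2, a3, a4⟩ := ShultOrth.orth T Z A (hA.trans hPTn)
      (Nat.Coprime.coprime_dvd_left (Subgroup.card_dvd_of_le hA) hPc) hTs hZT
      (fun z hz b hb => hZP z hz b (hA hb)) hZT' hTT hZmax
    obtain ⟨N, hN⟩ := hsquare (⁅T, A⁆ ⊔ Z) le_sup_right a1 (hinv A hxA) a2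
    refine ⟨N, ?_⟩
    rw [hN] at a3
    have h4 : Nat.card T * Nat.card Z = N ^ 2 * Nat.card ↥(T ⊓ centralizer (A : Set X)) * Nat.card Z := by
      rw [a3]; ring
    exact Nat.eq_of_mul_eq_mul_right hZpos h4
  have key := eg1 T P Z x hq hq2 hr hrm hm hT hP hxr hqr hPT hxT hxP hZT hZP hZx hZT' hTT hsq h1 h2
  intro g hg t ht
  have h3 := Subgroup.mem_centralizer_iff.mp (key hg) t ht
  rw [← h3]
  have e : t * g * g⁻¹ * t⁻¹ = 1 := by group
  rw [e]
  exact Z.one_mem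

end Cfsg.Agent.H271.ShultEnd
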