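import Mathlib
import Cfsg.Agent.H271.ShultCount

/-!
`R = ⟨x⟩` of odd prime order `r` acting on the solvable group `K` of order prime to `r`, `KR` acting on a vector space
in characteristic prime to `|K| r`, `C_V(R) = 0`. If `K` is abelian or `(r - 1)²` does not divide the order of `K` then
`[K, R]` acts trivially on `V` (adapted from `Cfsg.Agent.OddOrderLocal.Thm34`).
-/

set_option autoImplicit false

namespace Cfsg.Agent.H271.ShultGen

open Module
open Cfsg.Agent.OddOrderLocal.Thm34Base Cfsg.Agent.OddOrderLocal.Thm34Weights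
open Cfsg.Agent.OddOrderLocal.Thm34 (abelian_comm inv_conj_mem mem_normalizer_of_conj bc bc_apply bc_tmul eq_of_bc)
open Cfsg.Agent.H271.ShultCount

attribute [local instance] wtAction

open Cfsg.Agent.Lib.CoprimeCommutator
open scoped TensorProduct

universe u v

theorem core_gen {F : Type*} [Field F] [IsAlgClosed F] {r : ℕ} (hr : r.Prime) (hr2 : r ≠ 2)
    (hrF : (r : F) ≠ 0) : ∀ n : ℕ, ∀ (G : Type u) [Group G] [Finite G] (V : Type v) [AddCommGroup V]
    [Module F V] [FiniteDimensional F V] (ρ : Representation F G V) (K : Subgroup G) [K.Normal]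
    (x : G), Nat.card K + finrank F V = n → Group.IsSolvable K → K ⊔ Subgroup.zpowers x = ⊤ →
    x ^ r = 1 → ((∀ a ∈ K, ∀ b ∈ K, a * b = b * a) ∨ ¬ (r - 1) ^ 2 ∣ Nat.card K) → ¬ r ∣ Nat.card K → (Nat.card K : F) ≠ 0 →
    (∀ v, ρ x v = v → v = 0) → ∀ k ∈ K, ρ (x * k) = ρ (k * x) := by
  intro n
  induction n using Nat.strong_induction_on with
  | _ n ih =>
  intro G _ _ V _ _ _ ρ K hKn x hn hsol hG hxr hodd hrK hKF hfix
  classical
  have hX : Nat.card (Subgroup.zpowers x) ∣ r := by
    rw [Nat.card_zpowers]; exact orderOf_dvd_of_pow_eq_one hxr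
  -- invertibility of the order of G
  have hGF : (Nat.card G : F) ≠ 0 := by
    have h1 : K.index ∣ r := by
      have h2 : K.index = K.relIndex (Subgroup.zpowers x) := by
        rw [← Subgroup.relIndex_top_right, ← hG, Subgroup.relIndex_sup_left]
      rw [h2]
      exact (Subgroup.relIndex_dvd_card _ _).trans hX
    rw [← K.card_mul_index, Nat.cast_mul]
    apply mul_ne_zero hKF
    rcases (Nat.dvd_prime hr).1 h1 with h2 | h2
    · rw [h2, Nat.cast_one]; exact one_ne_zero
    · rw [h2]; exact hrF
  have : NeZero (Nat.card G : F) := ⟨hGF⟩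
  -- trivial space
  by_cases hV : Subsingleton V
  · intro k _
    exact LinearMap.ext fun v => Subsingleton.elim _ _
  rw [not_subsingleton_iff_nontrivial] at hV
  by_cases hirr : ρ.IsIrreducible
  swap
  · -- reducible case
    obtain ⟨S, hS1, hS2⟩ : ∃ S : Subrepresentation ρ, S ≠ ⊥ ∧ S ≠ ⊤ := by
      by_contra hcon
      push Not at hcon
      apply hirr
      have : Nontrivial (Subrepresentation ρ) := by
        refine ⟨⊥, ⊤, ?_⟩
        intro h
        have h1 : (⊥ : Submodule F V) = ⊤ := congrArg Subrepresentation.toSubmodule h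
        exact bot_ne_top h1
      exact { eq_bot_or_eq_top := fun S => by
                by_cases h : S = ⊥
                · exact Or.inl h
                · exact Or.inr (hcon S h) }
    obtain ⟨S', hS'⟩ := exists_isCompl S
    have hS1' : S.toSubmodule ≠ ⊥ := fun h => hS1 (Subrepresentation.toSubmodule_injective h)
    have hS2' : S.toSubmodule ≠ ⊤ := fun h => hS2 (Subrepresentation.toSubmodule_injective h)
    have hS'2 : S'.toSubmodule ≠ ⊤ := by
      intro h
      have h1 : S' = ⊤ := Subrepresentation.toSubmodule_injective h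
      rw [h1] at hS'
      exact hS1 (by simpa using hS'.inf_eq_bot)
    have hstep : ∀ S : Subrepresentation ρ, S.toSubmodule ≠ ⊤ → ∀ k ∈ K, ∀ v ∈ S.toSubmodule,
        ρ (x * k) v = ρ (k * x) v := by
      intro S hS k hk v hv
      have hlt : finrank F S.toSubmodule < finrank F V := Submodule.finrank_lt hS
      have h1 := ih (Nat.card K + finrank F S.toSubmodule) (by omega) G S.toSubmodule
        S.toRepresentation K x rfl hsol hG hxr hodd hrK hKF (by
          intro w hw
          apply Subtype.ext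
          exact hfix w (congrArg Subtype.val hw)) k hk
      exact congrArg Subtype.val (LinearMap.congr_fun h1 ⟨v, hv⟩)
    intro k hk
    ext v
    have hv : v ∈ S.toSubmodule ⊔ S'.toSubmodule := by
      have h1 : S ⊔ S' = ⊤ := hS'.sup_eq_top
      have h2 : S.toSubmodule ⊔ S'.toSubmodule = ⊤ := congrArg Subrepresentation.toSubmodule h1
      rw [h2]; trivial
    obtain ⟨a, ha, b, hb, rfl⟩ := Submodule.mem_sup.1 hv
    rw [map_add, map_add, hstep S hS2' k hk a ha, hstep S' hS'2 k hk b hb]
  -- irreducible case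
  by_cases hker : ∀ k ∈ K, ρ k = 1 → k = 1
  swap
  · -- quotient by the kernel
    push Not at hker
    obtain ⟨k₀, hk₀, hk₀1, hk₀2⟩ := hker
    let N : Subgroup G := MonoidHom.ker ρ
    have hNn : N.Normal := MonoidHom.normal_ker ρ
    have hlt : Nat.card (K.map (QuotientGroup.mk' N)) < Nat.card K := by
      refine lt_of_le_of_ne (Nat.le_of_dvd Nat.card_pos (Subgroup.card_map_dvd K _)) ?_
      intro heq
      have hsurj := (QuotientGroup.mk' N).subgroupMap_surjective K
      have hinj : Function.Injective ((QuotientGroup.mk' N).subgroupMap K) :=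
        ((Nat.bijective_iff_surjective_and_card _).2 ⟨hsurj, heq.symm⟩).1
      apply hk₀2
      have h1 : (QuotientGroup.mk' N).subgroupMap K ⟨k₀, hk₀⟩ = (QuotientGroup.mk' N).subgroupMap K 1 := by
        apply Subtype.ext
        show QuotientGroup.mk' N k₀ = QuotientGroup.mk' N 1
        rw [map_one]
        exact (QuotientGroup.eq_one_iff k₀).2 (MonoidHom.mem_ker.2 hk₀1)
      exact congrArg Subtype.val (hinj h1)
    have hdvd : Nat.card (K.map (QuotientGroup.mk' N)) ∣ Nat.card K := Subgroup.card_map_dvd K _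
    have hKn' : (K.map (QuotientGroup.mk' N)).Normal :=
      Subgroup.Normal.map hKn _ (QuotientGroup.mk'_surjective N)
    intro k hk
    have h1 := ih (Nat.card (K.map (QuotientGroup.mk' N)) + finrank F V) (by omega) (G ⧸ N) V
      (QuotientGroup.lift N ρ le_rfl) (K.map (QuotientGroup.mk' N)) (QuotientGroup.mk' N x) rfl
      (Group.isSolvable_of_surjective ((QuotientGroup.mk' N).subgroupMap_surjective K))
      (by
        have h2 : (Subgroup.zpowers (QuotientGroup.mk' N x)) = (Subgroup.zpowers x).map (QuotientGroup.mk' N) :=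
          (MonoidHom.map_zpowers _ _).symm
        rw [h2, ← Subgroup.map_sup, hG, Subgroup.map_top_of_surjective _ (QuotientGroup.mk'_surjective N)])
      (by rw [← map_pow, hxr, map_one])
      (by
        rcases hodd with h | h
        · left
          rintro _ ⟨a, ha, rfl⟩ _ ⟨b, hb, rfl⟩
          rw [← map_mul, h a ha b hb, map_mul]
        · right
          exact fun h' => h (h'.trans hdvd)) (fun h => hrK (h.trans hdvd))
      (by
        intro h
        apply hKF
        obtain ⟨m, hm⟩ := hdvd
        rw [hm, Nat.cast_mul, h, zero_mul])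
      hfix (QuotientGroup.mk' N k) (Subgroup.mem_map_of_mem _ hk)
    exact h1
  -- K acts faithfully: proper invariant subgroups commute with x
  have hx_inv : ∀ H : Subgroup G, (∀ k ∈ H, x * k * x⁻¹ ∈ H) → ∀ k ∈ H, x⁻¹ * k * x ∈ H := by
    intro H hH k hk
    have h1 : ∀ m : ℕ, ∀ k ∈ H, x ^ m * k * (x ^ m)⁻¹ ∈ H := by
      intro m
      induction m with
      | zero => intro k hk; simpa using hk
      | succ m ihm =>
        intro k hk
        have : x ^ (m + 1) * k * (x ^ (m + 1))⁻¹ = x * (x ^ m * k * (x ^ m)⁻¹) * x⁻¹ := by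
          rw [pow_succ']; group
        rw [this]; exact hH _ (ihm k hk)
    have h2 : x⁻¹ = x ^ (r - 1) := by
      rw [eq_comm, eq_inv_iff_mul_eq_one, ← pow_succ, Nat.sub_add_cancel hr.one_le, hxr]
    have h3 := h1 (r - 1) k hk
    rw [← h2, inv_inv] at h3
    exact h3
  have hxn : ∀ H : Subgroup G, (∀ k ∈ H, x * k * x⁻¹ ∈ H) → x ∈ Subgroup.normalizer (H : Set G) := by
    intro H hH
    rw [Subgroup.mem_normalizer_iff]
    intro k
    refine ⟨fun hk => hH k hk, fun hk => ?_⟩
    have := hx_inv H hH _ hk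
    have h2 : x⁻¹ * (x * k * x⁻¹) * x = k := by group
    rwa [h2] at this
  have hproper : ∀ H : Subgroup G, H ≤ K → H ≠ K → (∀ k ∈ H, x * k * x⁻¹ ∈ H) → ∀ k ∈ H, x * k = k * x := by
    intro H hHK hne hHx
    set G₁ : Subgroup G := H ⊔ Subgroup.zpowers x with hG₁
    have hHG₁ : H ≤ G₁ := le_sup_left
    have hxG₁ : x ∈ G₁ := (le_sup_right : Subgroup.zpowers x ≤ G₁) (Subgroup.mem_zpowers x)
    have hHn : H.subgroupOf G₁ |>.Normal := by
      apply Subgroup.normal_subgroupOf_of_le_normalizer
      apply sup_le Subgroup.le_normalizer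
      rw [Subgroup.zpowers_le]
      exact hxn H hHx
    have hcard : Nat.card (H.subgroupOf G₁) = Nat.card H :=
      Nat.card_congr (Subgroup.subgroupOfEquivOfLe hHG₁).toEquiv
    have hlt : Nat.card H < Nat.card K := by
      refine lt_of_le_of_ne (Subgroup.card_le_of_le hHK) ?_
      intro heq
      exact hne (Subgroup.eq_of_le_of_card_ge hHK heq.ge)
    have hdvd : Nat.card H ∣ Nat.card K := Subgroup.card_dvd_of_le hHK
    intro k hk
    have h1 := ih (Nat.card (H.subgroupOf G₁) + finrank F V) (by omega) G₁ V (ρ.comp G₁.subtype)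
      (H.subgroupOf G₁) ⟨x, hxG₁⟩ rfl
      (Group.isSolvable_of_isSolvable_injective (f := (Subgroup.inclusion hHK).comp
        (Subgroup.subgroupOfEquivOfLe hHG₁).toMonoidHom) (by
          intro a b hab
          exact (Subgroup.subgroupOfEquivOfLe hHG₁).injective (Subgroup.inclusion_injective hHK hab)))
      (by
        rw [eq_top_iff]
        rintro ⟨g, hg⟩ _
        have h2 : G₁ ≤ ((H.subgroupOf G₁ ⊔ Subgroup.zpowers ⟨x, hxG₁⟩ : Subgroup G₁)).map G₁.subtype := by
          rw [Subgroup.map_sup, MonoidHom.map_zpowers]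
          refine le_trans (le_of_eq hG₁) (sup_le_sup ?_ ?_)
          · intro h hh
            exact ⟨⟨h, hHG₁ hh⟩, hh, rfl⟩
          · exact le_rfl
        obtain ⟨g', hg', hgg⟩ := h2 hg
        have : g' = ⟨g, hg⟩ := Subtype.ext hgg
        rwa [this] at hg')
      (Subtype.ext (by simpa using hxr))
      (by
        rcases hodd with h | h
        · left
          intro a ha b hb
          exact Subtype.ext (h _ (hHK ha) _ (hHK hb))
        · right
          rw [hcard]
          exact fun h' => h (h'.trans hdvd)) (by rw [hcard]; exact fun h => hrK (h.trans hdvd))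
      (by
        rw [hcard]
        intro h
        apply hKF
        obtain ⟨m, hm⟩ := hdvd
        rw [hm, Nat.cast_mul, h, zero_mul])
      hfix ⟨k, hHG₁ hk⟩ hk
    have h3 : ρ (x * k) = ρ (k * x) := h1
    have h4 : ρ (x * k * x⁻¹ * k⁻¹) = 1 := by
      have : x * k * x⁻¹ * k⁻¹ = (x * k) * (k * x)⁻¹ := by group
      rw [this, map_mul, h3, ← map_mul, mul_inv_cancel, map_one]
    have h5 := hker _ (K.mul_mem (hHK (hHx k hk)) (K.inv_mem (hHK hk))) h4
    have h6 : x * k = (x * k * x⁻¹ * k⁻¹) * (k * x) := by group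
    rw [h6, h5, one_mul]
  by_contra hcon
  have hXK : Subgroup.zpowers x ≤ Subgroup.normalizer (K : Set G) := by
    rw [Subgroup.zpowers_le]
    exact hxn K (fun k hk => hKn.conj_mem k hk x)
  have hcop : (Nat.card (Subgroup.zpowers x)).Coprime (Nat.card K) :=
    Nat.Coprime.coprime_dvd_left hX ((Nat.Prime.coprime_iff_not_dvd hr).2 hrK)
  -- elements commuting with x
  have hcx : ∀ H : Subgroup G, (∀ k ∈ H, x * k = k * x) → ⁅H, Subgroup.zpowers x⁆ = ⊥ := by
    intro H hH
    rw [Subgroup.commutator_comm, Subgroup.commutator_eq_bot_iff_le_centralizer, Subgroup.zpowers_le,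
      Subgroup.mem_centralizer_iff]
    intro k hk
    exact (hH k hk).symm
  have hcomm1 : ⁅K, Subgroup.zpowers x⁆ ≤ K := commutator_le_left hXK
  have hcomm2 : ⁅K, Subgroup.zpowers x⁆ = K := by
    by_contra hne
    have h1 := hproper _ hcomm1 hne (fun k hk =>
      ((Subgroup.mem_normalizer_iff).1 (right_le_normalizer_commutator K (Subgroup.zpowers x)
        (Subgroup.mem_zpowers x)) k).1 hk)
    have h2 := hcx _ h1
    rw [commutator_commutator_eq _ _ hXK hcop] at h2
    apply hcon
    intro k hk
    rw [Subgroup.commutator_comm, Subgroup.commutator_eq_bot_iff_le_centralizer, Subgroup.zpowers_le,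
      Subgroup.mem_centralizer_iff] at h2
    rw [h2 k hk]
  by_cases habel : ∀ a ∈ K, ∀ b ∈ K, a * b = b * a
  · exact hcon (abelian_comm ρ K x habel hG hr hKF hxr hfix)
  -- the nonabelian case
  have hZx : ∀ k ∈ K ⊓ Subgroup.centralizer (K : Set G), x * k = k * x := by
    apply hproper _ inf_le_left
    · intro h
      apply habel
      intro a ha b hb
      have h1 : b ∈ K ⊓ Subgroup.centralizer (K : Set G) := by rw [h]; exact hb
      exact (Subgroup.mem_centralizer_iff.1 h1.2) a ha
    · intro k hk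
      refine Subgroup.mem_inf.2 ⟨hKn.conj_mem k hk.1 x, ?_⟩
      rw [Subgroup.mem_centralizer_iff]
      intro a ha
      have h1 := hx_inv K (fun k hk => hKn.conj_mem k hk x) a ha
      have h2 := (Subgroup.mem_centralizer_iff.1 hk.2) _ h1
      calc a * (x * k * x⁻¹) = x * ((x⁻¹ * a * x) * k) * x⁻¹ := by group
        _ = x * (k * (x⁻¹ * a * x)) * x⁻¹ := by rw [h2]
        _ = x * k * x⁻¹ * a := by group
  have hKne : ⁅K, K⁆ ≠ K := by
    intro h
    have hK1 : K ≠ ⊥ := by
      rintro rfl
      apply habel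
      intro a ha b hb
      rw [Subgroup.mem_bot.1 ha, Subgroup.mem_bot.1 hb]
    have : Nontrivial K := (Subgroup.nontrivial_iff_ne_bot K).2 hK1
    have h1 := Group.IsSolvable.commutator_lt_top_of_nontrivial K
    apply h1.ne
    rw [commutator_def]
    apply Subgroup.map_injective K.subtype_injective
    rw [Subgroup.map_commutator, ← MonoidHom.range_eq_map, Subgroup.range_subtype, h]
  have hK'x : ∀ k ∈ ⁅K, K⁆, x * k = k * x := by
    apply hproper _ (Subgroup.commutator_le_self K) hKne
    intro k hk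
    exact (Subgroup.commutator_normal K K).conj_mem k hk x
  have hK'Z : ⁅K, K⁆ ≤ K ⊓ Subgroup.centralizer (K : Set G) := by
    refine le_inf (Subgroup.commutator_le_self K) ?_
    rw [← Subgroup.commutator_eq_bot_iff_le_centralizer]
    have h1 : ⁅⁅Subgroup.zpowers x, K⁆, ⁅K, K⁆⁆ = ⊥ := by
      apply Subgroup.commutator_commutator_eq_bot_of_rotate
      · -- [[K, K'], X]
        rw [eq_bot_iff]
        have h2 : ⁅K, ⁅K, K⁆⁆ ≤ ⁅K, K⁆ := Subgroup.commutator_mono le_rfl (Subgroup.commutator_le_self K)
        calc ⁅⁅K, ⁅K, K⁆⁆, Subgroup.zpowers x⁆ ≤ ⁅⁅K, K⁆, Subgroup.zpowers x⁆ :=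
              Subgroup.commutator_mono h2 le_rfl
          _ = ⊥ := hcx _ hK'x
      · -- [[K', X], K]
        rw [hcx _ hK'x, Subgroup.commutator_bot_left]
    rw [Subgroup.commutator_comm (Subgroup.zpowers x) K, hcomm2, Subgroup.commutator_comm] at h1
    exact h1
  have hCK : K ⊓ Subgroup.centralizer ((Subgroup.zpowers x : Subgroup G) : Set G) ≤
      K ⊓ Subgroup.centralizer (K : Set G) :=
    (S1459.centralizer_le K (Subgroup.zpowers x) hKn hcop.symm hcomm2.symm).trans hK'Z
  have hcount := nonabelian_count ρ K (K ⊓ Subgroup.centralizer (K : Set G)) x inf_le_left ?_ ?_ ?_ hZx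
    (fun k hk => hKn.conj_mem k hk x) (hx_inv K (fun k hk => hKn.conj_mem k hk x)) hG hr hrF hKF
    hxr (fun z hz h => hker z hz.1 h) hfix
  · have h1 := hcount.2 hr2 ?_ ?_
    · rcases hodd with h | h
      · exact habel h
      · apply h
        have h2 : finrank F V = r - 1 := by omega
        rw [← hcount.1, h2]
        exact Dvd.intro _ rfl
    · intro k hk hz
      set z := k⁻¹ * (x * k * x⁻¹) with hzdef
      have h1 : x * k * x⁻¹ = k * z := by rw [hzdef]; group
      have hzx : x * z = z * x := hZx z hz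
      have h2 : ∀ m : ℕ, x ^ m * k * (x ^ m)⁻¹ = k * z ^ m := by
        intro m
        induction m with
        | zero => simp
        | succ m ihm =>
          calc x ^ (m + 1) * k * (x ^ (m + 1))⁻¹ = x * (x ^ m * k * (x ^ m)⁻¹) * x⁻¹ := by
                rw [pow_succ']; group
            _ = x * (k * z ^ m) * x⁻¹ := by rw [ihm]
            _ = (x * k * x⁻¹) * (x * z ^ m * x⁻¹) := by group
            _ = k * z * z ^ m := by
                have h3 : x * z ^ m = z ^ m * x := ((show Commute x z from hzx).pow_right m)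
                rw [h1, h3, mul_inv_cancel_right]
            _ = k * z ^ (m + 1) := by rw [pow_succ', mul_assoc]
      have h3 := h2 r
      rw [hxr] at h3
      have h4 : z ^ r = 1 := by simpa using h3
      have h5 : z = 1 := by
        have h6 : orderOf z ∣ r := orderOf_dvd_of_pow_eq_one h4
        have h7 : orderOf z ∣ Nat.card K := by
          have := orderOf_dvd_natCard (⟨z, hz.1⟩ : K)
          rwa [Subgroup.orderOf_mk] at this
        have h8 : orderOf z = 1 :=
          Nat.eq_one_of_dvd_coprimes ((Nat.Prime.coprime_iff_not_dvd hr).2 hrK) h6 h7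
        exact orderOf_eq_one_iff.1 h8
      apply hCK
      refine Subgroup.mem_inf.2 ⟨hk, ?_⟩
      have h9 : x * k = k * x := by
        have : x * k = (x * k * x⁻¹) * x := by group
        rw [this, h1, h5, mul_one]
      have h10 : Subgroup.zpowers x ≤ Subgroup.centralizer ({k} : Set G) := by
        rw [Subgroup.zpowers_le, Subgroup.mem_centralizer_iff]
        intro a ha
        rw [Set.mem_singleton_iff.1 ha]; exact h9.symm
      rw [Subgroup.mem_centralizer_iff]
      intro a ha
      exact ((Subgroup.mem_centralizer_iff.1 (h10 ha)) k rfl).symm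
    · intro h
      apply habel
      intro a ha b hb
      have h1 : b ∈ K ⊓ Subgroup.centralizer (K : Set G) := by rw [h]; exact hb
      exact (Subgroup.mem_centralizer_iff.1 h1.2) a ha
  · intro z hz k hk
    exact ((Subgroup.mem_centralizer_iff.1 hz.2) k hk).symm
  · intro k hk h
    refine Subgroup.mem_inf.2 ⟨hk, ?_⟩
    rw [Subgroup.mem_centralizer_iff]
    intro a ha
    exact (h a ha).symm
  · intro k hk k' hk'
    apply hK'Z
    have := Subgroup.commutator_mem_commutator hk hk'
    rwa [commutatorElement_def] at this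

/-- B&G Theorem 3.4 over an algebraically closed field -/
theorem comm_gen_algClosed {F : Type*} [Field F] [IsAlgClosed F] {G : Type u} [Group G]
    [Finite G] {V : Type v} [AddCommGroup V] [Module F V] [FiniteDimensional F V]
    (ρ : Representation F G V) (K : Subgroup G) (x : G) {r : ℕ} (hr : r.Prime) (hr2 : r ≠ 2)
    (hxr : x ^ r = 1) (hxK : ∀ k ∈ K, x * k * x⁻¹ ∈ K) (hsol : Group.IsSolvable K)
    (hodd : ((∀ a ∈ K, ∀ b ∈ K, a * b = b * a) ∨ ¬ (r - 1) ^ 2 ∣ Nat.card K)) (hrK : ¬ r ∣ Nat.card K) (hKF : (Nat.card K : F) ≠ 0)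
    (hrF : (r : F) ≠ 0) (hfix : ∀ v, ρ x v = v → v = 0) : ∀ k ∈ K, ρ (x * k) = ρ (k * x) := by
  set G₁ : Subgroup G := K ⊔ Subgroup.zpowers x with hG₁
  have hHG₁ : K ≤ G₁ := le_sup_left
  have hxG₁ : x ∈ G₁ := (le_sup_right : Subgroup.zpowers x ≤ G₁) (Subgroup.mem_zpowers x)
  have hHn : (K.subgroupOf G₁).Normal := by
    apply Subgroup.normal_subgroupOf_of_le_normalizer
    apply sup_le Subgroup.le_normalizer
    rw [Subgroup.zpowers_le]
    exact mem_normalizer_of_conj hr.pos hxr K hxK
  have hcard : Nat.card (K.subgroupOf G₁) = Nat.card K :=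
    Nat.card_congr (Subgroup.subgroupOfEquivOfLe hHG₁).toEquiv
  intro k hk
  have h1 := core_gen hr hr2 hrF (Nat.card (K.subgroupOf G₁) + finrank F V) G₁ V (ρ.comp G₁.subtype)
    (K.subgroupOf G₁) ⟨x, hxG₁⟩ rfl
    (Group.isSolvable_of_isSolvable_injective (f := (Subgroup.subgroupOfEquivOfLe hHG₁).toMonoidHom)
      (Subgroup.subgroupOfEquivOfLe hHG₁).injective)
    (by
      rw [eq_top_iff]
      rintro ⟨g, hg⟩ _
      have h2 : G₁ ≤ ((K.subgroupOf G₁ ⊔ Subgroup.zpowers ⟨x, hxG₁⟩ : Subgroup G₁)).map G₁.subtype := by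
        rw [Subgroup.map_sup, MonoidHom.map_zpowers]
        refine le_trans (le_of_eq hG₁) (sup_le_sup ?_ ?_)
        · intro h hh
          exact ⟨⟨h, hHG₁ hh⟩, hh, rfl⟩
        · exact le_rfl
      obtain ⟨g', hg', hgg⟩ := h2 hg
      have : g' = ⟨g, hg⟩ := Subtype.ext hgg
      rwa [this] at hg')
    (Subtype.ext (by simpa using hxr))
    (by
      rcases hodd with h | h
      · left
        intro a ha b hb
        exact Subtype.ext (h _ ha _ hb)
      · right
        rw [hcard]; exact h) (by rw [hcard]; exact hrK)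
    (by rw [hcard]; exact hKF)
    hfix ⟨k, hHG₁ hk⟩ hk
  exact h1

/-- B&G Theorem 3.4 over any field of coprime characteristic -/
theorem comm_gen {F : Type*} [Field F] {G : Type u} [Group G]
    [Finite G] {V : Type v} [AddCommGroup V] [Module F V] [FiniteDimensional F V]
    (ρ : Representation F G V) (K : Subgroup G) (x : G) {r : ℕ} (hr : r.Prime) (hr2 : r ≠ 2)
    (hxr : x ^ r = 1) (hxK : ∀ k ∈ K, x * k * x⁻¹ ∈ K) (hsol : Group.IsSolvable K)
    (hodd : ((∀ a ∈ K, ∀ b ∈ K, a * b = b * a) ∨ ¬ (r - 1) ^ 2 ∣ Nat.card K)) (hrK : ¬ r ∣ Nat.card K) (hKF : (Nat.card K : F) ≠ 0)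
    (hrF : (r : F) ≠ 0) (hfix : ∀ v, ρ x v = v → v = 0) : ∀ k ∈ K, ρ (x * k) = ρ (k * x) := by
  have hcast : ∀ n : ℕ, (n : F) ≠ 0 → (n : AlgebraicClosure F) ≠ 0 := by
    intro n hn h
    apply hn
    have h1 : algebraMap F (AlgebraicClosure F) (n : F) = 0 := by rw [map_natCast, h]
    exact (map_eq_zero _).1 h1
  have hsum : ∑ j ∈ Finset.range r, ρ x ^ j = 0 := by
    ext v
    rw [LinearMap.sum_apply]
    exact hfix _ (orb_fixed ρ x hxr v)
  have hsum' : ∑ j ∈ Finset.range r, bc (AlgebraicClosure F) ρ x ^ j = 0 := by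
    have h1 := congrArg (Module.End.baseChangeHom F (AlgebraicClosure F) V) hsum
    rw [map_sum, map_zero] at h1
    simp only [map_pow] at h1
    exact h1
  intro k hk
  apply eq_of_bc (F' := AlgebraicClosure F)
  apply comm_gen_algClosed (bc (AlgebraicClosure F) ρ) K x hr hr2 hxr hxK hsol hodd hrK
    (hcast _ hKF) (hcast _ hrF) _ k hk
  intro w hw
  have h1 := LinearMap.congr_fun hsum' w
  rw [LinearMap.sum_apply] at h1
  have h2 : ∀ j : ℕ, (bc (AlgebraicClosure F) ρ x ^ j) w = w := by
    intro j
    induction j with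
    | zero => simp
    | succ j ih => rw [pow_succ', Module.End.mul_apply, ih, hw]
  simp only [h2, Finset.sum_const, Finset.card_range, LinearMap.zero_apply] at h1
  rw [← Nat.cast_smul_eq_nsmul (AlgebraicClosure F)] at h1
  rcases smul_eq_zero.1 h1 with h3 | h3
  · exact absurd h3 (hcast _ hrF)
  · exact h3


end Cfsg.Agent.H271.ShultGen
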