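import Mathlib
import Cfsg.Agent.H271.ShultGen

/-!
Irreducible subrepresentations; the count lemma for subgroups `S` of a group acting irreducibly.
-/

set_option autoImplicit false

namespace Cfsg.Agent.H271.ShultRep

open Module
open Cfsg.Agent.OddOrderLocal.Thm34Base
open Cfsg.Agent.OddOrderLocal.Thm34 (inv_conj_mem mem_normalizer_of_conj)
open Cfsg.Agent.H271.ShultCount

theorem exists_irr {F : Type*} [Field F] {G : Type*} [Group G] {V : Type*} [AddCommGroup V] [Module F V]
    [FiniteDimensional F V] (ρ : Representation F G V) : ∀ (n : ℕ) (U : Submodule F V), finrank F U = n →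
    (∀ g, ∀ u ∈ U, ρ g u ∈ U) → U ≠ ⊥ →
    ∃ S : Subrepresentation ρ, S.toSubmodule ≤ U ∧ S.toSubmodule ≠ ⊥ ∧ S.toRepresentation.IsIrreducible := by
  intro n
  induction n using Nat.strong_induction_on with
  | _ n ih =>
  intro U hn hU hne
  by_cases hmin : ∃ U' : Submodule F V, U' < U ∧ (∀ g, ∀ u ∈ U', ρ g u ∈ U') ∧ U' ≠ ⊥
  · obtain ⟨U', h1, h2, h3⟩ := hmin
    obtain ⟨S, hS1, hS2, hS3⟩ := ih (finrank F U') (by rw [← hn]; exact Submodule.finrank_lt_finrank_of_lt h1) U' rfl h2 h3
    exact ⟨S, hS1.trans h1.le, hS2, hS3⟩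
  · push Not at hmin
    let S : Subrepresentation ρ := ⟨U, fun g u hu => hU g u hu⟩
    refine ⟨S, le_rfl, hne, ?_⟩
    have hcases : ∀ S' : Subrepresentation S.toRepresentation, S' = ⊥ ∨ S' = ⊤ := by
      intro S'
      let U' : Submodule F V := S'.toSubmodule.map U.subtype
      have hU'U : U' ≤ U := Submodule.map_subtype_le _ _
      have hinv : ∀ g, ∀ u ∈ U', ρ g u ∈ U' := by
        rintro g _ ⟨u, hu, rfl⟩
        exact ⟨S.toRepresentation g u, S'.apply_mem_toSubmodule g hu, rfl⟩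
      rcases hU'U.lt_or_eq with h | h
      · left
        have h1 : U' = ⊥ := by
          by_contra hne'
          exact hne' (hmin U' h hinv)
        apply Subrepresentation.toSubmodule_injective
        show S'.toSubmodule = ⊥
        rw [eq_bot_iff]
        intro u hu
        have h2 : (u : V) ∈ U' := ⟨u, hu, rfl⟩
        rw [h1, Submodule.mem_bot] at h2
        rw [Submodule.mem_bot]
        exact Subtype.ext h2
      · right
        apply Subrepresentation.toSubmodule_injective
        show S'.toSubmodule = ⊤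
        rw [eq_top_iff]
        intro u _
        have h2 : (u : V) ∈ U' := by rw [h]; exact u.2
        obtain ⟨u', hu', e⟩ := h2
        have : u' = u := Subtype.ext e
        rwa [this] at hu'
    have hnt : Nontrivial (Subrepresentation S.toRepresentation) := by
      refine ⟨⊥, ⊤, ?_⟩
      intro h
      have h1 : (⊥ : Submodule F S.toSubmodule) = ⊤ := congrArg Subrepresentation.toSubmodule h
      apply hne
      rw [eq_bot_iff]
      intro u hu
      have h2 : (⟨u, hu⟩ : S.toSubmodule) ∈ (⊤ : Submodule F S.toSubmodule) := trivial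
      rw [← h1, Submodule.mem_bot] at h2
      rw [Submodule.mem_bot]
      exact congrArg Subtype.val h2
    exact { eq_bot_or_eq_top := hcases }

/-- The count lemma for an `x`-invariant subgroup `S` with central subgroup `Z` of a group acting irreducibly -/
theorem count {F : Type*} [Field F] [IsAlgClosed F] {X : Type*} [Group X] [Finite X] {V : Type*} [AddCommGroup V]
    [Module F V] [FiniteDimensional F V] (ρ : Representation F X V) [hρ : ρ.IsIrreducible]
    (S Z : Subgroup X) (x : X) {r : ℕ} (hr : r.Prime) (hr2 : r ≠ 2) (hrF : (r : F) ≠ 0) (hxr : x ^ r = 1)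
    (hfix : ∀ v, ρ x v = v → v = 0) (hSF : (Nat.card S : F) ≠ 0)
    (hZS : Z ≤ S) (hZc : ∀ z ∈ Z, ∀ g : X, z * g = g * z) (hfaith : ∀ z ∈ Z, ρ z = 1 → z = 1)
    (hxS : ∀ s ∈ S, x * s * x⁻¹ ∈ S) (hSS : ∀ s ∈ S, ∀ t ∈ S, s * t * s⁻¹ * t⁻¹ ∈ Z)
    (hZmax : ∀ t ∈ S, (∀ s ∈ S, s * t = t * s) → t ∈ Z) :
    (∃ N : ℕ, Nat.card S = N ^ 2 * Nat.card Z) ∧
      ((∀ s ∈ S, s⁻¹ * (x * s * x⁻¹) ∈ Z → s ∈ Z) → Nat.card S ≤ (r - 1) ^ 2 * Nat.card Z) := by
  set Y : Subgroup X := S ⊔ Subgroup.zpowers x with hY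
  have hSY : S ≤ Y := le_sup_left
  have hxY : x ∈ Y := (le_sup_right : Subgroup.zpowers x ≤ Y) (Subgroup.mem_zpowers x)
  have hVn := nontrivial_of_irr ρ
  let ρY : Representation F Y V := ρ.comp Y.subtype
  obtain ⟨U, -, hU0, hU⟩ := exists_irr ρY (finrank F (⊤ : Submodule F V)) ⊤ rfl (fun _ _ _ => trivial) top_ne_bot
  -- elements of `Z` act as scalars on `V`
  have hZscal : ∀ z ∈ Z, ∃ c : F, ρ z = c • 1 := by
    intro z hz
    apply schur ρ
    intro g
    rw [← map_mul, ← map_mul, hZc z hz]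
  have hfaithU : ∀ z ∈ Z.subgroupOf Y, U.toRepresentation z = 1 → z = 1 := by
    intro z hz h
    have hz' : (z : X) ∈ Z := hz
    apply Subtype.ext
    apply hfaith _ hz'
    obtain ⟨c, hc⟩ := hZscal _ hz'
    obtain ⟨u, hu, hu0⟩ := Submodule.exists_mem_ne_zero_of_ne_bot hU0
    have h1 : ρ (z : X) u = u := by
      have h2 := LinearMap.congr_fun h ⟨u, hu⟩
      exact congrArg Subtype.val h2
    rw [hc, LinearMap.smul_apply, End.one_apply] at h1
    have h3 : (c - 1) • u = 0 := by rw [sub_smul, h1, one_smul, sub_self]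
    rcases smul_eq_zero.1 h3 with h4 | h4
    · rw [hc, sub_eq_zero.1 h4, one_smul]
    · exact absurd h4 hu0
  have hcS : Nat.card (S.subgroupOf Y) = Nat.card S := Nat.card_congr (Subgroup.subgroupOfEquivOfLe hSY).toEquiv
  have hcZ : Nat.card (Z.subgroupOf Y) = Nat.card Z := Nat.card_congr (Subgroup.subgroupOfEquivOfLe (hZS.trans hSY)).toEquiv
  have hgen : S.subgroupOf Y ⊔ Subgroup.zpowers (⟨x, hxY⟩ : Y) = ⊤ := by
    rw [eq_top_iff]
    rintro ⟨g, hg⟩ _
    have h2 : Y ≤ ((S.subgroupOf Y ⊔ Subgroup.zpowers ⟨x, hxY⟩ : Subgroup Y)).map Y.subtype := by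
      rw [Subgroup.map_sup, MonoidHom.map_zpowers]
      refine le_trans (le_of_eq hY) (sup_le_sup ?_ ?_)
      · intro h hh
        exact ⟨⟨h, hSY hh⟩, hh, rfl⟩
      · exact le_rfl
    obtain ⟨g', hg', hgg⟩ := h2 hg
    have : g' = ⟨g, hg⟩ := Subtype.ext hgg
    rwa [this] at hg'
  have hmain := nonabelian_count U.toRepresentation (hρ := hU) (S.subgroupOf Y) (Z.subgroupOf Y) ⟨x, hxY⟩
    (by intro z hz; exact hZS hz)
    (by intro z hz k _; exact Subtype.ext (hZc _ hz _))
    (by
      intro k hk h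
      apply hZmax _ hk
      intro s hs
      exact (congrArg Subtype.val (h ⟨s, hSY hs⟩ hs)).symm)
    (by intro k hk k' hk'; exact hSS _ hk _ hk')
    (by intro z hz; exact Subtype.ext (hZc _ hz _).symm)
    (by intro k hk; exact hxS _ hk)
    (by intro k hk; exact inv_conj_mem hr.pos hxr S hxS _ hk)
    hgen hr hrF (by rw [hcS]; exact hSF) (Subtype.ext (by simpa using hxr)) hfaithU
    (by
      intro v hv
      apply Subtype.ext
      exact hfix v (congrArg Subtype.val hv))
  rw [hcS, hcZ] at hmain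
  refine ⟨⟨_, hmain.1.symm⟩, ?_⟩
  intro h
  by_cases hZ : Z = S
  · rw [← hZ]
    have h1 : 1 ≤ (r - 1) ^ 2 := Nat.one_le_pow _ _ (by have := hr.two_le; omega)
    nlinarith
  · have h1 := hmain.2 hr2 (by
      intro k hk hz
      exact h _ hk hz) (by
      intro he
      apply hZ
      apply le_antisymm hZS
      intro s hs
      have h2 : (⟨s, hSY hs⟩ : Y) ∈ S.subgroupOf Y := hs
      rw [← he] at h2
      exact h2)
    have h2 : finrank F U.toSubmodule = r - 1 := by omega
    rw [← hmain.1, h2]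

end Cfsg.Agent.H271.ShultRep
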