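import Mathlib
import Cfsg.Agent.S1459
import Cfsg.Agent.Lib.FrattiniPGroup
import Cfsg.Prelude.Def_Transfer

/-!
Normal `2`-subgroups `T` all of whose normal (in the whole group) abelian subgroups are central.
-/

set_option autoImplicit false

open scoped commutatorElement

namespace Cfsg.Agent.H271.ShultTwo

open Subgroup

/-- powers and a central commutator -/
theorem pow_comm {G : Type*} [Group G] {s t c : G} (hc : s * t = c * (t * s)) (hcs : Commute c s) (hct : Commute c t)
    (a b : ℕ) : s ^ a * t ^ b = c ^ (a * b) * (t ^ b * s ^ a) := by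
  have h1 : ∀ a : ℕ, s ^ a * t = c ^ a * (t * s ^ a) := by
    intro a
    induction a with
    | zero => simp
    | succ a ih =>
      calc s ^ (a + 1) * t = s ^ a * (s * t) := by rw [pow_succ, mul_assoc]
        _ = s ^ a * (c * (t * s)) := by rw [hc]
        _ = (c * s ^ a) * (t * s) := by rw [← mul_assoc, (hcs.pow_right a).eq]
        _ = c * (s ^ a * t) * s := by group
        _ = c * (c ^ a * (t * s ^ a)) * s := by rw [ih]
        _ = c ^ (a + 1) * (t * s ^ (a + 1)) := by rw [pow_succ', pow_succ]; group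
  induction b with
  | zero => simp
  | succ b ih =>
    have h2 : Commute t (c ^ a) := (hct.symm.pow_right a)
    calc s ^ a * t ^ (b + 1) = (s ^ a * t ^ b) * t := by rw [pow_succ, mul_assoc]
      _ = c ^ (a * b) * (t ^ b * s ^ a) * t := by rw [ih]
      _ = c ^ (a * b) * t ^ b * (s ^ a * t) := by group
      _ = c ^ (a * b) * t ^ b * (c ^ a * (t * s ^ a)) := by rw [h1]
      _ = c ^ (a * b) * (t ^ b * c ^ a) * (t * s ^ a) := by group
      _ = c ^ (a * b) * (c ^ a * t ^ b) * (t * s ^ a) := by rw [(h2.pow_left b).eq]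
      _ = c ^ (a * b) * c ^ a * (t ^ b * t * s ^ a) := by group
      _ = c ^ (a * (b + 1)) * (t ^ (b + 1) * s ^ a) := by rw [← pow_add, ← pow_succ, Nat.mul_succ]

/-- the normal abelian subgroups are central -/
def AC {X : Type*} [Group X] (T : Subgroup X) : Prop :=
  ∀ A : Subgroup X, A ≤ T → A.Normal → (∀ a ∈ A, ∀ b ∈ A, a * b = b * a) → ∀ a ∈ A, ∀ t ∈ T, a * t = t * a

theorem lcs_normal {X : Type*} [Group X] (T : Subgroup X) [hT : T.Normal] (n : ℕ) : (T.lowerCentralSeries n).Normal := by
  induction n with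
  | zero => exact hT
  | succ n ih =>
    rw [Subgroup.lowerCentralSeries_succ]
    infer_instance

theorem class_two {X : Type*} [Group X] [Finite X] (T : Subgroup X) [hTn : T.Normal] {p : ℕ} [Fact p.Prime] (hT : IsPGroup p T) (h : AC T) :
    ∀ s ∈ T, ∀ t ∈ T, ∀ u ∈ T, (s * t * s⁻¹ * t⁻¹) * u = u * (s * t * s⁻¹ * t⁻¹) := by
  classical
  have hnil : Group.IsNilpotent T := hT.isNilpotent
  obtain ⟨N, hN⟩ := (Subgroup.isNilpotent_iff_lowerCentralSeries T).mp hnil
  -- the least term commuting with `T`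
  have hex : ∃ n, ∀ a ∈ T.lowerCentralSeries n, ∀ t ∈ T, a * t = t * a := by
    refine ⟨N, ?_⟩
    intro a ha t _
    rw [hN, Subgroup.mem_bot] at ha
    rw [ha, one_mul, mul_one]
  set n := Nat.find hex with hn
  have hn1 : ∀ a ∈ T.lowerCentralSeries n, ∀ t ∈ T, a * t = t * a := Nat.find_spec hex
  have hle : n ≤ 1 := by
    by_contra hcon
    push Not at hcon
    obtain ⟨m, hm⟩ : ∃ m, n = m + 1 := ⟨n - 1, by omega⟩
    have hmn : ¬ (∀ a ∈ T.lowerCentralSeries m, ∀ t ∈ T, a * t = t * a) := Nat.find_min hex (by omega)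
    apply hmn
    have hnorm := lcs_normal T m
    refine h (T.lowerCentralSeries m) (Subgroup.lowerCentralSeries_le_self T m) hnorm ?_
    -- `γ_m` is abelian
    have h1 : ⁅⁅T, T⁆, T.lowerCentralSeries m⁆ = ⊥ := by
      have hb : ⁅⁅T.lowerCentralSeries m, T⁆, T⁆ = ⊥ := by
        rw [← Subgroup.lowerCentralSeries_succ, Subgroup.commutator_eq_bot_iff_le_centralizer]
        intro a ha
        rw [Subgroup.mem_centralizer_iff]
        intro t ht
        rw [← hm] at ha
        exact (hn1 a ha t ht).symm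
      apply Subgroup.commutator_commutator_eq_bot_of_rotate
      · rw [Subgroup.commutator_comm T]; exact hb
      · exact hb
    have h2 : T.lowerCentralSeries m ≤ ⁅T, T⁆ := by
      have : T.lowerCentralSeries m ≤ T.lowerCentralSeries 1 := Subgroup.lowerCentralSeries_antitone _ (by omega)
      exact this
    intro a ha b hb
    rw [Subgroup.commutator_eq_bot_iff_le_centralizer] at h1
    exact (Subgroup.mem_centralizer_iff.mp (h1 (h2 ha)) b hb).symm
  intro s hs t ht u hu
  have h3 : s * t * s⁻¹ * t⁻¹ ∈ T.lowerCentralSeries n := by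
    have : T.lowerCentralSeries 1 ≤ T.lowerCentralSeries n := Subgroup.lowerCentralSeries_antitone _ hle
    apply this
    have := Subgroup.commutator_mem_commutator hs ht
    rw [commutatorElement_def] at this
    exact this
  exact hn1 _ h3 u hu

theorem sq_central {X : Type*} [Group X] [Finite X] (T : Subgroup X) [hTn : T.Normal] (hT : IsPGroup 2 T) (h : AC T) :
    ∀ t ∈ T, ∀ u ∈ T, (t * t) * u = u * (t * t) := by
  have : Fact (Nat.Prime 2) := ⟨Nat.prime_two⟩
  have hcl := class_two T hT h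
  -- commutators of powers
  have hpow : ∀ s ∈ T, ∀ t ∈ T, ∀ a b : ℕ, s ^ a * t ^ b = (s * t * s⁻¹ * t⁻¹) ^ (a * b) * (t ^ b * s ^ a) := by
    intro s hs t ht a b
    apply pow_comm
    · group
    · exact hcl s hs t ht s hs
    · exact hcl s hs t ht t ht
  let P : ℕ → Prop := fun j => ∀ t ∈ T, ∀ u ∈ T, t ^ (2 ^ j) * u = u * t ^ (2 ^ j)
  have hstep : ∀ j, 1 ≤ j → P (j + 1) → P j := by
    intro j hj hP
    let B : Subgroup X := closure {g | ∃ t ∈ T, g = t ^ (2 ^ j)}
    have hBT : B ≤ T := by
      rw [Subgroup.closure_le]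
      rintro _ ⟨t, ht, rfl⟩
      exact T.pow_mem ht _
    have hBn : B.Normal := by
      have : {g : X | ∃ t ∈ T, g = t ^ (2 ^ j)} = {g : X | ∃ t ∈ T, g = t ^ (2 ^ j)} := rfl
      constructor
      intro b hb g
      induction hb using Subgroup.closure_induction with
      | mem b hb =>
        obtain ⟨t, ht, rfl⟩ := hb
        apply Subgroup.subset_closure
        exact ⟨g * t * g⁻¹, hTn.conj_mem t ht g, by rw [conj_pow]⟩
      | one => rw [mul_one, mul_inv_cancel]; exact Subgroup.one_mem _
      | mul a b _ _ ha hb =>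
        have : g * (a * b) * g⁻¹ = (g * a * g⁻¹) * (g * b * g⁻¹) := by group
        rw [this]; exact Subgroup.mul_mem _ ha hb
      | inv a _ ha =>
        have : g * a⁻¹ * g⁻¹ = (g * a * g⁻¹)⁻¹ := by group
        rw [this]; exact Subgroup.inv_mem _ ha
    have hgen : ∀ a ∈ {g : X | ∃ t ∈ T, g = t ^ (2 ^ j)}, ∀ b ∈ {g : X | ∃ t ∈ T, g = t ^ (2 ^ j)}, a * b = b * a := by
      rintro _ ⟨s, hs, rfl⟩ _ ⟨t, ht, rfl⟩
      rw [hpow s hs t ht]
      have h1 := hpow s hs t ht (2 ^ (j + 1)) (2 ^ (j - 1))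
      have h2 := hP s hs (t ^ 2 ^ (j - 1)) (T.pow_mem ht _)
      rw [h2] at h1
      have h3 : (s * t * s⁻¹ * t⁻¹) ^ (2 ^ (j + 1) * 2 ^ (j - 1)) = 1 := by
        have := h1.symm
        exact mul_eq_right.mp this
      have h4 : 2 ^ j * 2 ^ j = 2 ^ (j + 1) * 2 ^ (j - 1) := by
        rw [← pow_add, ← pow_add]; congr 1; omega
      rw [h4, h3, one_mul]
    have hcomm : ∀ a ∈ B, ∀ b ∈ B, a * b = b * a := by
      have h1 := Subgroup.isMulCommutative_closure hgen
      intro a ha b hb
      have := h1.is_comm.comm ⟨a, ha⟩ ⟨b, hb⟩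
      exact congrArg Subtype.val this
    intro t ht u hu
    exact h B hBT hBn hcomm _ (Subgroup.subset_closure ⟨t, ht, rfl⟩) u hu
  obtain ⟨N, hN⟩ := IsPGroup.iff_card.1 hT
  have hbig : P (N + 1) := by
    intro t ht u _
    have h1 : t ^ 2 ^ (N + 1) = 1 := by
      have h2 := orderOf_dvd_natCard (⟨t, ht⟩ : T)
      rw [Subgroup.orderOf_mk, hN] at h2
      exact orderOf_dvd_iff_pow_eq_one.mp (h2.trans (pow_dvd_pow 2 (Nat.le_succ N)))
    rw [h1, one_mul, mul_one]
  have hall : ∀ k, k ≤ N → P (N + 1 - k) := by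
    intro k
    induction k with
    | zero => intro _; exact hbig
    | succ k ih =>
      intro hk
      have h1 := ih (by omega)
      have h2 : N + 1 - k = (N + 1 - (k + 1)) + 1 := by omega
      rw [h2] at h1
      exact hstep _ (by omega) h1
  intro t ht u hu
  have h1 := hall N le_rfl t ht u hu
  have h2 : N + 1 - N = 1 := by omega
  rw [h2, pow_one, pow_two] at h1
  exact h1

/-- three subgroups: a normal subgroup centralised by `x` is centralised by `K = [K, x]`. -/
theorem cent_of_fixed {X : Type*} [Group X] (A K : Subgroup X) [hA : A.Normal] {x : X} (hK : ⁅K, zpowers x⁆ = K)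
    (h : ∀ a ∈ A, x * a = a * x) : ∀ a ∈ A, ∀ g ∈ K, a * g = g * a := by
  have h0 : ⁅A, zpowers x⁆ = ⊥ := by
    rw [Subgroup.commutator_comm, Subgroup.commutator_eq_bot_iff_le_centralizer, zpowers_le, Subgroup.mem_centralizer_iff]
    intro a ha
    exact (h a ha).symm
  have h1 : ⁅⁅zpowers x, K⁆, A⁆ = ⊥ := by
    apply Subgroup.commutator_commutator_eq_bot_of_rotate
    · -- [[K, A], x]
      rw [eq_bot_iff]
      calc ⁅⁅K, A⁆, zpowers x⁆ ≤ ⁅A, zpowers x⁆ := Subgroup.commutator_mono (Subgroup.commutator_le_right K A) le_rfl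
        _ = ⊥ := h0
    · rw [h0, Subgroup.commutator_bot_left]
  rw [Subgroup.commutator_comm (zpowers x) K, hK, Subgroup.commutator_eq_bot_iff_le_centralizer] at h1
  intro a ha g hg
  exact (Subgroup.mem_centralizer_iff.mp (h1 hg) a ha)

/-- `2`-groups `K = [K, x]` whose normal abelian subgroups are centralised by `x` are special -/
theorem special {X : Type*} [Group X] [Finite X] (K : Subgroup X) [hKn : K.Normal] (hK2 : IsPGroup 2 K) (x : X)
    (hKx : ⁅K, zpowers x⁆ = K) (hcop : (Nat.card K).Coprime (Nat.card (zpowers x)))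
    (h : ∀ A : Subgroup X, A ≤ K → A.Normal → (∀ a ∈ A, ∀ b ∈ A, a * b = b * a) → ∀ a ∈ A, x * a = a * x) :
    Cfsg.IsSpecial 2 K := by
  have : Fact (Nat.Prime 2) := ⟨Nat.prime_two⟩
  have hAC : AC K := fun A hA hn hab => cent_of_fixed A K hKx (h A hA hn hab)
  have hcl := class_two K hK2 hAC
  have hsq := sq_central K hK2 hAC
  -- the centre of `K`
  have hZn : (K ⊓ centralizer (K : Set X)).Normal := inferInstance
  have hmemZ : ∀ z : K, z ∈ center K ↔ (z : X) ∈ K ⊓ centralizer (K : Set X) := by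
    intro z
    rw [Subgroup.mem_center_iff, Subgroup.mem_inf, Subgroup.mem_centralizer_iff]
    constructor
    · intro h
      exact ⟨z.2, fun g hg => congrArg Subtype.val (h ⟨g, hg⟩)⟩
    · intro h g
      exact Subtype.ext (h.2 g g.2)
  have hZx : ∀ z ∈ K ⊓ centralizer (K : Set X), x * z = z * x := by
    apply h _ inf_le_left hZn
    intro a ha b hb
    exact (Subgroup.mem_centralizer_iff.mp ha.2 b hb.1).symm
  -- `Z(K) ≤ K'`
  have hZK' : K ⊓ centralizer (K : Set X) ≤ ⁅K, K⁆ := by
    intro z hz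
    apply Cfsg.Agent.S1459.centralizer_le K (zpowers x) hKn hcop hKx.symm
    refine Subgroup.mem_inf.mpr ⟨hz.1, ?_⟩
    have h10 : zpowers x ≤ centralizer ({z} : Set X) := by
      rw [zpowers_le, Subgroup.mem_centralizer_iff]
      intro a ha
      rw [Set.mem_singleton_iff.1 ha]; exact (hZx z hz).symm
    rw [Subgroup.mem_centralizer_iff]
    intro a ha
    exact ((Subgroup.mem_centralizer_iff.1 (h10 ha)) z rfl).symm
  have hK'Z : ⁅K, K⁆ ≤ K ⊓ centralizer (K : Set X) := by
    rw [Subgroup.commutator_le]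
    intro a ha b hb
    refine Subgroup.mem_inf.mpr ⟨?_, ?_⟩
    · rw [commutatorElement_def]
      exact K.mul_mem (K.mul_mem (K.mul_mem ha hb) (K.inv_mem ha)) (K.inv_mem hb)
    · rw [Subgroup.mem_centralizer_iff]
      intro g hg
      rw [commutatorElement_def]
      exact (hcl a ha b hb g hg).symm
  have hcomm : commutator K = center K := by
    have h1 : (commutator K).map K.subtype = ⁅K, K⁆ := Subgroup.map_subtype_commutator K
    ext z
    rw [hmemZ]
    constructor
    · intro hz
      apply hK'Z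
      rw [← h1]
      exact ⟨z, hz, rfl⟩
    · intro hz
      have h2 := hZK' hz
      rw [← h1] at h2
      obtain ⟨w, hw, e⟩ := h2
      have : w = z := Subtype.ext e
      rwa [this] at hw
  refine ⟨hK2, ?_, hcomm⟩
  apply le_antisymm
  · apply Lib.FrattiniPGroup.frattini_le (p := 2) (center K)
    · intro a b
      rw [← hcomm]
      exact Subgroup.commutator_mem_commutator (Subgroup.mem_top a) (Subgroup.mem_top b)
    · intro a
      rw [hmemZ]
      refine Subgroup.mem_inf.mpr ⟨(a ^ 2).2, ?_⟩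
      rw [Subgroup.mem_centralizer_iff]
      intro g hg
      have := hsq a a.2 g hg
      rw [← pow_two] at this
      exact this.symm
  · rw [← hcomm]
    exact Lib.FrattiniPGroup.commutator_le_frattini hK2

end Cfsg.Agent.H271.ShultTwo
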