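import Mathlib
import Cfsg.Agent.H271.ShultRep
import Cfsg.Agent.H271.ShultTwo
import Cfsg.Agent.H272.ShultComp
import Cfsg.Agent.Lib.BenderMaximal
import Cfsg.Agent.Lib.GenFitting
import Cfsg.Agent.Lib.PGroupFixedVector
import Cfsg.Agent.SignalizersComponents.CompBasic

/-!
The situation of the theorem of Shult type
-/

set_option autoImplicit false

open scoped commutatorElement TensorProduct

namespace Cfsg.Agent.H271.ShultMain

open Cfsg Subgroup Module
open Cfsg.Agent.H271.ShultTwo Cfsg.Agent.H271.ShultGen Cfsg.Agent.H271.ShultRep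
open Cfsg.Agent.OddOrderLocal.Thm34 (inv_conj_mem mem_normalizer_of_conj bc bc_apply bc_tmul eq_of_bc)
open Cfsg.Agent.Lib.CoprimeCommutator (commutator_commutator_eq)

universe u v

structure Sh {k : Type*} [Field k] {X : Type u} [Group X] {V : Type v} [AddCommGroup V] [Module k V]
    (p r : ℕ) (ρ : Representation k X V) (K : Subgroup X) (x : X) : Prop where
  hr : r.Prime
  hr2 : r ≠ 2
  hpr : p ≠ r
  hxr : x ^ r = 1
  hKx : ⁅K, zpowers x⁆ = K
  hrK : ¬ r ∣ Nat.card K
  hfaith : ∀ g ∈ K, ρ g = 1 → g = 1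
  hfix : ∀ v, ρ x v = v → v = 0
  hOp : ∀ A : Subgroup X, A ≤ K → A.Normal → IsPGroup p A → A = ⊥

variable {k : Type*} [Field k] {X : Type u} [Group X] [Finite X] {V : Type v} [AddCommGroup V] [Module k V]
  [FiniteDimensional k V] {p r : ℕ} [hpp : Fact p.Prime] [CharP k p] {ρ : Representation k X V} {K : Subgroup X}
  [hKn : K.Normal] {x : X}

/-- abelian subgroups and subgroups of order not divisible by `(r - 1)²` -/
theorem Sh.fix (h : Sh p r ρ K x) (S : Subgroup X) (hSK : S ≤ K) (hxS : ∀ s ∈ S, x * s * x⁻¹ ∈ S) (hsol : Group.IsSolvable S)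
    (hD : (∀ a ∈ S, ∀ b ∈ S, a * b = b * a) ∨ ¬ (r - 1) ^ 2 ∣ Nat.card S) (hpS : ¬ p ∣ Nat.card S) :
    ∀ s ∈ S, x * s = s * x := by
  intro s hs
  have hSF : (Nat.card S : k) ≠ 0 := by
    rw [Ne, CharP.cast_eq_zero_iff k p]; exact hpS
  have hrF : (r : k) ≠ 0 := by
    rw [Ne, CharP.cast_eq_zero_iff k p, Nat.prime_dvd_prime_iff_eq hpp.out h.hr]
    exact h.hpr
  have h1 := comm_gen ρ S x h.hr h.hr2 h.hxr hxS hsol hD (fun hd => h.hrK (hd.trans (Subgroup.card_dvd_of_le hSK))) hSF hrF h.hfix s hs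
  have h2 : ρ (x * s * x⁻¹ * s⁻¹) = 1 := by
    have e : x * s * x⁻¹ * s⁻¹ = (x * s) * (s * x)⁻¹ := by group
    rw [e, map_mul, h1, ← map_mul, mul_inv_cancel, map_one]
  have h3 := h.hfaith _ (K.mul_mem (hSK (hxS s hs)) (K.inv_mem (hSK hs))) h2
  have e : x * s = (x * s * x⁻¹ * s⁻¹) * (s * x) := by group
  rw [e, h3, one_mul]

theorem not_dvd_odd {r n : ℕ} (hr : r.Prime) (hr2 : r ≠ 2) (hn : Odd n) : ¬ (r - 1) ^ 2 ∣ n := by
  intro hd
  have h1 : Odd r := hr.odd_of_ne_two hr2
  obtain ⟨j, hj⟩ := h1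
  have h2 : 2 ∣ (r - 1) ^ 2 := by
    rw [hj]
    exact Dvd.dvd.pow ⟨j, by omega⟩ (by norm_num)
  have h3 := h2.trans hd
  obtain ⟨a, ha⟩ := hn
  omega

/-- odd `q`-subgroups, `q ≠ p` -/
theorem Sh.fix_odd (h : Sh p r ρ K x) {q : ℕ} (hq : q.Prime) (hq2 : q ≠ 2) (hqp : q ≠ p) (S : Subgroup X) (hS : IsPGroup q S)
    (hSK : S ≤ K) (hxS : ∀ s ∈ S, x * s * x⁻¹ ∈ S) : ∀ s ∈ S, x * s = s * x := by
  have hqf : Fact q.Prime := ⟨hq⟩
  obtain ⟨n, hn⟩ := IsPGroup.iff_card.1 hS
  have hnil := hS.isNilpotent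
  refine h.fix S hSK hxS inferInstance (Or.inr ?_) ?_
  · apply not_dvd_odd h.hr h.hr2
    rw [hn]; exact (hq.odd_of_ne_two hq2).pow
  · rw [hn]
    intro hd
    exact hqp ((Nat.prime_dvd_prime_iff_eq hpp.out hq).mp (hpp.out.dvd_of_dvd_pow hd)).symm

/-- the automorphism of `K` induced by `x` -/
theorem conj_pow_eq (h : Sh p r ρ K x) : (MulAut.conjNormal (H := K) x) ^ r = 1 := by
  rw [← map_pow, h.hxr, map_one]

theorem map_subgroup_inv {S : Subgroup K} (hS : ∀ g ∈ S, (MulAut.conjNormal (H := K) x) g ∈ S) :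
    ∀ s ∈ S.map K.subtype, x * s * x⁻¹ ∈ S.map K.subtype := by
  rintro _ ⟨s, hs, rfl⟩
  exact ⟨_, hS s hs, rfl⟩

instance pcore_normal (q : ℕ) : ((pCore q K).map K.subtype).Normal := by
  have := Lib.Cores.pCore_characteristic (G := K) q
  infer_instance

instance layer_normal : ((layer K).map K.subtype).Normal := by
  have : (layer K).Characteristic := SignalizersComponents.Components.layer_characteristic _
  infer_instance

/-- there are no components -/
theorem Sh.layer_eq_bot (h : Sh p r ρ K x) : layer K = ⊥ := by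
  have h1 : ∀ g ∈ layer K, (MulAut.conjNormal (H := K) x) g = g := by
    apply H272.ShultComp.layer_fixed (MulAut.conjNormal (H := K) x) h.hr h.hr2 hpp.out (conj_pow_eq h) h.hrK
    intro s hs hs2 hsp S hS hxS g hg
    have := h.fix_odd hs hs2 hsp (S.map K.subtype) (hS.map _) (Subgroup.map_subtype_le _) (map_subgroup_inv hxS) g ⟨g, hg, rfl⟩
    apply Subtype.ext
    show x * (g : X) * x⁻¹ = g
    rw [this, mul_inv_cancel_right]
  have h2 : ∀ a ∈ (layer K).map K.subtype, ∀ g ∈ K, a * g = g * a := by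
    apply cent_of_fixed _ K h.hKx
    rintro _ ⟨a, ha, rfl⟩
    have := congrArg Subtype.val (h1 a ha)
    have h3 : x * (a : X) * x⁻¹ = a := this
    show x * (a : X) = a * x
    rw [← mul_inv_eq_iff_eq_mul]; exact h3
  rw [Lib.GenFitting.layer_def, eq_bot_iff]
  apply sSup_le
  intro L hL
  exfalso
  apply SignalizersComponents.Components.quasisimple_not_isMulCommutative hL.2
  refine ⟨⟨fun a b => ?_⟩⟩
  apply Subtype.ext
  apply Subtype.ext
  exact h2 _ ⟨(a : K), SignalizersComponents.Components.component_le_layer hL a.2, rfl⟩ _ (b : K).2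

theorem Sh.pcore_eq_bot (h : Sh p r ρ K x) : (pCore p K).map K.subtype = ⊥ :=
  h.hOp _ (Subgroup.map_subtype_le _) inferInstance ((Lib.Cores.pCore_isPGroup (G := K) p).map _)

/-- the centraliser of `O_2(K)` lies in the Fitting subgroup -/
theorem Sh.mem_fitting (h : Sh p r ρ K x) {g : K} (hg : ∀ t ∈ pCore 2 K, t * g = g * t) : g ∈ fittingSubgroup K := by
  refine (Lib.GenFitting.mem_fitting_of_layer_eq_bot h.layer_eq_bot ?_).2
  intro q hq y hy
  have hqf : Fact q.Prime := ⟨hq⟩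
  by_cases hq2 : q = 2
  · subst hq2; exact hg y hy
  by_cases hqp : q = p
  · subst hqp
    have h1 : (y : X) ∈ (pCore q K).map K.subtype := ⟨y, hy, rfl⟩
    rw [h.pcore_eq_bot, Subgroup.mem_bot] at h1
    have h2 : y = 1 := Subtype.ext h1
    rw [h2, one_mul, mul_one]
  · have h1 : ∀ s ∈ (pCore q K).map K.subtype, x * s = s * x :=
      h.fix_odd hq hq2 hqp _ ((Lib.Cores.pCore_isPGroup (G := K) q).map _) (Subgroup.map_subtype_le _)
        (fun s hs => (pcore_normal q).conj_mem s hs x)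
    have h2 := cent_of_fixed _ K h.hKx h1 (y : X) ⟨y, hy, rfl⟩ (g : X) g.2
    exact Subtype.ext h2

omit [Finite X] [FiniteDimensional k V] in
/-- a normal `p`-subgroup acts trivially on an irreducible module in characteristic `p` -/
theorem op_of_irr [Nontrivial V] (ρ : Representation k X V)
    (hirr : ∀ W : Submodule k V, (∀ g, ∀ w ∈ W, ρ g w ∈ W) → W = ⊥ ∨ W = ⊤) (A : Subgroup X) [Finite A] (hAn : A.Normal)
    (hA : IsPGroup p A) : ∀ a ∈ A, ρ a = 1 := by
  let W : Submodule k V :=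
    { carrier := {v | ∀ a ∈ A, ρ a v = v}
      zero_mem' := fun a _ => map_zero _
      add_mem' := fun {v w} hv hw a ha => by rw [map_add, hv a ha, hw a ha]
      smul_mem' := fun c v hv a ha => by rw [map_smul, hv a ha] }
  have hW : ∀ g, ∀ w ∈ W, ρ g w ∈ W := by
    intro g w hw a ha
    have h1 := hw (g⁻¹ * a * g) (by
      have := hAn.conj_mem a ha g⁻¹
      rwa [inv_inv] at this)
    calc ρ a (ρ g w) = ρ g (ρ (g⁻¹ * a * g) w) := by
          rw [← Module.End.mul_apply, ← Module.End.mul_apply, ← map_mul, ← map_mul]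
          congr 2; group
      _ = ρ g w := by rw [h1]
  obtain ⟨v, hv0, hv⟩ := Lib.PGroupFixedVector.exists_ne_zero_fixed_rep hA (ρ.comp A.subtype)
  rcases hirr W hW with h1 | h1
  · exfalso
    apply hv0
    have h2 : v ∈ W := fun a ha => hv ⟨a, ha⟩
    rw [h1, Submodule.mem_bot] at h2
    exact h2
  · intro a ha
    ext v
    have h2 : v ∈ W := by rw [h1]; trivial
    exact h2 a ha

omit [Finite X] [FiniteDimensional k V] in
/-- fixed points and base change -/
theorem bc_no_fixed (F : Type*) [Field F] [Algebra k F] (ρ : Representation k X V) {x : X} {r : ℕ} (hxr : x ^ r = 1)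
    (hrF : (r : k) ≠ 0) (hfix : ∀ v, ρ x v = v → v = 0) : ∀ w, bc F ρ x w = w → w = 0 := by
  have hsum : ∑ j ∈ Finset.range r, ρ x ^ j = 0 := by
    ext v
    rw [LinearMap.sum_apply]
    exact hfix _ (OddOrderLocal.Thm34Weights.orb_fixed ρ x hxr v)
  have hsum' : ∑ j ∈ Finset.range r, bc F ρ x ^ j = 0 := by
    have h1 := congrArg (Module.End.baseChangeHom k F V) hsum
    rw [map_sum, map_zero] at h1
    simp only [map_pow] at h1
    exact h1
  intro w hw
  have h1 := LinearMap.congr_fun hsum' w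
  rw [LinearMap.sum_apply] at h1
  have h2 : ∀ j : ℕ, (bc F ρ x ^ j) w = w := by
    intro j
    induction j with
    | zero => simp
    | succ j ih => rw [pow_succ', Module.End.mul_apply, ih, hw]
  simp only [h2, Finset.sum_const, Finset.card_range, LinearMap.zero_apply] at h1
  rw [← Nat.cast_smul_eq_nsmul F] at h1
  rcases smul_eq_zero.1 h1 with h3 | h3
  · exfalso
    apply hrF
    have h4 : algebraMap k F (r : k) = 0 := by rw [map_natCast, h3]
    exact (map_eq_zero _).1 h4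
  · exact h3

end Cfsg.Agent.H271.ShultMain
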