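import Mathlib
import Cfsg.Agent.H271.ShultMain
import Cfsg.Agent.H271.ShultEnd

/-!
The `p`-subgroups in the situation of the theorem of Shult type
-/

set_option autoImplicit false

open scoped commutatorElement TensorProduct

namespace Cfsg.Agent.H271.ShultImg

open Cfsg Subgroup Module
open Cfsg.Agent.H271.ShultTwo Cfsg.Agent.H271.ShultGen Cfsg.Agent.H271.ShultRep Cfsg.Agent.H271.ShultMain
open Cfsg.Agent.OddOrderLocal.Thm34 (inv_conj_mem mem_normalizer_of_conj bc bc_apply bc_tmul eq_of_bc)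
open Cfsg.Agent.OddOrderLocal.Thm34Base (irr_cases nontrivial_of_irr schur)
open Cfsg.Agent.Lib.CoprimeCommutator (commutator_commutator_eq)

universe u v

/-- the faithful quotient of an irreducible representation is irreducible -/
theorem irr_lift {F : Type*} [Field F] {Y : Type*} [Group Y] {W : Type*} [AddCommGroup W] [Module F W]
    (σ : Representation F Y W) [hσ : σ.IsIrreducible] :
    Representation.IsIrreducible (k := F) (G := Y ⧸ MonoidHom.ker σ) (V := W) (QuotientGroup.lift (MonoidHom.ker σ) σ le_rfl) := by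
  have hW := nontrivial_of_irr σ
  set τ : Representation F (Y ⧸ MonoidHom.ker σ) W := QuotientGroup.lift (MonoidHom.ker σ) σ le_rfl with hτ
  have hcases : ∀ S' : Subrepresentation τ, S' = ⊥ ∨ S' = ⊤ := by
    intro S'
    rcases irr_cases σ S'.toSubmodule (fun g w hw => S'.apply_mem_toSubmodule (QuotientGroup.mk g) hw) with h | h
    · left; exact Subrepresentation.toSubmodule_injective h
    · right; exact Subrepresentation.toSubmodule_injective h
  have hnt : Nontrivial (Subrepresentation τ) := by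
    refine ⟨⊥, ⊤, ?_⟩
    intro h
    have h1 : (⊥ : Submodule F W) = ⊤ := congrArg Subrepresentation.toSubmodule h
    exact bot_ne_top h1
  exact { eq_bot_or_eq_top := hcases }

theorem isPGroup_of_map {A B : Type*} [Group A] [Group B] {p : ℕ} (f : A →* B) {S : Subgroup A} (hS : IsPGroup p S) :
    IsPGroup p (S.map f) := hS.map f

/-- The core of the argument in a group acting faithfully and irreducibly -/
theorem core {F : Type*} [Field F] [IsAlgClosed F] {Q : Type u} [Group Q] [Finite Q] {W : Type v} [AddCommGroup W]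
    [Module F W] [FiniteDimensional F W] {p : ℕ} [hpp : Fact p.Prime] [CharP F p] (hp2 : p ≠ 2)
    (τ : Representation F Q W) [hτ : τ.IsIrreducible]
    (hfaith : ∀ q, τ q = 1 → q = 1) {r : ℕ} (hr : r.Prime) (hr2 : r ≠ 2) (hpr : p ≠ r) (K T P : Subgroup Q) [hKn : K.Normal]
    [hTn : T.Normal] (x : Q) (hxr : x ^ r = 1) (hKx : ⁅K, zpowers x⁆ = K) (hrK : ¬ r ∣ Nat.card K)
    (hfix : ∀ v, τ x v = v → v = 0) (hgen : K ⊔ zpowers x = ⊤) (hTK : T ≤ K) (hPK : P ≤ K) (hT : IsPGroup 2 T)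
    (hP : IsPGroup p P) (hxP : ∀ g ∈ P, x * g * x⁻¹ ∈ P) (hTT : ∀ s ∈ T, ∀ t ∈ T, ∀ u ∈ T, (s * t * s⁻¹ * t⁻¹) * u = u * (s * t * s⁻¹ * t⁻¹))
    (hsq : ∀ t ∈ T, ∀ u ∈ T, (t * t) * u = u * (t * t)) {m : ℕ} (hrm : r = 2 ^ m + 1) :
    ∀ g ∈ ⁅P, zpowers x⁆, ∀ t ∈ T, ∀ s ∈ T, (g * t * g⁻¹ * t⁻¹) * s = s * (g * t * g⁻¹ * t⁻¹) := by
  have hWn := nontrivial_of_irr τ
  have h2f : Fact (Nat.Prime 2) := ⟨Nat.prime_two⟩
  have hSh : Sh p r τ K x :=
    { hr := hr
      hr2 := hr2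
      hpr := hpr
      hxr := hxr
      hKx := hKx
      hrK := hrK
      hfaith := fun g _ h => hfaith g h
      hfix := hfix
      hOp := by
        intro A _ hAn hA
        rw [eq_bot_iff]
        intro a ha
        rw [Subgroup.mem_bot]
        exact hfaith a (op_of_irr τ (fun W hW => irr_cases τ W hW) A hAn hA a ha) }
  set Z : Subgroup Q := T ⊓ centralizer (T : Set Q) with hZ
  have hZn : Z.Normal := inferInstance
  have hZT : Z ≤ T := inf_le_left
  have hmemZ : ∀ z, z ∈ Z ↔ z ∈ T ∧ ∀ u ∈ T, z * u = u * z := by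
    intro z
    rw [hZ, Subgroup.mem_inf, Subgroup.mem_centralizer_iff]
    constructor
    · rintro ⟨h1, h2⟩; exact ⟨h1, fun u hu => (h2 u hu).symm⟩
    · rintro ⟨h1, h2⟩; exact ⟨h1, fun u hu => (h2 u hu).symm⟩
  have hZab : ∀ a ∈ Z, ∀ b ∈ Z, a * b = b * a := fun a ha b hb => ((hmemZ a).mp ha).2 b (hZT hb)
  have card2 : ∀ S : Subgroup Q, S ≤ T → ¬ p ∣ Nat.card S := by
    intro S hS hd
    obtain ⟨n, hn⟩ := IsPGroup.iff_card.1 (hT.to_le hS)
    rw [hn] at hd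
    exact hp2 ((Nat.prime_dvd_prime_iff_eq hpp.out Nat.prime_two).mp (hpp.out.dvd_of_dvd_pow hd))
  have hsolv : ∀ S : Subgroup Q, S ≤ T → Group.IsSolvable S := by
    intro S hS
    have := (hT.to_le hS).isNilpotent
    infer_instance
  have hZx : ∀ z ∈ Z, x * z = z * x :=
    hSh.fix Z (hZT.trans hTK) (fun z hz => hZn.conj_mem z hz x) (hsolv Z hZT) (Or.inl hZab) (card2 Z hZT)
  have hZK : ∀ z ∈ Z, ∀ g ∈ K, z * g = g * z := cent_of_fixed Z K hKx hZx
  have hZc : ∀ z ∈ Z, ∀ g : Q, z * g = g * z := by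
    intro z hz g
    have h1 : K ⊔ zpowers x ≤ centralizer {z} := by
      apply sup_le
      · intro g hg
        rw [Subgroup.mem_centralizer_singleton_iff]; exact (hZK z hz g hg).symm
      · rw [zpowers_le, Subgroup.mem_centralizer_singleton_iff]; exact hZx z hz
    rw [hgen] at h1
    exact (Subgroup.mem_centralizer_singleton_iff.mp (h1 (Subgroup.mem_top g))).symm
  have hrF : (r : F) ≠ 0 := by
    rw [Ne, CharP.cast_eq_zero_iff F p, Nat.prime_dvd_prime_iff_eq hpp.out hr]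
    exact hpr
  have hm : 1 ≤ m := by
    rcases Nat.eq_zero_or_pos m with h0 | h0
    · exfalso; rw [h0, pow_zero] at hrm; exact hr2 hrm
    · exact h0
  have hcnt : ∀ S : Subgroup Q, Z ≤ S → S ≤ T → (∀ s ∈ S, x * s * x⁻¹ ∈ S) → (∀ t ∈ S, (∀ s ∈ S, s * t = t * s) → t ∈ Z) →
      (∃ N : ℕ, Nat.card S = N ^ 2 * Nat.card Z) ∧
      ((∀ s ∈ S, s⁻¹ * (x * s * x⁻¹) ∈ Z → s ∈ Z) → Nat.card S ≤ (r - 1) ^ 2 * Nat.card Z) := by
    intro S hZS hST hxS hmax
    apply count τ S Z x hr hr2 hrF hxr hfix _ hZS hZc (fun z _ h => hfaith z h) hxS _ hmax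
    · rw [Ne, CharP.cast_eq_zero_iff F p]; exact card2 S hST
    · intro s hs t ht
      rw [hmemZ]
      refine ⟨?_, hTT s (hST hs) t (hST ht)⟩
      exact T.mul_mem (T.mul_mem (T.mul_mem (hST hs) (hST ht)) (T.inv_mem (hST hs))) (T.inv_mem (hST ht))
  have hend := ShultEnd.endgame T P Z x hpp.out hp2 hr hrm hm hT hP hxr hpr
    (fun g _ t ht => hTn.conj_mem t ht g) (fun t ht => hTn.conj_mem t ht x) hxP hZT (fun z hz g _ => hZc z hz g)
    (by
      intro s hs t ht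
      rw [hmemZ]
      exact ⟨T.mul_mem (T.mul_mem (T.mul_mem hs ht) (T.inv_mem hs)) (T.inv_mem ht), hTT s hs t ht⟩)
    (by
      intro t ht
      rw [hmemZ]
      exact ⟨T.mul_mem ht ht, hsq t ht⟩)
    (by
      intro t ht h
      rw [hmemZ]
      exact ⟨ht, fun u hu => (h u hu).symm⟩)
    (fun S h1 h2 h3 h4 => (hcnt S h1 h2 h3 h4).1)
    (fun S h1 h2 h3 h4 h5 => by
      have := (hcnt S h1 h2 h3 h4).2 h5
      have e : r - 1 = 2 ^ m := by rw [hrm, Nat.add_sub_cancel]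
      rwa [e] at this)
  intro g hg t ht s hs
  exact ((hmemZ _).mp (hend g hg t ht)).2 s hs

/-- The core of the argument in a group acting irreducibly -/
theorem core_irr {F : Type*} [Field F] [IsAlgClosed F] {Y : Type u} [Group Y] [Finite Y] {W : Type v} [AddCommGroup W]
    [Module F W] [FiniteDimensional F W] {p : ℕ} [hpp : Fact p.Prime] [CharP F p] (hp2 : p ≠ 2)
    (σ : Representation F Y W) [hσ : σ.IsIrreducible]
    {r : ℕ} (hr : r.Prime) (hr2 : r ≠ 2) (hpr : p ≠ r) (K T P : Subgroup Y) [hKn : K.Normal]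
    [hTn : T.Normal] (x : Y) (hxr : x ^ r = 1) (hKx : ⁅K, zpowers x⁆ = K) (hrK : ¬ r ∣ Nat.card K)
    (hfix : ∀ v, σ x v = v → v = 0) (hgen : K ⊔ zpowers x = ⊤) (hTK : T ≤ K) (hPK : P ≤ K) (hT : IsPGroup 2 T)
    (hP : IsPGroup p P) (hxP : ∀ g ∈ P, x * g * x⁻¹ ∈ P) (hPx : ⁅P, zpowers x⁆ = P)
    (hTT : ∀ s ∈ T, ∀ t ∈ T, ∀ u ∈ T, (s * t * s⁻¹ * t⁻¹) * u = u * (s * t * s⁻¹ * t⁻¹))
    (hsq : ∀ t ∈ T, ∀ u ∈ T, (t * t) * u = u * (t * t)) {m : ℕ} (hrm : r = 2 ^ m + 1) :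
    ∀ g ∈ P, ∀ t ∈ T, ∀ s ∈ T, σ ((g * t * g⁻¹ * t⁻¹) * s * (g * t * g⁻¹ * t⁻¹)⁻¹ * s⁻¹) = 1 := by
  have hNn : (MonoidHom.ker σ).Normal := MonoidHom.normal_ker σ
  have hτirr := irr_lift σ
  have hπs : Function.Surjective (QuotientGroup.mk' (MonoidHom.ker σ)) := QuotientGroup.mk'_surjective _
  have hKn' : (K.map (QuotientGroup.mk' (MonoidHom.ker σ))).Normal := Subgroup.Normal.map hKn _ hπs
  have hTn' : (T.map (QuotientGroup.mk' (MonoidHom.ker σ))).Normal := Subgroup.Normal.map hTn _ hπs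
  have hcore := core (F := F) (Q := Y ⧸ MonoidHom.ker σ) (W := W) hp2 (QuotientGroup.lift (MonoidHom.ker σ) σ le_rfl)
    (hτ := hτirr)
    (by
      intro q hq
      obtain ⟨g, rfl⟩ := hπs q
      exact (QuotientGroup.eq_one_iff g).mpr (MonoidHom.mem_ker.mpr hq))
    hr hr2 hpr (K.map (QuotientGroup.mk' (MonoidHom.ker σ))) (T.map (QuotientGroup.mk' (MonoidHom.ker σ)))
    (P.map (QuotientGroup.mk' (MonoidHom.ker σ))) (QuotientGroup.mk' (MonoidHom.ker σ) x)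
    (by rw [← map_pow, hxr, map_one])
    (by rw [← MonoidHom.map_zpowers, ← Subgroup.map_commutator, hKx])
    (fun hd => hrK (hd.trans (Subgroup.card_map_dvd K _)))
    (fun v hv => hfix v hv)
    (by rw [← MonoidHom.map_zpowers, ← Subgroup.map_sup, hgen, Subgroup.map_top_of_surjective _ hπs])
    (Subgroup.map_mono hTK) (Subgroup.map_mono hPK) (hT.map _) (hP.map _)
    (by
      rintro _ ⟨g, hg, rfl⟩
      exact ⟨x * g * x⁻¹, hxP _ hg, by simp only [map_mul, map_inv]⟩)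
    (by
      rintro _ ⟨a, ha, rfl⟩ _ ⟨b, hb, rfl⟩ _ ⟨d, hd, rfl⟩
      have h3 := congrArg (QuotientGroup.mk' (MonoidHom.ker σ)) (hTT a ha b hb d hd)
      simpa only [map_mul, map_inv] using h3)
    (by
      rintro _ ⟨a, ha, rfl⟩ _ ⟨d, hd, rfl⟩
      have h3 := congrArg (QuotientGroup.mk' (MonoidHom.ker σ)) (hsq a ha d hd)
      simpa only [map_mul, map_inv] using h3)
    hrm
  intro g hg t ht s hs
  have h1 := hcore (QuotientGroup.mk' (MonoidHom.ker σ) g) (by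
      rw [← MonoidHom.map_zpowers, ← Subgroup.map_commutator, hPx]
      exact ⟨g, hg, rfl⟩) (QuotientGroup.mk' (MonoidHom.ker σ) t) ⟨_, ht, rfl⟩ (QuotientGroup.mk' (MonoidHom.ker σ) s) ⟨_, hs, rfl⟩
  rw [← MonoidHom.mem_ker, ← QuotientGroup.eq_one_iff]
  show QuotientGroup.mk' (MonoidHom.ker σ) _ = 1
  simp only [map_mul, map_inv]
  rw [h1]; group

/-- The core of the argument -/
theorem core_gen {F : Type*} [Field F] [IsAlgClosed F] {Y : Type u} [Group Y] [Finite Y] {W : Type v} [AddCommGroup W]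
    [Module F W] [FiniteDimensional F W] {p : ℕ} [hpp : Fact p.Prime] [CharP F p] (hp2 : p ≠ 2)
    (σ : Representation F Y W)
    {r : ℕ} (hr : r.Prime) (hr2 : r ≠ 2) (hpr : p ≠ r) (K T P : Subgroup Y) [hKn : K.Normal]
    [hTn : T.Normal] (x : Y) (hxr : x ^ r = 1) (hKx : ⁅K, zpowers x⁆ = K) (hrK : ¬ r ∣ Nat.card K)
    (hfix : ∀ v, σ x v = v → v = 0) (hgen : K ⊔ zpowers x = ⊤) (hTK : T ≤ K) (hPK : P ≤ K) (hT : IsPGroup 2 T)
    (hP : IsPGroup p P) (hxP : ∀ g ∈ P, x * g * x⁻¹ ∈ P) (hPx : ⁅P, zpowers x⁆ = P)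
    (hTT : ∀ s ∈ T, ∀ t ∈ T, ∀ u ∈ T, (s * t * s⁻¹ * t⁻¹) * u = u * (s * t * s⁻¹ * t⁻¹))
    (hsq : ∀ t ∈ T, ∀ u ∈ T, (t * t) * u = u * (t * t)) {m : ℕ} (hrm : r = 2 ^ m + 1)
    {g t s : Y} (hg : g ∈ P) (ht : t ∈ T) (hs : s ∈ T)
    (hcen : ∀ y : Y, ((g * t * g⁻¹ * t⁻¹) * s * (g * t * g⁻¹ * t⁻¹)⁻¹ * s⁻¹) * y = y * ((g * t * g⁻¹ * t⁻¹) * s * (g * t * g⁻¹ * t⁻¹)⁻¹ * s⁻¹))
    {w : W} (hw0 : w ≠ 0) (hw : σ ((g * t * g⁻¹ * t⁻¹) * s * (g * t * g⁻¹ * t⁻¹)⁻¹ * s⁻¹) w = - w) : False := by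
  obtain ⟨c, hc⟩ : ∃ c, c = (g * t * g⁻¹ * t⁻¹) * s * (g * t * g⁻¹ * t⁻¹)⁻¹ * s⁻¹ := ⟨_, rfl⟩
  rw [← hc] at hw
  simp only [← hc] at hcen
  let U : Submodule F W := LinearMap.ker (σ c + 1)
  have hmemU : ∀ v, v ∈ U ↔ σ c v = - v := by
    intro v
    rw [LinearMap.mem_ker, LinearMap.add_apply, End.one_apply, add_eq_zero_iff_eq_neg]
  have hUinv : ∀ g, ∀ v ∈ U, σ g v ∈ U := by
    intro g v hv
    rw [hmemU] at hv ⊢
    rw [← End.mul_apply, ← map_mul, hcen, map_mul, End.mul_apply, hv, map_neg]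
  have hU0 : U ≠ ⊥ := by
    intro hb
    apply hw0
    rw [← Submodule.mem_bot F, ← hb, hmemU]
    exact hw
  obtain ⟨S, hSU, hS0, hSirr⟩ := exists_irr σ (finrank F U) U rfl hUinv hU0
  have h3 := core_irr (F := F) (Y := Y) (W := S.toSubmodule) hp2 S.toRepresentation (hσ := hSirr) hr hr2 hpr K T P x hxr
    hKx hrK (fun v hv => Subtype.ext (hfix _ (congrArg Subtype.val hv))) hgen hTK hPK hT hP hxP hPx hTT hsq hrm g hg t ht s hs
  rw [← hc] at h3
  obtain ⟨v, hv, hv0⟩ := Submodule.exists_mem_ne_zero_of_ne_bot hS0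
  have h4 : σ c v = v := congrArg Subtype.val (LinearMap.congr_fun h3 ⟨v, hv⟩)
  have h5 := (hmemU v).mp (hSU hv)
  rw [h4] at h5
  have h6 : (2 : F) • v = 0 := by
    rw [two_smul]
    nth_rewrite 1 [h5]
    rw [neg_add_cancel]
  rcases smul_eq_zero.1 h6 with h7 | h7
  · have h8 : ((2 : ℕ) : F) = 0 := by exact_mod_cast h7
    rw [CharP.cast_eq_zero_iff F p] at h8
    exact hp2 ((Nat.prime_dvd_prime_iff_eq hpp.out Nat.prime_two).mp h8)
  · exact hv0 h7

variable {k : Type*} [Field k] {X : Type u} [Group X] [Finite X] {V : Type v} [AddCommGroup V] [Module k V]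
  [FiniteDimensional k V] {p r : ℕ} [hpp : Fact p.Prime] [CharP k p] {ρ : Representation k X V} {K : Subgroup X}
  [hKn : K.Normal] {x : X}

/-- `p`-subgroups are centralised by `x` -/
theorem fix_p (h : Sh p r ρ K x) (hp2 : p ≠ 2) (P : Subgroup X) (hP : IsPGroup p P) (hPK : P ≤ K)
    (hxP : ∀ g ∈ P, x * g * x⁻¹ ∈ P) : ∀ g ∈ P, x * g = g * x := by
  classical
  have h2f : Fact (Nat.Prime 2) := ⟨Nat.prime_two⟩
  by_contra hcon
  set P₁ : Subgroup X := ⁅P, zpowers x⁆ with hP₁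
  have hxN : zpowers x ≤ normalizer (P : Set X) := by
    rw [zpowers_le]; exact mem_normalizer_of_conj h.hr.pos h.hxr P hxP
  have hxdvd : Nat.card (zpowers x) ∣ r := by
    rw [Nat.card_zpowers]; exact orderOf_dvd_of_pow_eq_one h.hxr
  have hcop : (Nat.card (zpowers x)).Coprime (Nat.card P) :=
    Nat.Coprime.coprime_dvd_left hxdvd ((Nat.Prime.coprime_iff_not_dvd h.hr).2
      (fun hd => h.hrK (hd.trans (Subgroup.card_dvd_of_le hPK))))
  have hP₁P : P₁ ≤ P := Lib.CoprimeCommutator.commutator_le_left hxN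
  have hP₁x : ⁅P₁, zpowers x⁆ = P₁ := commutator_commutator_eq (zpowers x) P hxN hcop
  have hP₁ne : P₁ ≠ ⊥ := by
    intro hb
    apply hcon
    rw [hP₁, Subgroup.commutator_comm, Subgroup.commutator_eq_bot_iff_le_centralizer, zpowers_le,
      Subgroup.mem_centralizer_iff] at hb
    intro g hg
    exact (hb g hg).symm
  have hP₁n : zpowers x ≤ normalizer (P₁ : Set X) := Lib.CoprimeCommutator.right_le_normalizer_commutator P (zpowers x)
  have hxP₁ : ∀ g ∈ P₁, x * g * x⁻¹ ∈ P₁ := by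
    intro g hg
    exact ((Subgroup.mem_normalizer_iff).1 (hP₁n (Subgroup.mem_zpowers x)) g).1 hg
  have hP₁K : P₁ ≤ K := hP₁P.trans hPK
  set T : Subgroup X := (pCore 2 K).map K.subtype with hT
  have hTn : T.Normal := pcore_normal 2
  have hTK : T ≤ K := Subgroup.map_subtype_le _
  have hT2 : IsPGroup 2 T := (Lib.Cores.pCore_isPGroup (G := K) 2).map _
  have card2 : ∀ S : Subgroup X, S ≤ T → ¬ p ∣ Nat.card S := by
    intro S hS hd
    obtain ⟨n, hn⟩ := IsPGroup.iff_card.1 (hT2.to_le hS)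
    rw [hn] at hd
    exact hp2 ((Nat.prime_dvd_prime_iff_eq hpp.out Nat.prime_two).mp (hpp.out.dvd_of_dvd_pow hd))
  have hsolv : ∀ S : Subgroup X, S ≤ T → Group.IsSolvable S := by
    intro S hS
    have := (hT2.to_le hS).isNilpotent
    infer_instance
  -- `P₁` does not centralise `T`
  have hne : ¬ ∀ g ∈ P₁, ∀ t ∈ T, t * g = g * t := by
    intro hc
    apply hP₁ne
    have h1 : P₁ ≤ (fittingSubgroup K).map K.subtype := by
      intro g hg
      refine ⟨⟨g, hP₁K hg⟩, h.mem_fitting ?_, rfl⟩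
      intro t ht
      exact Subtype.ext (hc g hg t ⟨t, ht, rfl⟩)
    have h2 := Lib.BenderMaximal.le_map_pCore_of_le_fitting (hP.to_le hP₁P) h1
    rw [h.pcore_eq_bot] at h2
    exact le_bot_iff.mp h2
  have hfixA : ∀ A : Subgroup X, A ≤ T → A.Normal → (∀ a ∈ A, ∀ b ∈ A, a * b = b * a) → ∀ a ∈ A, x * a = a * x := by
    intro A hAT hAn hab
    exact h.fix A (hAT.trans hTK) (fun a ha => hAn.conj_mem a ha x) (hsolv A hAT) (Or.inl hab) (card2 A hAT)
  have hAC : AC T := by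
    intro A hAT hAn hab a ha t ht
    exact cent_of_fixed A K h.hKx (hfixA A hAT hAn hab) a ha t (hTK ht)
  have hcl := class_two T hT2 hAC
  have hsq := sq_central T hT2 hAC
  set Z : Subgroup X := T ⊓ centralizer (T : Set X) with hZ
  have hZn : Z.Normal := inferInstance
  have hZT : Z ≤ T := inf_le_left
  have hmemZ : ∀ z, z ∈ Z ↔ z ∈ T ∧ ∀ u ∈ T, z * u = u * z := by
    intro z
    rw [hZ, Subgroup.mem_inf, Subgroup.mem_centralizer_iff]
    constructor
    · rintro ⟨h1, h2⟩; exact ⟨h1, fun u hu => (h2 u hu).symm⟩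
    · rintro ⟨h1, h2⟩; exact ⟨h1, fun u hu => (h2 u hu).symm⟩
  have hZab : ∀ a ∈ Z, ∀ b ∈ Z, a * b = b * a := fun a ha b hb => ((hmemZ a).mp ha).2 b (hZT hb)
  have hZx := hfixA Z hZT hZn hZab
  have hZK : ∀ z ∈ Z, ∀ g ∈ K, z * g = g * z := cent_of_fixed Z K h.hKx hZx
  -- `r = 2 ^ m + 1`
  obtain ⟨m, hrm⟩ : ∃ m, r = 2 ^ m + 1 := by
    by_contra hnf
    apply hne
    have h1 : ∀ t ∈ T, x * t = t * x := by
      apply h.fix T hTK (fun t ht => hTn.conj_mem t ht x) (hsolv T le_rfl) (Or.inr _) (card2 T le_rfl)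
      intro hd
      obtain ⟨n, hn⟩ := IsPGroup.iff_card.1 hT2
      rw [hn] at hd
      obtain ⟨j, _, hj⟩ := (Nat.dvd_prime_pow Nat.prime_two).mp ((Dvd.intro_left _ (by ring : (r - 1) * (r - 1) = (r - 1) ^ 2)).trans hd)
      apply hnf
      exact ⟨j, by have := h.hr.one_le; omega⟩
    intro g hg t ht
    exact cent_of_fixed T K h.hKx h1 t ht g (hP₁K hg)
  -- the commutator `c`
  obtain ⟨g, hg, t, ht, hu⟩ : ∃ g ∈ P₁, ∃ t ∈ T, g * t * g⁻¹ * t⁻¹ ∉ Z := by
    by_contra hcon2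
    push Not at hcon2
    apply hne
    have h1 : ⁅T, P₁⁆ ≤ Z := by
      rw [Subgroup.commutator_comm, Subgroup.commutator_le]
      intro g hg t ht
      rw [commutatorElement_def]; exact hcon2 g hg t ht
    have h2 : ⁅⁅T, P₁⁆, P₁⁆ = ⊥ := by
      rw [eq_bot_iff]
      calc ⁅⁅T, P₁⁆, P₁⁆ ≤ ⁅Z, P₁⁆ := Subgroup.commutator_mono h1 le_rfl
        _ ≤ ⊥ := by
          rw [Subgroup.commutator_le]
          intro z hz g hg
          rw [Subgroup.mem_bot, commutatorElement_eq_one_iff_mul_comm]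
          exact hZK z hz g (hP₁K hg)
    have hcop2 : (Nat.card P₁).Coprime (Nat.card T) := by
      obtain ⟨a, ha⟩ := IsPGroup.iff_card.1 (hP.to_le hP₁P)
      obtain ⟨b, hb⟩ := IsPGroup.iff_card.1 hT2
      rw [ha, hb]
      apply Nat.Coprime.pow
      rw [Nat.coprime_primes hpp.out Nat.prime_two]; exact hp2
    have h3 := commutator_commutator_eq P₁ T (by rw [Subgroup.normalizer_eq_top]; exact le_top) hcop2
    rw [h2, eq_comm, Subgroup.commutator_comm, Subgroup.commutator_eq_bot_iff_le_centralizer] at h3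
    intro g hg t ht
    exact Subgroup.mem_centralizer_iff.mp (h3 hg) t ht
  set u := g * t * g⁻¹ * t⁻¹ with hudef
  have huT : u ∈ T := T.mul_mem (hTn.conj_mem t ht g) (T.inv_mem ht)
  obtain ⟨s, hs, hus⟩ : ∃ s ∈ T, u * s ≠ s * u := by
    by_contra hcon2
    push Not at hcon2
    exact hu ((hmemZ u).mpr ⟨huT, hcon2⟩)
  set c := u * s * u⁻¹ * s⁻¹ with hcdef
  have hc1 : c ≠ 1 := by
    intro h1
    apply hus
    have e : u * s = c * (s * u) := by rw [hcdef]; group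
    rw [e, h1, one_mul]
  have hcT : c ∈ T := T.mul_mem (T.mul_mem (T.mul_mem huT hs) (T.inv_mem huT)) (T.inv_mem hs)
  have hcZ : c ∈ Z := (hmemZ c).mpr ⟨hcT, hcl u huT s hs⟩
  have hc2 : c * c = 1 := by
    have h1 := pow_comm (s := u) (t := s) (c := c) (by rw [hcdef]; group) (hcl u huT s hs u huT) (hcl u huT s hs s hs) 2 1
    rw [pow_one, mul_one, pow_two, pow_two, hsq u huT s hs] at h1
    exact (right_eq_mul.mp h1)
  -- the base change
  have hchF : CharP (AlgebraicClosure k) p := charP_of_injective_algebraMap (algebraMap k (AlgebraicClosure k)).injective p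
  have hrk : (r : k) ≠ 0 := by
    rw [Ne, CharP.cast_eq_zero_iff k p, Nat.prime_dvd_prime_iff_eq hpp.out h.hr]
    exact h.hpr
  have hfixF := bc_no_fixed (AlgebraicClosure k) ρ h.hxr hrk h.hfix
  set X₁ : Subgroup X := K ⊔ zpowers x with hX₁
  have hKX₁ : K ≤ X₁ := le_sup_left
  have hxX₁ : x ∈ X₁ := (le_sup_right : zpowers x ≤ X₁) (Subgroup.mem_zpowers x)
  have hcX₁ : ∀ g ∈ X₁, c * g = g * c := by
    intro g hg
    have h1 : X₁ ≤ centralizer {c} := by
      apply sup_le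
      · intro g hg
        rw [Subgroup.mem_centralizer_singleton_iff]; exact (hZK c hcZ g hg).symm
      · rw [zpowers_le, Subgroup.mem_centralizer_singleton_iff]; exact hZx c hcZ
    exact (Subgroup.mem_centralizer_singleton_iff.mp (h1 hg)).symm
  obtain ⟨v, hv⟩ : ∃ v, ρ c v ≠ v := by
    by_contra hall
    push Not at hall
    exact hc1 (h.hfaith c (hTK hcT) (LinearMap.ext fun v => by rw [hall v]; rfl))
  have hw0 : (1 : AlgebraicClosure k) ⊗ₜ[k] (v - ρ c v) ≠ 0 := by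
    rw [Ne, Module.FaithfullyFlat.one_tmul_eq_zero_iff, sub_eq_zero]
    exact fun e => hv e.symm
  have hw : bc (AlgebraicClosure k) ρ c ((1 : AlgebraicClosure k) ⊗ₜ[k] (v - ρ c v)) =
      - ((1 : AlgebraicClosure k) ⊗ₜ[k] (v - ρ c v)) := by
    rw [bc_tmul, map_sub, ← End.mul_apply, ← map_mul, hc2, map_one, End.one_apply, ← TensorProduct.tmul_neg, neg_sub]
  have hTX₁ : T ≤ X₁ := hTK.trans hKX₁
  have hPX₁ : P₁ ≤ X₁ := hP₁K.trans hKX₁
  have hmapsub : ∀ A : Subgroup X, A ≤ X₁ → (A.subgroupOf X₁).map X₁.subtype = A := by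
    intro A hA
    rw [Subgroup.subgroupOf_map_subtype, inf_eq_left.mpr hA]
  have hmapz : (zpowers (⟨x, hxX₁⟩ : X₁)).map X₁.subtype = zpowers x := by
    rw [MonoidHom.map_zpowers]; rfl
  have hcomm' : ∀ A : Subgroup X, A ≤ X₁ → ⁅A, zpowers x⁆ = A →
      ⁅(A.subgroupOf X₁), zpowers (⟨x, hxX₁⟩ : X₁)⁆ = A.subgroupOf X₁ := by
    intro A hA hAx
    apply Subgroup.map_injective X₁.subtype_injective
    rw [Subgroup.map_commutator, hmapsub A hA, hmapz, hAx]
  have hKn1 : (K.subgroupOf X₁).Normal := hKn.subgroupOf X₁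
  have hTn1 : (T.subgroupOf X₁).Normal := hTn.subgroupOf X₁
  exact core_gen (F := AlgebraicClosure k) hp2 ((bc (AlgebraicClosure k) ρ).comp X₁.subtype) h.hr h.hr2 h.hpr
    (K.subgroupOf X₁) (T.subgroupOf X₁) (P₁.subgroupOf X₁) ⟨x, hxX₁⟩ (Subtype.ext (by simpa using h.hxr))
    (hcomm' K hKX₁ h.hKx)
    (by
      rw [Nat.card_congr (Subgroup.subgroupOfEquivOfLe hKX₁).toEquiv]
      exact h.hrK)
    hfixF
    (by
      apply Subgroup.map_injective X₁.subtype_injective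
      rw [Subgroup.map_sup, hmapsub K hKX₁, hmapz, ← MonoidHom.range_eq_map, Subgroup.range_subtype])
    (fun t ht => hTK ht) (fun g hg => hP₁K hg)
    (hT2.comap_of_injective X₁.subtype X₁.subtype_injective)
    ((hP.to_le hP₁P).comap_of_injective X₁.subtype X₁.subtype_injective)
    (fun g hg => hxP₁ _ hg) (hcomm' P₁ hPX₁ hP₁x)
    (fun a ha b hb d hd => Subtype.ext (hcl a ha b hb d hd))
    (fun a ha d hd => Subtype.ext (hsq a ha d hd)) hrm
    (g := ⟨g, hPX₁ hg⟩) (t := ⟨t, hTX₁ ht⟩) (s := ⟨s, hTX₁ hs⟩) hg ht hs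
    (fun y => Subtype.ext (hcX₁ y y.2)) hw0 hw

end Cfsg.Agent.H271.ShultImg
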