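import Cfsg.Agent.H897.Data
import Cfsg.Agent.H897.Syl
import Cfsg.Agent.H944.TS.Iface

/-!
# `A₁₃` is not a subgroup of `²E₆(2)` (S5741, N5, helper271)

The elements of order 11 of `²E₆(2)` are not real: two elements of the torus of `E₆(k)` are conjugate if and only if they
are conjugate under `W(E₆)`, and the sum of the fifth powers of the 27 weights of the minuscule module is an invariant of
`W(E₆)` of odd degree which does not vanish on them. In `A₁₃` the elements of order 11 are real.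
-/

set_option autoImplicit false
set_option linter.unusedSectionVars false

namespace Cfsg.Agent.H271.TSAlt

open CoxeterSystem Cfsg Cfsg.Lie Cfsg.Agent.ChevalleyStructure Cfsg.Agent.ChevalleyStructure.Elts
  Cfsg.Agent.ChevalleyStructure.CoxeterGeom Cfsg.Agent.ChevalleyStructure.CoxeterGeomTypes
  Cfsg.Agent.Tits.Roots
  Cfsg.Agent.Tits.Core Cfsg.Agent.Nodes.Reps
  Cfsg.Agent.Nodes.BNOf Cfsg.Agent.Nodes.RGDChev Cfsg.Agent.KFacts.RgdField Cfsg.Agent.KFacts.RgdChevCoord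
  Cfsg.Agent.BpExc.Tow Cfsg.Agent.BpExc.TowChev Cfsg.Agent.BpExc.LangFr Cfsg.Agent.BpExc.Fr
  Cfsg.Agent.BpExc.TorCent Cfsg.Agent.H897.Lat Cfsg.Agent.H897.Sg Cfsg.Agent.H897.Tor Cfsg.Agent.H897.Cen
  Cfsg.Agent.H897.Orb Cfsg.Agent.H897.Emb Cfsg.Agent.H897.Frm Cfsg.Agent.H897.Cas Cfsg.Agent.H897.Syl
  Cfsg.Agent.H897.Data
open Cfsg.Agent.BpExc.FamTw.Six (em coe_em em_injective sig_em)

universe u v

/-! ### the invariant of degree five -/

/-- the weights of the 27-dimensional module, times 3 -/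
def wl : List V :=
  [![4,3,5,6,4,2], ![1,3,5,6,4,2], ![1,3,2,6,4,2], ![1,3,2,3,4,2], ![1,0,2,3,4,2], ![1,3,2,3,1,2],
   ![1,0,2,3,1,2], ![1,3,2,3,1,-1], ![1,0,2,0,1,2], ![1,0,2,3,1,-1], ![1,0,-1,0,1,2], ![1,0,2,0,1,-1],
   ![-2,0,-1,0,1,2], ![1,0,-1,0,1,-1], ![1,0,2,0,-2,-1], ![-2,0,-1,0,1,-1], ![1,0,-1,0,-2,-1],
   ![-2,0,-1,0,-2,-1], ![1,0,-1,-3,-2,-1], ![-2,0,-1,-3,-2,-1], ![1,-3,-1,-3,-2,-1],
   ![-2,-3,-1,-3,-2,-1], ![-2,0,-4,-3,-2,-1], ![-2,-3,-4,-3,-2,-1], ![-2,-3,-4,-6,-2,-1],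
   ![-2,-3,-4,-6,-5,-1], ![-2,-3,-4,-6,-5,-4]]

theorem wl_perm : ∀ i : Fin 6, (wl.map (rf (sr i))).Perm wl := by decide +kernel

section

variable {W : Type*} [Group W] (cs : CoxeterSystem CoxeterMatrix.E₆ W)

theorem wl_rep (w : W) : (wl.map (rep cs hp.isCartan w)).Perm wl := by
  obtain ⟨ω, rfl⟩ := cs.wordProd_surjective w
  induction ω with
  | nil =>
    have h : wl.map (rep cs hp.isCartan (cs.wordProd [])) = wl := by
      rw [wordProd_nil, map_one]
      exact List.map_id wl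
    rw [h]
  | cons i ω ih =>
    have h : wl.map (rep cs hp.isCartan (cs.wordProd (i :: ω))) =
        (wl.map (rep cs hp.isCartan (cs.wordProd ω))).map (rf (sr i)) := by
      rw [List.map_map]
      refine List.map_congr_left fun x _ => ?_
      rw [wordProd_cons, rep_mul_apply, rep_simple']
      rfl
    rw [h]
    exact (ih.map _).trans (wl_perm i)

end

/-- the sum of the fifth powers -/
def f5 (c : V) : ℤ := (wl.map fun x => dot c x ^ 5).sum

theorem f5_smul (m : ℤ) (c : V) : f5 (m • c) = m ^ 5 * f5 c := by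
  unfold f5
  rw [← List.sum_map_mul_left]
  congr 1
  refine List.map_congr_left fun x _ => ?_
  rw [smul_dot, mul_pow]

theorem f5_c11 : ¬ (11 : ℤ) ∣ f5 c11 := by decide +kernel

/-- congruent sums -/
theorem sum_congr_mod (l : List V) {f g : V → ℤ} (h : ∀ x, (11 : ℤ) ∣ f x + g x) :
    (11 : ℤ) ∣ (l.map f).sum + (l.map g).sum := by
  induction l with
  | nil => simp
  | cons a l ih =>
    simp only [List.map_cons, List.sum_cons]
    have := dvd_add (h a) ih
    have e : f a + (l.map f).sum + (g a + (l.map g).sum) = f a + g a + ((l.map f).sum + (l.map g).sum) := by ring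
    rw [e]
    exact this

theorem f5_dvd {W : Type*} [Group W] (cs : CoxeterSystem CoxeterMatrix.E₆ W) {w : W} {c : V}
    (h : ∀ i : Fin 6, (11 : ℤ) ∣ dot c (rep cs hp.isCartan w (sr i)) + dot c (sr i)) : (11 : ℤ) ∣ f5 c := by
  have h1 : ∀ x : V, (11 : ℤ) ∣ dot c (rep cs hp.isCartan w x) + dot c x := by
    intro x
    have e1 : rep cs hp.isCartan w x = x 0 • rep cs hp.isCartan w (sr 0) + x 1 • rep cs hp.isCartan w (sr 1) +
        x 2 • rep cs hp.isCartan w (sr 2) + x 3 • rep cs hp.isCartan w (sr 3) +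
        x 4 • rep cs hp.isCartan w (sr 4) + x 5 • rep cs hp.isCartan w (sr 5) := by
      conv_lhs => rw [eq_sum x]
      simp only [map_add, map_zsmul]
    have e2 : dot c x = dot c (x 0 • sr 0 + x 1 • sr 1 + x 2 • sr 2 + x 3 • sr 3 + x 4 • sr 4 + x 5 • sr 5) := by
      rw [← eq_sum x]
    have e : dot c (rep cs hp.isCartan w x) + dot c x =
        x 0 * (dot c (rep cs hp.isCartan w (sr 0)) + dot c (sr 0)) +
        x 1 * (dot c (rep cs hp.isCartan w (sr 1)) + dot c (sr 1)) +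
        x 2 * (dot c (rep cs hp.isCartan w (sr 2)) + dot c (sr 2)) +
        x 3 * (dot c (rep cs hp.isCartan w (sr 3)) + dot c (sr 3)) +
        x 4 * (dot c (rep cs hp.isCartan w (sr 4)) + dot c (sr 4)) +
        x 5 * (dot c (rep cs hp.isCartan w (sr 5)) + dot c (sr 5)) := by
      rw [e1, e2]
      simp only [dot_add, dot_smul]
      ring
    rw [e]
    exact dvd_add (dvd_add (dvd_add (dvd_add (dvd_add (Dvd.dvd.mul_left (h 0) _) (Dvd.dvd.mul_left (h 1) _))
      (Dvd.dvd.mul_left (h 2) _)) (Dvd.dvd.mul_left (h 3) _)) (Dvd.dvd.mul_left (h 4) _)) (Dvd.dvd.mul_left (h 5) _)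
  have h2 : (11 : ℤ) ∣ (wl.map fun x => dot c (rep cs hp.isCartan w x) ^ 5).sum + (wl.map fun x => dot c x ^ 5).sum := by
    refine sum_congr_mod wl fun x => ?_
    have := h1 x
    have h3 : dot c (rep cs hp.isCartan w x) + dot c x ∣ dot c (rep cs hp.isCartan w x) ^ 5 + dot c x ^ 5 :=
      Odd.add_dvd_pow_add_pow _ _ (by decide)
    exact this.trans h3
  have h3 : (wl.map fun x => dot c (rep cs hp.isCartan w x) ^ 5).sum = f5 c := by
    have h4 : (wl.map fun x => dot c (rep cs hp.isCartan w x) ^ 5) =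
        (wl.map (rep cs hp.isCartan w)).map fun x => dot c x ^ 5 := by
      rw [List.map_map]
      rfl
    rw [h4]
    exact List.Perm.sum_eq ((wl_rep cs w).map _)
  rw [h3] at h2
  change (11 : ℤ) ∣ f5 c + f5 c at h2
  rw [← two_mul] at h2
  exact (Int.Prime.dvd_mul' (by norm_num : Nat.Prime 11) h2).resolve_left (by decide)

/-! ### elements of order 11 -/

variable {K : Type u} [Field K] [Fintype K] (hK : Fintype.card K = 4) {k : Type v} [Field k] [CharP k 2]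
  [IsAlgClosed k] (hk : LocFin k) (f : K →+* k)

theorem tz_conj_inv (hk : LocFin k) {ζ : k} (hζ : IsPrimitiveRoot ζ 11) {c : V} {y : ↥(chevE6.group k)}
    (h : y * tz ζ c * y⁻¹ = (tz ζ c)⁻¹) : (11 : ℤ) ∣ f5 c := by
  have hζ0 : ζ ≠ 0 := hζ.ne_zero (by norm_num)
  obtain ⟨ht, -⟩ := tz_spec hζ0 c
  have ht' : tz ζ c ∈ TL (Tj hp (k := k)) := (mem_T hk).2 ht
  have hti : (tz ζ c)⁻¹ ∈ TL (Tj hp (k := k)) := inv_mem ht'
  obtain ⟨m, -, w, n, hn, hnt, -⟩ := exists_form (tw cs0 hk) (co cs0 hk) ht' hti (c := y)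
    (by rw [gg_top cs0 hk]; exact Subgroup.mem_top _) (by rw [← h]; group)
  refine f5_dvd cs0 (w := w) fun i => ?_
  have hr : IsRoot cs0 hp.isCartan (sr i) := isRoot_sr _ _ i
  have h7 := (co cs0 hk).chi_rp (tw cs0 hk).nsys hn hr ht'
  have h8 : n * tz ζ c * n⁻¹ = (tz ζ c)⁻¹ := by rw [hnt]; group
  rw [h8] at h7
  have hmem : rep cs0 hp.isCartan w (sr i) ∈ rootList := (root0 _).1 (hr.act w)
  have h9 : ch hp (rep cs0 hp.isCartan w (sr i)) (tz ζ c) * ch hp (rep cs0 hp.isCartan w (sr i)) (tz ζ c)⁻¹ = 1 := by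
    rw [← ch_mul hk ht (inv_mem ht) hmem, mul_inv_cancel, ch_one hk hmem]
  rw [h7, ch_tz hk hζ0 c hmem, ch_tz hk hζ0 c (isRoot_sr' i), ← zpow_add₀ hζ0] at h9
  exact (hζ.zpow_eq_one_iff_dvd _).1 h9

include hK hk f in
theorem not_real' {x y : ↥(twistedE6 K 2)} (hx : orderOf x = 11) : y * x * y⁻¹ ≠ x⁻¹ := by
  intro h
  obtain ⟨ζ, hζ⟩ := exists_prim (k := k) (l := 11) (by norm_num)
  have hζ0 : ζ ≠ 0 := hζ.ne_zero (by norm_num)
  have hx1 : x ≠ 1 := fun h => by rw [h, orderOf_one] at hx; omega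
  have hP : IsPGroup 11 (Subgroup.zpowers x) := IsPGroup.of_card (n := 1) (by rw [Nat.card_zpowers, hx, pow_one])
  obtain ⟨z, hz, hPm⟩ := exists_frame_one hK hk f ws11_mem (p := 11) (by norm_num) (by norm_num) (by norm_num) hζ
    c11_fix c11_ne hP (by rwa [Ne, Subgroup.zpowers_eq_bot])
  have h1 : em 2 f x ∈ (Subgroup.zpowers (tz ζ c11)).map (MulAut.conj z).toMonoidHom := by
    rw [← hPm]
    exact Subgroup.mem_map_of_mem _ (Subgroup.mem_zpowers x)
  obtain ⟨_, ⟨m, rfl⟩, h2⟩ := h1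
  have h3 : em 2 f x = z * tz ζ c11 ^ m * z⁻¹ := h2.symm
  have h4 : ∀ n : ℕ, tz ζ c11 ^ n = tz ζ ((n : ℤ) • c11) := by
    intro n
    induction n with
    | zero => rw [pow_zero, Nat.cast_zero, zero_smul, tz_zero hk hζ0]
    | succ n ih => rw [pow_succ, ih, ← tz_add hk hζ0]; congr 1; push_cast; rw [add_smul, one_smul]
  have h11 : tz ζ c11 ^ 11 = 1 := tz_pow_eq_one hk (by norm_num) hζ c11
  obtain ⟨j, hj⟩ : ∃ j : ℕ, tz ζ c11 ^ m = tz ζ ((j : ℤ) • c11) := by
    refine ⟨(m % 11).toNat, ?_⟩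
    rw [← h4, ← zpow_natCast, Int.toNat_of_nonneg (Int.emod_nonneg m (by norm_num))]
    conv_lhs => rw [← Int.emod_add_mul_ediv m 11, zpow_add, zpow_mul]
    have h5 : tz ζ c11 ^ (11 : ℤ) = 1 := by
      rw [show (11 : ℤ) = ((11 : ℕ) : ℤ) by norm_num, zpow_natCast, h11]
    rw [h5, one_zpow, mul_one]
  rw [hj] at h3
  have h5 : (z⁻¹ * em 2 f y * z) * tz ζ ((j : ℤ) • c11) * (z⁻¹ * em 2 f y * z)⁻¹ = (tz ζ ((j : ℤ) • c11))⁻¹ := by
    have h6 : em 2 f y * em 2 f x * (em 2 f y)⁻¹ = (em 2 f x)⁻¹ := by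
      rw [← map_inv, ← map_mul, ← map_mul, h, map_inv]
    rw [h3] at h6
    calc (z⁻¹ * em 2 f y * z) * tz ζ ((j : ℤ) • c11) * (z⁻¹ * em 2 f y * z)⁻¹
        = z⁻¹ * (em 2 f y * (z * tz ζ ((j : ℤ) • c11) * z⁻¹) * (em 2 f y)⁻¹) * z := by group
      _ = _ := by rw [h6]; group
  have h6 := tz_conj_inv hk hζ h5
  rw [f5_smul] at h6
  rcases Int.Prime.dvd_mul' (by norm_num : Nat.Prime 11) h6 with h7 | h7
  · have h8 : (11 : ℤ) ∣ (j : ℤ) := Int.Prime.dvd_pow' (by norm_num : Nat.Prime 11) h7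
    apply hx1
    apply em_injective (K := K) (q := 2) f
    rw [h3, map_one]
    have h9 : tz ζ ((j : ℤ) • c11) = 1 := by
      obtain ⟨d, hd⟩ := Int.natCast_dvd_natCast.1 h8
      rw [← h4, hd, pow_mul, h11, one_pow]
    rw [h9]; group
  · exact f5_c11 h7

include hK in
/-- **The elements of order 11 of `²E₆(2)` are not real.** -/
theorem not_real {x y : ↥(twistedE6 K 2)} (hx : orderOf x = 11) : y * x * y⁻¹ ≠ x⁻¹ := by
  classical
  have hchar : CharP K 2 := by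
    obtain ⟨q, hq⟩ := CharP.exists K
    have hqp : q.Prime := CharP.char_is_prime K q
    obtain ⟨n, -, hn⟩ := FiniteField.card K q
    rw [hK] at hn
    have h1 : q ∣ 2 ^ 2 := by
      have : q ∣ q ^ (n : ℕ) := dvd_pow_self q n.ne_zero
      rw [← hn] at this
      exact this
    have h2 : q = 2 := (Nat.prime_dvd_prime_iff_eq hqp Nat.prime_two).1 (hqp.dvd_of_dvd_pow h1)
    rwa [← h2]
  let _ : Algebra (ZMod 2) K := ZMod.algebra K 2
  have hfin : Module.Finite (ZMod 2) K := Module.Finite.of_finite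
  have halg : Algebra.IsAlgebraic (ZMod 2) K := Algebra.IsAlgebraic.of_finite (ZMod 2) K
  let f : K →ₐ[ZMod 2] AlgebraicClosure (ZMod 2) := IsAlgClosed.lift
  have hk : Cfsg.Agent.BpExc.TowChev.LocFin (AlgebraicClosure (ZMod 2)) :=
    Cfsg.Agent.BpExc.TowChev.locFin_of_isAlgebraic 2 _
  exact not_real' hK hk (f : K →+* AlgebraicClosure (ZMod 2)) hx

/-! ### the alternating group -/

/-- the 11-cycle -/
def a13 : Equiv.Perm (Fin 13) := c[(0 : Fin 13), 1, 2, 3, 4, 5, 6, 7, 8, 9, 10]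

/-- an even permutation inverting the 11-cycle -/
def b13 : Equiv.Perm (Fin 13) :=
  c[(1 : Fin 13), 10] * c[(2 : Fin 13), 9] * c[(3 : Fin 13), 8] * c[(4 : Fin 13), 7] * c[(5 : Fin 13), 6] *
    c[(11 : Fin 13), 12]

theorem a13_mem : a13 ∈ alternatingGroup (Fin 13) := by
  rw [Equiv.Perm.mem_alternatingGroup]; decide +kernel

theorem b13_mem : b13 ∈ alternatingGroup (Fin 13) := by
  rw [Equiv.Perm.mem_alternatingGroup]; decide +kernel

theorem ab13 : b13 * a13 * b13⁻¹ = a13⁻¹ := by decide +kernel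

theorem a13_pow : a13 ^ 11 = 1 := by decide +kernel

theorem a13_ne : a13 ≠ 1 := by decide +kernel

/-- **N5: `A₁₃` is not a subgroup of `²E₆(2)`.** -/
theorem notE_alt13 {K : Type u} [Field K] [Fintype K] (hK : Fintype.card K = 4) :
    Cfsg.Agent.H944.TS.NotE K (.alt 13) := by
  intro L hL
  obtain ⟨e⟩ : Nonempty (↥L ≃* alternatingGroup (Fin 13)) := hL
  have hp11 : Fact (Nat.Prime 11) := ⟨by norm_num⟩
  let a : alternatingGroup (Fin 13) := ⟨a13, a13_mem⟩
  let b : alternatingGroup (Fin 13) := ⟨b13, b13_mem⟩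
  have hab : b * a * b⁻¹ = a⁻¹ := Subtype.ext ab13
  have ha : orderOf a = 11 := by
    refine orderOf_eq_prime (Subtype.ext ?_) fun h => a13_ne (congrArg Subtype.val h)
    exact a13_pow
  let φ : alternatingGroup (Fin 13) →* ↥(twistedE6 K 2) := L.subtype.comp e.symm.toMonoidHom
  have hφ : Function.Injective φ := L.subtype_injective.comp e.symm.injective
  refine not_real hK (x := φ a) (y := φ b) ?_ ?_
  · rw [orderOf_injective φ hφ, ha]
  · rw [← map_inv, ← map_mul, ← map_mul, hab, map_inv]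

end Cfsg.Agent.H271.TSAlt
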